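import Cfsg.Agent.FusSys.CentralLift.Gen
import Cfsg.Agent.Fusion.Alperin

/-!
Auxiliary facts for the kernel of the lifted system.
-/

set_option autoImplicit false
set_option maxHeartbeats 400000

namespace Cfsg.Agent.FusSys.CL

open Cfsg Cfsg.FusionSystem Cfsg.Agent.FusSys

universe u v

/-- A common target for the conjugates of `Q` in a Sylow subgroup. -/
theorem exists_target {G : Type*} [Group G] [Finite G] {p : ℕ} [Fact p.Prime]
    {H Y Q : Subgroup G} (hY : IsPGroup p Y) (hs : SylIn p Y H) (hQ : Q ≤ Y) :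
    ∃ Q'' : Subgroup G, Q'' ≤ Y ∧ (∃ w ∈ H, Q.map (MulAut.conj w).toMonoidHom = Q'') ∧
      ∀ (Q₁ : Subgroup G) (v : G), v ∈ H → Q₁ ≤ Y →
        Q₁.map (MulAut.conj v).toMonoidHom = Q'' →
        ∃ u ∈ H, Q₁.map (MulAut.conj u).toMonoidHom = Q'' ∧
          ∀ x ∈ Y ⊓ Subgroup.normalizer (Q₁ : Set G), u * x * u⁻¹ ∈ Y := by
  obtain ⟨R, hR, hRs⟩ := exists_sylIn p (H ⊓ Subgroup.normalizer (Q : Set G))
  obtain ⟨w, hw, hwR⟩ := exists_conj_mem_of_sylIn hY hs hR (hRs.1.trans inf_le_left)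
  have hQR : Q ≤ R := by
    obtain ⟨m, hm, hmQ⟩ := exists_conj_mem_of_sylIn hR hRs (hY.to_le hQ)
      (le_inf (hQ.trans hs.1) Subgroup.le_normalizer)
    intro y hy
    have h1 := hmQ _ ((Subgroup.mem_normalizer_iff''.1 hm.2 y).1 hy)
    convert h1 using 1
    group
  refine ⟨Q.map (MulAut.conj w).toMonoidHom, ?_, ⟨w, hw, rfl⟩, fun Q₁ v hv hQ₁ hvQ => ?_⟩
  · rintro _ ⟨x, hx, rfl⟩
    exact hwR x (hQR hx)
  obtain ⟨m₀, hm₀def⟩ : ∃ m₀, m₀ = w⁻¹ * v := ⟨_, rfl⟩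
  have hm₀ : m₀ ∈ H := hm₀def ▸ H.mul_mem (H.inv_mem hw) hv
  have hQQ : Q₁.map (MulAut.conj m₀).toMonoidHom = Q := by
    have e : (MulAut.conj m₀).toMonoidHom =
        (MulAut.conj w⁻¹).toMonoidHom.comp (MulAut.conj v).toMonoidHom := by
      ext x
      simp [hm₀def, mul_assoc]
    rw [e, ← Subgroup.map_map, hvQ, Subgroup.map_map,
      show (MulAut.conj w⁻¹).toMonoidHom.comp (MulAut.conj w).toMonoidHom = MonoidHom.id G from
        MonoidHom.ext fun x => by simp [mul_assoc]]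
    exact Subgroup.map_id Q
  let A := (Y ⊓ Subgroup.normalizer (Q₁ : Set G)).map (MulAut.conj m₀).toMonoidHom
  have hA : IsPGroup p A := (hY.to_le inf_le_left).map _
  have hAle : A ≤ H ⊓ Subgroup.normalizer (Q : Set G) := by
    rintro _ ⟨x, hx, rfl⟩
    refine ⟨H.mul_mem (H.mul_mem hm₀ (hs.1 hx.1)) (H.inv_mem hm₀), ?_⟩
    have h1 := Subgroup.le_normalizer_map (MulAut.conj m₀).toMonoidHom
      (Subgroup.mem_map_of_mem _ hx.2 : (MulAut.conj m₀).toMonoidHom x ∈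
        (Subgroup.normalizer (Q₁ : Set G)).map (MulAut.conj m₀).toMonoidHom)
    rwa [hQQ] at h1
  obtain ⟨m, hm, hmA⟩ := exists_conj_mem_of_sylIn hR hRs hA hAle
  refine ⟨w * m * m₀, H.mul_mem (H.mul_mem hw hm.1) hm₀, ?_, fun x hx => ?_⟩
  · have e : (MulAut.conj (w * m * m₀)).toMonoidHom = (MulAut.conj w).toMonoidHom.comp
        ((MulAut.conj m).toMonoidHom.comp (MulAut.conj m₀).toMonoidHom) := by
      ext x
      simp [mul_assoc]
    rw [e, ← Subgroup.map_map, ← Subgroup.map_map, hQQ]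
    congr 1
    ext y
    constructor
    · rintro ⟨x, hx, rfl⟩
      exact (Subgroup.mem_normalizer_iff.1 hm.2 x).1 hx
    · intro hy
      refine ⟨m⁻¹ * y * m, (Subgroup.mem_normalizer_iff''.1 hm.2 y).1 hy, ?_⟩
      simp [mul_assoc]
  · have h1 := hwR _ (hmA _ ⟨x, hx, rfl⟩)
    convert h1 using 1
    simp [mul_assoc]

variable {Ω : Type u} [Group Ω] {S Z P Q R : Subgroup Ω} {F : FusionSystem S} {p : ℕ}
variable {Ω' : Type v} [Group Ω'] {S' T' P' Q' : Subgroup Ω'} {θ : S →* Ω'}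
variable {Fb : FusionSystem S'} {Eb : FusionSystem T'} {f g : Ω → Ω}

theorem image_mono (hPQ : P ≤ Q) : imageAlong θ P ≤ imageAlong θ Q := by
  rintro _ ⟨s, hs, rfl⟩
  exact ⟨s, hPQ hs, rfl⟩

/-- The elements of `T` acting on `P` as members of a group of automorphisms. -/
def preAut (T : Subgroup Ω) {P : Subgroup Ω} (Q : Subgroup (MulAut P)) : Subgroup Ω where
  carrier := {t | t ∈ T ∧ t ∈ Subgroup.normalizer (P : Set Ω) ∧
    ∃ α ∈ Q, ∀ x ∈ P, apl α x = t * x * t⁻¹}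
  one_mem' := ⟨one_mem _, one_mem _, 1, one_mem _, fun x hx => by rw [apl_one hx]; group⟩
  mul_mem' := by
    rintro a b ⟨ha, han, α, hα, hαx⟩ ⟨hb, hbn, β, hβ, hβx⟩
    refine ⟨mul_mem ha hb, mul_mem han hbn, α * β, mul_mem hα hβ, fun x hx => ?_⟩
    rw [apl_mul _ _ hx, hαx _ (apl_mem β hx), hβx x hx]
    group
  inv_mem' := by
    rintro a ⟨ha, han, α, hα, hαx⟩
    refine ⟨inv_mem ha, inv_mem han, α⁻¹, inv_mem hα, fun x hx => ?_⟩
    have hy := apl_mem α⁻¹ hx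
    conv_rhs => rw [← apl_apl_inv α hx, hαx _ hy]
    group

theorem preAut_le_norm {Q : Subgroup (MulAut P)} :
    preAut (preimageAlong θ T') Q ≤ normalizerIn (preimageAlong θ T') P := fun _ hx => ⟨hx.1, hx.2.1⟩

theorem preAut_mono {Q Q₁ : Subgroup (MulAut P)} (h : Q ≤ Q₁) :
    preAut (preimageAlong θ T') Q ≤ preAut (preimageAlong θ T') Q₁ := by
  rintro x ⟨h1, h2, α, hα, hαx⟩
  exact ⟨h1, h2, α, h hα, hαx⟩

theorem le_preAut {Q : Subgroup (MulAut P)} (hPT : P ≤ preimageAlong θ T') (hI : Inn P ≤ Q) :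
    P ≤ preAut (preimageAlong θ T') Q := fun z hz =>
  ⟨hPT hz, Subgroup.le_normalizer hz, MulAut.conj ⟨z, hz⟩, hI ⟨_, rfl⟩,
    fun _ hx => apl_conj ⟨z, hz⟩ hx⟩

theorem inn_map_conj (a : MulAut P) : (Inn P).map (MulAut.conj a).toMonoidHom = Inn P :=
  le_antisymm (Subgroup.map_le_iff_le_comap.2 fun _ hx => (innNormal P).conj_mem _ hx a)
    fun x hx => ⟨a⁻¹ * x * a,
      by simpa using (innNormal P).conj_mem x hx a⁻¹, by simp [mul_assoc]⟩

theorem lt_preAut {Q : Subgroup (MulAut P)} (hPT : P ≤ preimageAlong θ T') (hI : Inn P < Q)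
    (hQ : Q ≤ autInducedBy (preimageAlong θ T') P) : P < preAut (preimageAlong θ T') Q := by
  refine lt_of_le_of_ne (le_preAut hPT hI.le) fun he => hI.not_ge fun α hα => ?_
  obtain ⟨t, ht, htn, htx⟩ := mem_autInducedBy_iff.1 (hQ hα)
  have htP : t ∈ P := he.ge ⟨ht, htn, α, hα, htx⟩
  exact ⟨⟨t, htP⟩, apl_ext fun x hx => by rw [apl_conj _ hx, htx x hx]⟩

/-- The kernel of the lifted system at `P` consists of inner automorphisms. -/
def KeyAt (p : ℕ) (F : FusionSystem S) (Z : Subgroup Ω) (θ : S →* Ω') (Eb : FusionSystem T')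
    (P : Subgroup Ω) : Prop :=
  ∀ f, Lift p F Z θ Eb P f → Iso F P P f → (∀ x ∈ P, x⁻¹ * f x ∈ Z) →
    ∃ z ∈ P, ∀ x ∈ P, f x = z * x * z⁻¹

/-- The subgroups whose image is conjugate in `Eb` to that of `P`. -/
def Cls (Z : Subgroup Ω) (θ : S →* Ω') (Eb : FusionSystem T') (P R : Subgroup Ω) : Prop :=
  Z ≤ R ∧ R ≤ preimageAlong θ T' ∧ Eb.IsConj (imageAlong θ R) (imageAlong θ P)

/-- A lifted map of the normalizer carrying `R` to `P`. -/
def NormMap (p : ℕ) (F : FusionSystem S) (Z : Subgroup Ω) (θ : S →* Ω') (Eb : FusionSystem T')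
    (P R : Subgroup Ω) (g : Ω → Ω) : Prop :=
  Lift p F Z θ Eb (normalizerIn (preimageAlong θ T') R) g ∧ Iso F R P g

/-- The lifted maps acting on the class of `P` through `star`. -/
def Rel (p : ℕ) (F : FusionSystem S) (Z : Subgroup Ω) (θ : S →* Ω') (Eb : FusionSystem T')
    (P Q : Subgroup Ω) (f : Ω → Ω) : Prop :=
  Lift p F Z θ Eb Q f ∧ ∀ (R R' : Subgroup Ω) (g g' : Ω → Ω), R ≤ Q → Cls Z θ Eb P R →
    Iso F R R' f → NormMap p F Z θ Eb P R g → NormMap p F Z θ Eb P R' g' →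
    ∃ σ ∈ star p F θ Eb P, ∀ x ∈ R, g' (f x) = apl σ (g x)

namespace Setting

variable (h : Setting p F Z θ Fb Eb) [Fact p.Prime] [Finite S]
include h

theorem mem_of_le (hM : Mem Z θ Eb P) (hPQ : P ≤ Q) (hQ : Q ≤ preimageAlong θ T') :
    Mem Z θ Eb Q :=
  haveI := h.finite_T'
  ⟨hM.1.trans hPQ, hQ, centric_of_le hM.2.2 (image_mono hPQ) (h.image_le hQ)⟩

theorem mem_of_fix (hM : Mem Z θ Eb P) {t : Ω} (ht : t ∈ preimageAlong θ T')
    (hx : ∀ x ∈ P, t * x * t⁻¹ = x) : t ∈ P :=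
  h.mem_of_conj_D hM ht fun x hxP => by rw [hx x hxP, inv_mul_cancel]; exact Z.one_mem

/-- A map over an isomorphism of images is an isomorphism onto the preimage. -/
theorem iso_of_image (hf : Mor F R f) (hZR : Z ≤ R) (hZP : Z ≤ P) (hP : P ≤ S) {f' : Ω' → Ω'}
    {G : FusionSystem T'} (hf' : Iso G (imageAlong θ R) (imageAlong θ P) f')
    (hx : ∀ x ∈ R, f' (thFn θ x) = thFn θ (f x)) : Iso F R P f := by
  refine ⟨hf, fun y => ⟨fun hy => ?_, ?_⟩⟩
  · obtain ⟨z, hz, hzy⟩ := hf'.exists_eq (th_mem_image (θ := θ) hy)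
    obtain ⟨x, hxR, rfl⟩ := (mem_imageAlong hf.le).1 hz
    rw [hx x hxR] at hzy
    have hd := (h.th_eq (hf.mem_S hxR) (hP hy)).1 hzy
    refine ⟨x * ((f x)⁻¹ * y), R.mul_mem hxR (hZR hd), ?_⟩
    rw [hf.map_mul hxR (hZR hd), h.fix hf (hZR hd) hd]
    group
  · rintro ⟨x, hxR, rfl⟩
    refine (h.th_mem hZP hP (hf.mem_S hxR)).1 ?_
    rw [← hx x hxR]
    exact hf'.mem (th_mem_image hxR)

theorem cls_of_iso (hR : Cls Z θ Eb P R) (hf : Lift p F Z θ Eb R f) (hi : Iso F R Q f) :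
    Cls Z θ Eb P Q := by
  obtain ⟨-, h2, f', hf', hf'f⟩ := h.lift_over hf
  have hQT : Q ≤ preimageAlong θ T' := fun y hy => by
    obtain ⟨x, hx, rfl⟩ := hi.exists_eq hy; exact h2 x hx
  refine ⟨fun z hz => ?_, hQT, isConj_trans (isConj_symm (Iso.isConj (f := f') ⟨hf', fun w => ?_⟩))
    hR.2.2⟩
  · rw [← h.fix hi.1 (hR.1 hz) hz]
    exact hi.mem (hR.1 hz)
  rw [mem_imageAlong (hQT.trans pre_le)]
  constructor
  · rintro ⟨y, hy, rfl⟩
    obtain ⟨x, hx, rfl⟩ := hi.exists_eq hy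
    exact ⟨thFn θ x, th_mem_image hx, hf'f x hx⟩
  · rintro ⟨z, hz, rfl⟩
    obtain ⟨x, hx, rfl⟩ := (mem_imageAlong (hR.2.1.trans pre_le)).1 hz
    exact ⟨f x, hi.mem hx, (hf'f x hx).symm⟩

theorem cls_self (hM : Mem Z θ Eb P) : Cls Z θ Eb P P :=
  ⟨hM.1, hM.2.1, isConj_refl (h.image_le hM.2.1)⟩

theorem exists_normMap (hM : Mem Z θ Eb P) (hP : F.IsFullyNormalized P) (hR : Cls Z θ Eb P R) :
    ∃ g, NormMap p F Z θ Eb P R g := by
  haveI := h.finite'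
  haveI := h.finite_T'
  obtain ⟨g', hg', hg'i, -⟩ := exists_mor_to_fullyNormalized h.isP_T' h.Esat
    (h.image_fullyNormalized_sub hP hM.1 hM.2.1) hR.2.2
  obtain ⟨g, hg, hgx⟩ := h.exists_lift_Eb hg'
  rw [h.pre_normalizer h.T'sc.1 hR.1 (hR.2.1.trans pre_le)] at hg hgx
  have hle := le_normalizerIn hR.2.1
  exact ⟨g, hg, h.iso_of_image (hg.1.mono hle) hR.1 hM.1 hP.1 hg'i fun x hx => hgx x (hle hx)⟩

theorem normMap_id (hM : Mem Z θ Eb P) : NormMap p F Z θ Eb P P id :=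
  ⟨lift_id (normalizerIn_le _ _), iso_id (hM.2.1.trans pre_le)⟩

theorem mem_A_of_lift (hf : Lift p F Z θ Eb P f) {α : MulAut P} (hα : α ∈ F.autGroup P)
    (hx : ∀ x ∈ P, apl α x = f x) : α ∈ grpA F θ Eb P := by
  obtain ⟨hPT, -, f', hf', hf'f⟩ := h.lift_over hf
  have hPS : P ≤ S := hPT.trans pre_le
  have hiso : Iso Eb (imageAlong θ P) (imageAlong θ P) f' := ⟨hf', fun w => by
    rw [mem_imageAlong hPS]
    constructor
    · rintro ⟨y, hy, rfl⟩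
      refine ⟨thFn θ (apl α⁻¹ y), th_mem_image (apl_mem _ hy), ?_⟩
      rw [hf'f _ (apl_mem _ hy), ← hx _ (apl_mem _ hy), apl_apl_inv α hy]
    · rintro ⟨z, hz, rfl⟩
      obtain ⟨x, hxP, rfl⟩ := (mem_imageAlong hPS).1 hz
      exact ⟨apl α x, apl_mem α hxP, by rw [hf'f x hxP, hx x hxP]⟩⟩
  obtain ⟨a, ha, hax⟩ := hiso.exists_mem_autGroup
  exact ⟨hα, a, ha, fun x hxP => by rw [hax _ (th_mem_image hxP), hf'f x hxP, hx x hxP]⟩

theorem autT_sylIn_star (hM : Mem Z θ Eb P) (hP : F.IsFullyNormalized P) :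
    SylIn p (autInducedBy (preimageAlong θ T') P) (star p F θ Eb P) := by
  haveI := finite_of_le hP.1
  haveI : Finite (MulAut P) := Finite.of_injective _ MulEquiv.toEquiv_injective
  have h1 := sylIn_inter_normal (h.sylIn_A hM.1 hM.2.1 hP) (h.star_le_A hM.2.1)
    ⟨fun α hα a => h.star_normal_fn hM hP a.2 hα⟩
  have e : autInducedBy S P ⊓ grpA F θ Eb P ⊓ star p F θ Eb P =
      autInducedBy (preimageAlong θ T') P :=
    le_antisymm (fun α hα => h.star_inf_autS hM hP hα.2 hα.1.1) fun α hα =>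
      ⟨⟨autInducedBy_mono pre_le hα, h.autT_le_A hM.2.1 hα⟩, autT_le_star hα⟩
  rwa [e] at h1

/-- A map acting on `P` as `β` carries the elements inducing `Q` onto those inducing the
conjugate of `Q`. -/
theorem ext_iso (hM : Mem Z θ Eb P) {Q Q₁ : Subgroup (MulAut P)} {β : MulAut P}
    (hI : Inn P ≤ Q) (hQ : Q ≤ autInducedBy (preimageAlong θ T') P)
    (hmap : Q.map (MulAut.conj β).toMonoidHom = Q₁) {e : Ω → Ω}
    (he : Mor F (preAut (preimageAlong θ T') Q) e) (hx : ∀ x ∈ P, e x = apl β x) :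
    Iso F (preAut (preimageAlong θ T') Q) (preAut (preimageAlong θ T') Q₁) e ∧ Iso F P P e := by
  have hle := le_preAut hM.2.1 hI
  have hiP : Iso F P P e := ⟨he.mono hle, fun y =>
    ⟨fun hy => ⟨apl β⁻¹ y, apl_mem _ hy, by rw [hx _ (apl_mem _ hy), apl_apl_inv β hy]⟩,
      fun ⟨x, hxP, hxy⟩ => by rw [← hxy, hx x hxP]; exact apl_mem β hxP⟩⟩
  refine ⟨⟨he, fun y => ⟨fun hy => ?_, ?_⟩⟩, hiP⟩
  · obtain ⟨hyT, hyn, α', hα', hαy⟩ := hy
    rw [← hmap] at hα'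
    obtain ⟨α, hα, rfl⟩ := hα'
    obtain ⟨t, ht, htn, htx⟩ := mem_autInducedBy_iff.1 (hQ hα)
    have htQ : t ∈ preAut (preimageAlong θ T') Q := ⟨ht, htn, α, hα, htx⟩
    have hd : (e t)⁻¹ * y ∈ P := by
      refine h.mem_of_fix hM (Subgroup.mul_mem _ (Subgroup.inv_mem _
        (StronglyClosed.mor_mem h.Tsc he htQ ht)) hyT) fun x hxP => ?_
      have h1 := hαy x hxP
      have hw : apl β⁻¹ x ∈ P := apl_mem _ hxP
      rw [show (MulAut.conj β).toMonoidHom α = β * α * β⁻¹ from rfl, apl_mul _ _ hxP,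
        apl_mul _ _ (apl_mem _ hxP), htx _ hw,
        ← hx _ ((Subgroup.mem_normalizer_iff.1 htn _).1 hw), he.map_conj htQ (hle hw),
        hx _ hw, apl_apl_inv β hxP] at h1
      calc (e t)⁻¹ * y * x * ((e t)⁻¹ * y)⁻¹ = (e t)⁻¹ * (y * x * y⁻¹) * e t := by group
        _ = x := by rw [← h1]; group
    obtain ⟨w, hw, hwe⟩ := hiP.exists_eq hd
    exact ⟨t * w, Subgroup.mul_mem _ htQ (hle hw), by rw [he.map_mul htQ (hle hw), hwe]; group⟩
  · rintro ⟨t, htQ, rfl⟩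
    obtain ⟨htT, htn, α, hα, htx⟩ := id htQ
    refine ⟨StronglyClosed.mor_mem h.Tsc he htQ htT, (he.mem_normalizerIn hle hiP htQ htn).2,
      β * α * β⁻¹, hmap ▸ ⟨α, hα, rfl⟩, fun x hxP => ?_⟩
    have hw : apl β⁻¹ x ∈ P := apl_mem _ hxP
    rw [apl_mul _ _ hxP, apl_mul _ _ (apl_mem _ hxP), htx _ hw,
      ← hx _ ((Subgroup.mem_normalizer_iff.1 htn _).1 hw), he.map_conj htQ (hle hw), hx _ hw,
      apl_apl_inv β hxP]

end Setting

end Cfsg.Agent.FusSys.CL
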