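import Cfsg.Agent.FusSys.Sub
import Cfsg.Agent.FusSys.Factor
import Cfsg.Agent.FusSys.FactorFree
import Cfsg.Agent.FusSys.SolvableSys
import Cfsg.Agent.FusSys.WeaklyNormalAux

/-!
Setting for lifting a normal subsystem of `F/Z`, `Z` central, to `F`: basic facts.
-/

set_option autoImplicit false

namespace Cfsg.Agent.FusSys.CL

open Cfsg Cfsg.FusionSystem Cfsg.Agent.FusSys

universe u v

variable {Ω : Type u} [Group Ω] {S Z P Q : Subgroup Ω} {F : FusionSystem S} {p : ℕ}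
variable {Ω' : Type v} [Group Ω'] {S' T' P' Q' : Subgroup Ω'} {θ : S →* Ω'}
variable {Fb : FusionSystem S'} {Eb : FusionSystem T'} {f g : Ω → Ω}

/-- A normal subsystem `Eb` of the factor system `Fb` of `F` by the central subgroup `Z`. -/
structure Setting (p : ℕ) (F : FusionSystem S) (Z : Subgroup Ω) (θ : S →* Ω')
    (Fb : FusionSystem S') (Eb : FusionSystem T') : Prop where
  isP : IsPGroup p S
  sat : F.IsSaturated p
  fac : F.IsFactorSystem Z θ Fb
  cen : F.IsCentral Z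
  normal : Eb.IsNormalIn Fb p

/-- Maps of an invariant subsystem are carried to maps of it by isomorphisms of the system. -/
theorem aut_of_iso {E : FusionSystem T'} (hE : E.IsInvariantIn Fb) (hP : P' ≤ T') (hQ : Q' ≤ T')
    {f' : Ω' → Ω'} (hf : Iso Fb P' Q' f') {a : MulAut P'} (ha : a ∈ E.autGroup P')
    {c : MulAut Q'} (hc : ∀ x ∈ P', apl c (f' x) = f' (apl a x)) : c ∈ E.autGroup Q' := by
  obtain ⟨β, hβ, e, he, hfe⟩ := exists_frattini hE hP hf.1
  obtain ⟨R, hR⟩ := he.exists_iso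
  obtain ⟨e', he', he'e, -⟩ := hR.symm
  have hm : Mor E R (e ∘ apl a ∘ e') :=
    (he'.1.comp (iso_apl hP ha).1 fun x hx => he'.mem hx).comp he fun x hx => apl_mem a (he'.mem hx)
  obtain ⟨k, hk, hkx⟩ := exists_transport hE hm hβ
  have hRT : R ≤ T' := hR.right_le
  have himg : Q' ≤ (R.subgroupOf T').map (T'.subtype.comp β.toMonoidHom) := fun y hy => by
    obtain ⟨x, hx, rfl⟩ := hf.exists_eq hy
    refine ⟨⟨e x, hRT (hR.mem hx)⟩, hR.mem hx, ?_⟩
    show ((β _ : T') : Ω') = f' x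
    rw [← apl_apply β (hRT (hR.mem hx)), ← hfe x hx]
  refine (mem_autGroup_iff hQ).2 ⟨(hk.mono himg).congr fun y hy => ?_, fun y => ⟨fun hy => ?_, ?_⟩⟩
  · obtain ⟨x, hx, rfl⟩ := hf.exists_eq hy
    have h1 := hkx _ (hR.mem hx)
    rw [← hfe x hx] at h1
    rw [h1, hc x hx, hfe _ (apl_mem a hx)]
    show _ = apl β (e (apl a (e' (e x))))
    rw [he'e x hx]
  · exact ⟨apl c⁻¹ y, apl_mem _ hy, apl_apl_inv _ hy⟩
  · rintro ⟨x, hx, rfl⟩
    exact apl_mem _ hx

/-- Isomorphisms of the system preserve being centric in an invariant subsystem. -/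
theorem centric_of_iso [Finite S'] {E : FusionSystem T'} (hE : E.IsInvariantIn Fb) (hP : P' ≤ T')
    {f' : Ω' → Ω'} (hf : Iso Fb P' Q' f') (hc : E.IsCentric P') : E.IsCentric Q' := by
  have hT : Fb.StronglyClosed T' := hE.2.1
  have hQ : Q' ≤ T' := fun y hy => by
    obtain ⟨x, hx, rfl⟩ := hf.exists_eq hy
    exact StronglyClosed.mor_mem hT hf.1 hx (hP hx)
  haveI := finite_of_le hT.1
  obtain ⟨β, hβ, e, he, hfe⟩ := exists_frattini hE hP hf.1
  obtain ⟨R₀, hR₀⟩ := he.exists_iso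
  refine ⟨hQ, fun R hR => ?_⟩
  obtain ⟨k, hk⟩ := isConj_iff.1 hR
  obtain ⟨h, hh, hhx⟩ := exists_transport hE hk.1 (Subgroup.inv_mem _ hβ)
  have hR₀T := hR₀.right_le
  have himg : R₀ ≤ (Q'.subgroupOf T').map (T'.subtype.comp (β⁻¹).toMonoidHom) := fun z hz => by
    obtain ⟨x, hx, rfl⟩ := hR₀.exists_eq hz
    refine ⟨⟨f' x, hQ (hf.mem hx)⟩, hf.mem hx, ?_⟩
    show ((β⁻¹ _ : T') : Ω') = e x
    rw [← apl_apply β⁻¹ (hQ (hf.mem hx)), hfe x hx, apl_inv_apl β (hR₀T (hR₀.mem hx))]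
  obtain ⟨R₁, hR₁⟩ := (hh.mono himg).exists_iso
  intro y hy
  have hz : apl β⁻¹ y ∈ centralizerIn T' R₁ := by
    refine ⟨apl_mem _ hy.1, Subgroup.mem_centralizer_iff.2 fun w hw => ?_⟩
    obtain ⟨z, hz, rfl⟩ := hR₁.exists_eq hw
    obtain ⟨x, hx, rfl⟩ := hR₀.exists_eq hz
    have hfx := hf.mem hx
    have h1 := hhx _ hfx
    rw [hfe x hx, apl_inv_apl β (hR₀T (hR₀.mem hx)), ← hfe x hx] at h1
    rw [h1]
    have hkR : k (f' x) ∈ R := hk.mem hfx
    have hm := (iso_apl (F := Fb) hT.1 (Subgroup.inv_mem _ hβ)).1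
    rw [← hm.map_mul (hk.right_le hkR) hy.1, ← hm.map_mul hy.1 (hk.right_le hkR),
      Subgroup.mem_centralizer_iff.1 hy.2 _ hkR]
  have h2 := (hc.2 R₁ (isConj_trans hR₀.isConj hR₁.isConj)) hz
  obtain ⟨z, hz', hzy⟩ := hR₁.exists_eq h2
  obtain ⟨x, hx, rfl⟩ := hR₀.exists_eq hz'
  have hfx := hf.mem hx
  have h1 := hhx _ hfx
  rw [hfe x hx, apl_inv_apl β (hR₀T (hR₀.mem hx)), ← hfe x hx, hzy] at h1
  have h3 := congrArg (apl β) h1
  rw [apl_apl_inv β hy.1, apl_apl_inv β (hk.right_le (hk.mem hfx))] at h3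
  exact h3 ▸ hk.mem hfx

theorem th_mem_image {x : Ω} (hx : x ∈ P) : thFn θ x ∈ imageAlong θ P := by
  by_cases h : x ∈ S
  · exact ⟨⟨x, h⟩, hx, (thFn_apply h).symm⟩
  · rw [thFn, dif_neg h]; exact one_mem _

namespace Setting

variable (h : Setting p F Z θ Fb Eb)

include h

theorem Z_le : Z ≤ S := h.cen.1

theorem ker : ∀ s : S, θ s = 1 ↔ (s : Ω) ∈ Z := h.fac.2.1

theorem range_eq : θ.range = S' := h.fac.2.2.1

theorem fix (hf : Mor F P f) {x : Ω} (hx : x ∈ P) (hz : x ∈ Z) : f x = x := by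
  obtain ⟨g, -, hgf, hgZ⟩ := (isCentral_iff.1 h.cen).2 P f hf
  rw [← hgf x hx, hgZ x hz]

theorem Zsc : F.StronglyClosed Z := stronglyClosed_iff.2
  ⟨h.Z_le, fun _ _ hR hf x hx => by rw [h.fix hf hx (hR hx)]; exact hR hx⟩

theorem comm {z s : Ω} (hz : z ∈ Z) (hs : s ∈ S) : s * z = z * s := by
  have h1 := h.fix (mor_conj (F := F) le_rfl hs) (h.Z_le hz) hz
  calc s * z = s * z * s⁻¹ * s := by group
    _ = z * s := by rw [h1]

theorem finite' [Finite S] : Finite S' :=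
  h.range_eq ▸ (Finite.of_surjective _ θ.rangeRestrict_surjective : Finite θ.range)

theorem isP' : IsPGroup p S' :=
  h.range_eq ▸ h.isP.of_surjective _ θ.rangeRestrict_surjective

theorem Fb_sat [Fact p.Prime] [Finite S] : Fb.IsSaturated p :=
  factor_saturated h.isP h.sat h.fac h.Zsc

theorem Einv : Eb.IsInvariantIn Fb := h.normal.1.2.2

theorem Esub : Eb.IsSubsystemOf Fb := h.Einv.1

theorem Esat : Eb.IsSaturated p := h.normal.1.1

theorem T'sc : Fb.StronglyClosed T' := h.Einv.2.1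

theorem isP_T' : IsPGroup p T' := h.isP'.to_le h.T'sc.1

theorem finite_T' [Finite S] : Finite T' :=
  haveI := h.finite'
  finite_of_le h.T'sc.1

theorem Tsc [Fact p.Prime] [Finite S] : F.StronglyClosed (preimageAlong θ T') :=
  stronglyClosed_preimage h.isP h.sat h.fac h.Zsc h.T'sc

theorem Z_le_pre (P' : Subgroup Ω') : Z ≤ preimageAlong θ P' := le_preimageAlong h.ker h.Z_le P'

theorem pre_image [Finite S] (hZ : Z ≤ P) (hP : P ≤ S) : preimageAlong θ (imageAlong θ P) = P := by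
  rw [preimage_image h.ker h.Zsc hP, sup_eq_left.2 hZ]

theorem image_pre (hP : P' ≤ S') : imageAlong θ (preimageAlong θ P') = P' :=
  imageAlong_preimageAlong (h.range_eq ▸ hP)

theorem th_mem [Finite S] (hZ : Z ≤ P) (hP : P ≤ S) {x : Ω} (hx : x ∈ S) :
    thFn θ x ∈ imageAlong θ P ↔ x ∈ P := by
  refine ⟨fun h1 => ?_, fun h1 => th_mem_image h1⟩
  rw [← h.pre_image hZ hP]
  exact mem_pre.2 ⟨hx, h1⟩

theorem th_S' {x : Ω} (hx : x ∈ S) : thFn θ x ∈ S' := h.range_eq ▸ thFn_mem_range x hx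

theorem image_le_S' (P : Subgroup Ω) : imageAlong θ P ≤ S' :=
  h.range_eq ▸ imageAlong_le_range θ P

theorem image_le (hP : P ≤ preimageAlong θ T') : imageAlong θ P ≤ T' := fun _ hz => by
  obtain ⟨x, hx, rfl⟩ := (mem_imageAlong (hP.trans pre_le)).1 hz
  exact (mem_pre.1 (hP hx)).2

theorem th_eq {x y : Ω} (hx : x ∈ S) (hy : y ∈ S) : thFn θ x = thFn θ y ↔ x⁻¹ * y ∈ Z :=
  thFn_eq_iff h.ker hx hy

theorem exists_image_iso [Finite S] (hf : Iso F P Q f) (hZ : Z ≤ P) :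
    Z ≤ Q ∧ ∃ f', Iso Fb (imageAlong θ P) (imageAlong θ Q) f' ∧
      ∀ x ∈ P, f' (thFn θ x) = thFn θ (f x) := by
  refine ⟨fun z hz => ?_, exists_iso_image h.fac h.Zsc hf hZ⟩
  rw [← h.fix hf.1 (hZ hz) hz]
  exact hf.mem (hZ hz)

theorem exists_lift {f' : Ω' → Ω'} (hf : Mor Fb P' f') :
    ∃ f, Mor F (preimageAlong θ P') f ∧
      ∀ x ∈ preimageAlong θ P', f' (thFn θ x) = thFn θ (f x) :=
  ((mor_factor h.fac h.Zsc).1 hf).2

theorem exists_lift_iso [Finite S] {f' : Ω' → Ω'} (hf : Iso Fb P' Q' f') :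
    ∃ f, Iso F (preimageAlong θ P') (preimageAlong θ Q') f ∧
      ∀ x ∈ preimageAlong θ P', f' (thFn θ x) = thFn θ (f x) :=
  exists_iso_lift h.fac h.Zsc hf

/-- Normalizers of images. -/
theorem th_normalizer [Finite S] (hZ : Z ≤ P) (hP : P ≤ S) {x : Ω} (hx : x ∈ S) :
    thFn θ x ∈ Subgroup.normalizer (imageAlong θ P : Set Ω') ↔
      x ∈ Subgroup.normalizer (P : Set Ω) := by
  haveI := finite_of_le hP
  haveI := h.finite'
  haveI := finite_of_le (h.image_le_S' P)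
  constructor
  · intro hn
    refine mem_normalizer_of_conj_mem fun y hy => ?_
    have h1 := (Subgroup.mem_normalizer_iff.1 hn _).1 (th_mem_image (θ := θ) hy)
    rw [← thFn_conj hx (hP hy)] at h1
    exact (h.th_mem hZ hP (S.mul_mem (S.mul_mem hx (hP hy)) (S.inv_mem hx))).1 h1
  · intro hn
    refine mem_normalizer_of_conj_mem fun z hz => ?_
    obtain ⟨y, hy, rfl⟩ := (mem_imageAlong hP).1 hz
    rw [← thFn_conj hx (hP hy)]
    exact th_mem_image ((Subgroup.mem_normalizer_iff.1 hn y).1 hy)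

theorem pre_normalizer [Finite S] {U : Subgroup Ω'} (hU : U ≤ S') (hZ : Z ≤ P) (hP : P ≤ S) :
    preimageAlong θ (normalizerIn U (imageAlong θ P)) = normalizerIn (preimageAlong θ U) P := by
  have _ := hU
  ext x
  rw [mem_pre]
  constructor
  · rintro ⟨hx, h1, h2⟩
    exact ⟨mem_pre.2 ⟨hx, h1⟩, (h.th_normalizer hZ hP hx).1 h2⟩
  · rintro ⟨h1, h2⟩
    obtain ⟨hx, h1'⟩ := mem_pre.1 h1
    exact ⟨hx, h1', (h.th_normalizer hZ hP hx).2 h2⟩

theorem image_fullyNormalized [Fact p.Prime] [Finite S] (hP : F.IsFullyNormalized P) (hZ : Z ≤ P) :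
    Fb.IsFullyNormalized (imageAlong θ P) := by
  haveI := h.finite'
  refine ⟨h.image_le_S' P, fun Q' hQ' => ?_⟩
  obtain ⟨f', hf'⟩ := isConj_iff.1 hQ'
  obtain ⟨f, hf, -⟩ := h.exists_lift_iso hf'
  rw [h.pre_image hZ hP.1] at hf
  have hQ'S := hf'.right_le
  have hQS : preimageAlong θ Q' ≤ S := pre_le
  obtain ⟨g, hg, hgi, hgN⟩ :=
    exists_mor_to_fullyNormalized h.isP h.sat hP (isConj_symm hf.isConj)
  have hZN : Z ≤ normalizerIn S (preimageAlong θ Q') :=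
    (h.Z_le_pre Q').trans (le_normalizerIn hQS)
  obtain ⟨M, hM⟩ := hg.exists_iso
  obtain ⟨-, g', hg', hg'g⟩ := h.exists_image_iso hM hZN
  have e1 : normalizerIn S' Q' ≤ imageAlong θ (normalizerIn S (preimageAlong θ Q')) := by
    intro z hz
    obtain ⟨x, hx, rfl⟩ := exists_pre (θ := θ) ((normalizerIn_le S' Q').trans_eq h.range_eq.symm) hz
    have hxS : x ∈ S := pre_le hx
    refine th_mem_image ⟨hxS, (h.th_normalizer (h.Z_le_pre Q') hQS hxS).1 ?_⟩
    rw [h.image_pre hQ'S]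
    exact hz.2
  have hm : ∀ z ∈ normalizerIn S' Q', g' z ∈ normalizerIn S' (imageAlong θ P) := by
    intro z hz
    obtain ⟨x, hx, rfl⟩ := (mem_imageAlong (normalizerIn_le _ _)).1 (e1 hz)
    rw [hg'g x hx]
    exact ⟨h.th_S' (hg.mem_S hx), (h.th_normalizer hZ hP.1 (hg.mem_S hx)).2 (hgN x hx).2⟩
  exact (hg'.1.mono e1).card_image_le (normalizerIn_le _ _) hm

theorem image_fullyNormalized_sub [Fact p.Prime] [Finite S] (hP : F.IsFullyNormalized P)
    (hZ : Z ≤ P) (hPT : P ≤ preimageAlong θ T') :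
    Eb.IsFullyNormalized (imageAlong θ P) :=
  haveI := h.finite'
  fullyNormalized_sub h.isP' h.Fb_sat h.T'sc h.Esub (h.image_le hPT)
    (h.image_fullyNormalized hP hZ)

end Setting

/-! ### The automorphism groups -/

/-- The automorphisms in `F` inducing on the image an automorphism of `Eb`. -/
def grpA (F : FusionSystem S) (θ : S →* Ω') (Eb : FusionSystem T') (P : Subgroup Ω) :
    Subgroup (MulAut P) where
  carrier := {α | α ∈ F.autGroup P ∧
    ∃ a ∈ Eb.autGroup (imageAlong θ P), ∀ x ∈ P, apl a (thFn θ x) = thFn θ (apl α x)}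
  one_mem' := ⟨one_mem _, 1, one_mem _, fun x hx => by rw [apl_one (th_mem_image hx), apl_one hx]⟩
  mul_mem' := by
    rintro α β ⟨hα, a, ha, hax⟩ ⟨hβ, b, hb, hbx⟩
    refine ⟨mul_mem hα hβ, a * b, mul_mem ha hb, fun x hx => ?_⟩
    rw [apl_mul _ _ (th_mem_image hx), hbx x hx, hax _ (apl_mem β hx), apl_mul _ _ hx]
  inv_mem' := by
    rintro α ⟨hα, a, ha, hax⟩
    refine ⟨inv_mem hα, a⁻¹, inv_mem ha, fun x hx => ?_⟩
    conv_lhs => rw [← apl_apl_inv α hx, ← hax _ (apl_mem _ hx),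
      apl_inv_apl a (th_mem_image (apl_mem _ hx))]

/-- The automorphisms in `F` trivial modulo `Z`. -/
def grpD (F : FusionSystem S) (Z P : Subgroup Ω) : Subgroup (MulAut P) := F.autGroup P ⊓ kerMod Z P

/-- The inner automorphisms trivial modulo `Z`. -/
def grpI (F : FusionSystem S) (Z P : Subgroup Ω) : Subgroup (MulAut P) := Inn P ⊓ grpD F Z P

/-- `Aut_T(P)` times the subgroup generated by the elements of order prime to `p`. -/
def star (p : ℕ) (F : FusionSystem S) (θ : S →* Ω') (Eb : FusionSystem T') (P : Subgroup Ω) :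
    Subgroup (MulAut P) :=
  autInducedBy (preimageAlong θ T') P ⊔
    (pResidual p (grpA F θ Eb P)).map (grpA F θ Eb P).subtype

/-- The subgroups with centric image. -/
def Mem (Z : Subgroup Ω) (θ : S →* Ω') (Eb : FusionSystem T') (P : Subgroup Ω) : Prop :=
  Z ≤ P ∧ P ≤ preimageAlong θ T' ∧ Eb.IsCentric (imageAlong θ P)

end Cfsg.Agent.FusSys.CL
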