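import Cfsg.Agent.FusSys.CentralLift.Groups

/-!
The automorphisms in `grpA` centralize `grpD` modulo the inner automorphisms.
-/

set_option autoImplicit false
set_option maxHeartbeats 400000

namespace Cfsg.Agent.FusSys.CL

open Cfsg Cfsg.FusionSystem Cfsg.Agent.FusSys

universe u v

variable {Ω : Type u} [Group Ω] {S Z P Q : Subgroup Ω} {F : FusionSystem S} {p : ℕ}
variable {Ω' : Type v} [Group Ω'] {S' T' P' Q' : Subgroup Ω'} {θ : S →* Ω'}
variable {Fb : FusionSystem S'} {Eb : FusionSystem T'} {f g : Ω → Ω}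

/-- `grpA` centralizes `grpD` modulo `grpI`. -/
def CommOK (F : FusionSystem S) (Z : Subgroup Ω) (θ : S →* Ω') (Eb : FusionSystem T')
    (P : Subgroup Ω) : Prop :=
  ∀ α ∈ grpA F θ Eb P, ∀ δ ∈ grpD F Z P, α * δ * α⁻¹ * δ⁻¹ ∈ grpI F Z P

theorem conjAut_conjAut {g : Ω → Ω} (hf : Iso F P Q f) (hg : Iso F Q P g)
    (hgf : ∀ x ∈ P, g (f x) = x) (α : MulAut P) : hg.conjAut (hf.conjAut α) = α := by
  refine apl_ext fun x hx => ?_
  have h1 := hg.conjAut_apl (hf.conjAut α) (hf.mem hx)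
  rw [hgf x hx, hf.conjAut_apl α hx, hgf _ (apl_mem α hx)] at h1
  exact h1

/-- Conjugating `Aut_K(P)` by the automorphism induced by a normalizing element. -/
theorem autInducedBy_conj_mem {K : Subgroup Ω} {τ σ : MulAut P} (hτ : τ ∈ autInducedBy K P)
    {k : Ω} (hk : k ∈ Subgroup.normalizer (P : Set Ω)) (hkK : k ∈ Subgroup.normalizer (K : Set Ω))
    (hσ : ∀ x ∈ P, apl σ x = k * x * k⁻¹) : σ * τ * σ⁻¹ ∈ autInducedBy K P := by
  obtain ⟨t, ht, htn, htx⟩ := mem_autInducedBy_iff.1 hτ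
  refine mem_autInducedBy_iff.2 ⟨k * t * k⁻¹, (Subgroup.mem_normalizer_iff.1 hkK t).1 ht,
    Subgroup.mul_mem _ (Subgroup.mul_mem _ hk htn) (Subgroup.inv_mem _ hk), fun x hx => ?_⟩
  have hx' := apl_mem σ⁻¹ hx
  have e : apl σ⁻¹ x = k⁻¹ * x * k := by
    have h1 := hσ _ hx'
    rw [apl_apl_inv σ hx] at h1
    conv_rhs => rw [h1]
    group
  rw [apl_mul _ _ hx, apl_mul _ _ hx', htx _ hx', hσ _ ((Subgroup.mem_normalizer_iff.1 htn _).1 hx'),
    e]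
  group

namespace Setting

variable (h : Setting p F Z θ Fb Eb) [Fact p.Prime] [Finite S]
include h

theorem mem_of_iso (hM : Mem Z θ Eb P) (hf : Iso F P Q f) : Mem Z θ Eb Q := by
  haveI := h.finite'
  obtain ⟨hZQ, f', hf', -⟩ := h.exists_image_iso hf hM.1
  refine ⟨hZQ, fun y hy => ?_, centric_of_iso h.Einv (h.image_le hM.2.1) hf' hM.2.2⟩
  obtain ⟨x, hx, rfl⟩ := hf.exists_eq hy
  exact StronglyClosed.mor_mem h.Tsc hf.1 hx (hM.2.1 hx)

theorem commOK_of_iso (hM : Mem Z θ Eb P) (hf : Iso F P Q f) (hP : CommOK F Z θ Eb P) :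
    CommOK F Z θ Eb Q := by
  have hQ := h.mem_of_iso hM hf
  obtain ⟨g, hg, hgf, hfg⟩ := hf.symm
  intro β hβ δ hδ
  have h1 := h.conjAut_mem_I hf (hP _ (h.conjAut_mem_A hg hQ.1 hQ.2.1 hM.2.1 hβ) _
    (h.conjAut_mem_D hg hδ))
  rw [← map_inv, ← map_inv, ← map_mul, ← map_mul, ← map_mul,
    conjAut_conjAut hg hf hfg] at h1
  exact h1

/-- The step at a fully normalized proper subgroup, for a coprime element normalizing the Sylow
subgroup. -/
theorem comm_step (hM : Mem Z θ Eb P) (hP : F.IsFullyNormalized P)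
    (hup : ∀ R : Subgroup Ω, Mem Z θ Eb R → Nat.card P < Nat.card R → CommOK F Z θ Eb R)
    (hne : P ≠ preimageAlong θ T')
    {c : MulAut P} (hc : c ∈ grpA F θ Eb P) {m : ℕ} (hm : m.Coprime p) (hcm : c ^ m = 1)
    (hnorm : ∀ σ ∈ autInducedBy S P ⊓ grpA F θ Eb P, c * σ * c⁻¹ ∈ autInducedBy S P)
    {δ : MulAut P} (hδ : δ ∈ grpD F Z P) : c * δ * c⁻¹ * δ⁻¹ ∈ grpI F Z P := by
  obtain ⟨hZ, hPT, hcen⟩ := id hM
  have hPS := hP.1
  have hcF := hc.1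
  haveI := h.finite'
  haveI := h.finite_T'
  -- the extension to `N_T(P)`
  obtain ⟨-, a, ha, hax⟩ := id hc
  have himT := h.image_le hPT
  have hai := iso_apl himT ha
  have hfnE := h.image_fullyNormalized_sub hP hZ hPT
  obtain ⟨e, he, hea⟩ := (isReceptive_iff.1 (receptive_of_fullyNormalized h.isP_T' h.Esat hfnE)).2
    _ _ hai
  have hci : Iso F P P (apl c) := iso_apl hPS hcF
  have hN' : normalizerIn T' (imageAlong θ P) ≤ nPhi T' (imageAlong θ P) (apl a) := by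
    intro z hz
    obtain ⟨t, ht, rfl⟩ := exists_pre (θ := θ)
      ((normalizerIn_le T' _).trans (h.T'sc.1.trans_eq h.range_eq.symm)) hz
    have htS : t ∈ S := pre_le ht
    have htT : t ∈ preimageAlong θ T' := mem_pre.2 ⟨htS, hz.1⟩
    have htn := (h.th_normalizer hZ hPS htS).1 hz.2
    obtain ⟨τ, hτ, hτx⟩ := exists_mem_autInducedBy (K := preimageAlong θ T') (P := P) htT htn
    have h1 := hnorm τ ⟨autInducedBy_mono pre_le hτ, h.autT_le_A hPT hτ⟩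
    obtain ⟨s, hs, hsn, hsx⟩ := mem_autInducedBy_iff.1 h1
    have hfx : ∀ x ∈ P, apl c (t * x * t⁻¹) = s * apl c x * s⁻¹ := fun x hx => by
      rw [← hτx x hx, ← hsx _ (apl_mem c hx), apl_mul _ _ (apl_mem c hx), apl_inv_apl c hx,
        apl_mul _ _ hx]
    obtain ⟨t', ht', -, ht'x⟩ := h.strong_conj hP hci htT htn hs hfx
    refine ⟨hz.1, hz.2, thFn θ t', (mem_pre.1 ht').2, fun z hz' => ?_⟩
    obtain ⟨x, hx, rfl⟩ := (mem_imageAlong hPS).1 hz'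
    have htx := (Subgroup.mem_normalizer_iff.1 htn x).1 hx
    rw [← thFn_conj htS (hPS hx), hax _ htx, hax x hx, hfx x hx, ← ht'x _ (apl_mem c hx),
      thFn_conj (pre_le ht') (hPS (apl_mem c hx))]
  obtain ⟨N', hN'def⟩ : ∃ N', N' = normalizerIn T' (imageAlong θ P) := ⟨_, rfl⟩
  have hPN' : imageAlong θ P ≤ N' := hN'def ▸ le_normalizerIn himT
  have hN'T : N' ≤ T' := hN'def ▸ normalizerIn_le _ _
  have heN : Mor Eb N' e := he.mono (hN'def ▸ hN')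
  have heP : Iso Eb (imageAlong θ P) (imageAlong θ P) e := hai.congr hea
  have heN' : ∀ z ∈ N', e z ∈ N' := fun z hz => by
    rw [hN'def] at hz ⊢
    exact (heN.mono (hN'def ▸ le_rfl)).mem_normalizerIn (le_normalizerIn himT) heP hz hz.2
  haveI := finite_of_le hN'T
  have heiso : Iso Eb N' N' e := ⟨heN, fun y => ⟨fun hy => heN.surj_of_card hN'T heN' le_rfl hy,
    fun ⟨x, hx, hxy⟩ => hxy ▸ heN' x hx⟩⟩
  obtain ⟨ψe, hψe, hψex⟩ := heN
  obtain ⟨k₁, hk₁, hk₁x⟩ :=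
    h.exists_lift_iso (P' := N') (Q' := N') (f' := e) ⟨⟨ψe, h.Esub _ hψe, hψex⟩, heiso.2⟩
  obtain ⟨N, hNdef⟩ : ∃ N, N = preimageAlong θ N' := ⟨_, rfl⟩
  rw [← hNdef] at hk₁ hk₁x
  have hNeq : N = normalizerIn (preimageAlong θ T') P := by
    rw [hNdef, hN'def, h.pre_normalizer h.T'sc.1 hZ hPS]
  have himN : imageAlong θ N = N' := by rw [hNdef]; exact h.image_pre (hN'T.trans h.T'sc.1)
  have hPN : P ≤ N := hNeq ▸ le_normalizerIn hPT
  have hZN : Z ≤ N := hZ.trans hPN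
  have hNT : N ≤ preimageAlong θ T' := hNeq ▸ normalizerIn_le _ _
  have hNS : N ≤ S := hNT.trans pre_le
  obtain ⟨γ, hγ, hγk⟩ := hk₁.exists_mem_autGroup
  obtain ⟨a₁, ha₁, ha₁x⟩ := (show Iso Eb (imageAlong θ N) (imageAlong θ N) e by
    rw [himN]; exact heiso).exists_mem_autGroup
  have hγA : γ ∈ grpA F θ Eb N := ⟨hγ, a₁, ha₁, fun x hx => by
    rw [hγk x hx, ← hk₁x x hx, ha₁x _ (th_mem_image hx)]⟩
  have hMN : Mem Z θ Eb N := ⟨hZN, hNT, himN ▸ centric_of_le hcen hPN' hN'T⟩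
  have hcard : Nat.card P < Nat.card N := by
    haveI := finite_of_le (pre_le : preimageAlong θ T' ≤ S)
    rw [hNeq]
    exact card_lt_of_lt' ((normalizerIn_le _ _).trans pre_le)
      (lt_normalizerIn (h.isP.to_le pre_le) (lt_of_le_of_ne hPT hne))
  -- restriction to `P`
  have hγP : ∀ x ∈ P, apl γ x ∈ P := fun x hx => by
    have hxN := hPN hx
    refine (h.th_mem hZ hPS (hNS (apl_mem γ hxN))).1 ?_
    rw [hγk x hxN, ← hk₁x x hxN]
    exact heP.mem (th_mem_image hx)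
  haveI := finite_of_le hPS
  have hγiso : Iso F P P (apl γ) :=
    ⟨(iso_apl hNS hγ).1.mono hPN, fun y => ⟨fun hy =>
      ((iso_apl hNS hγ).1.mono hPN).surj_of_card hPS hγP le_rfl hy,
      fun ⟨x, hx, hxy⟩ => hxy ▸ hγP x hx⟩⟩
  obtain ⟨α, hαF, hαx⟩ := hγiso.exists_mem_autGroup
  have hth : ∀ x ∈ P, thFn θ (apl α x) = thFn θ (apl c x) := fun x hx => by
    rw [hαx x hx, hγk x (hPN hx), ← hk₁x x (hPN hx), hea _ (th_mem_image hx), hax x hx]
  have hαA : α ∈ grpA F θ Eb P := ⟨hαF, a, ha, fun x hx => by rw [hax x hx, hth x hx]⟩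
  have hδ0 : c⁻¹ * α ∈ grpD F Z P := ⟨Subgroup.mul_mem _ (Subgroup.inv_mem _ hcF) hαF, fun x hx => by
    rw [apl_mul _ _ hx]
    have hy := apl_mem c⁻¹ (apl_mem α hx)
    refine (h.th_eq (hPS hx) (hPS hy)).1 ?_
    have h1 := hax _ hy
    rw [apl_apl_inv c (apl_mem α hx), hth x hx, ← hax x hx] at h1
    exact (congrArg (apl a⁻¹) h1).symm.trans (apl_inv_apl a (th_mem_image hy)) |> fun h2 => by
      rwa [apl_inv_apl a (th_mem_image hx)] at h2⟩
  have hconj : ∀ d ∈ grpD F Z P, α * d * α⁻¹ = c * d * c⁻¹ := fun d hd => by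
    calc α * d * α⁻¹ = c * ((c⁻¹ * α) * d) * α⁻¹ := by group
      _ = c * (d * (c⁻¹ * α)) * α⁻¹ := by rw [h.D_comm hPS hδ0 hd]
      _ = c * d * c⁻¹ := by group
  -- key: commutators with `c` lie in the part centralized modulo `grpI`
  have key : ∀ d ∈ grpD F Z P,
      α * (α * d * α⁻¹ * d⁻¹) * α⁻¹ * (α * d * α⁻¹ * d⁻¹)⁻¹ ∈ grpI F Z P := by
    intro d hd
    obtain ⟨k, hk, hkn, hkx⟩ := mem_autInducedBy_iff.1 (h.D_le_autS hP hd)
    have hkN : k ∈ Subgroup.normalizer (N : Set Ω) := by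
      haveI := finite_of_le hNS
      refine mem_normalizer_of_conj_mem fun x hx => ?_
      rw [hNeq] at hx ⊢
      exact ⟨(Subgroup.mem_normalizer_iff.1 (StronglyClosed.le_normalizer h.Tsc hk) x).1 hx.1,
        Subgroup.mul_mem _ (Subgroup.mul_mem _ hkn hx.2) (Subgroup.inv_mem _ hkn)⟩
    obtain ⟨σ, hσF, hσx⟩ := exists_conjAut (F := F) hNS hk hkN
    have hφA : γ * σ * γ⁻¹ * σ⁻¹ ∈ grpA F θ Eb N := by
      rw [show γ * σ * γ⁻¹ * σ⁻¹ = γ * (σ * γ⁻¹ * σ⁻¹) by group]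
      exact Subgroup.mul_mem _ hγA (h.conj_mem_A hZN hNT hσF (Subgroup.inv_mem _ hγA))
    obtain ⟨ε, hεdef⟩ : ∃ ε, ε = α * d * α⁻¹ * d⁻¹ := ⟨_, rfl⟩
    rw [← hεdef]
    have hεD : ε ∈ grpD F Z P :=
      hεdef ▸ Subgroup.mul_mem _ (h.conj_mem_D hPS hαF hd) (Subgroup.inv_mem _ hd)
    -- `φ` restricts to `ε`
    have hαinv : ∀ x ∈ P, apl γ⁻¹ x = apl α⁻¹ x := fun x hx => by
      conv_lhs => rw [← apl_apl_inv α hx, hαx _ (apl_mem _ hx),
        apl_inv_apl γ (hPN (apl_mem _ hx))]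
    have hσinv : ∀ x ∈ P, apl σ⁻¹ x = apl d⁻¹ x := fun x hx => by
      conv_lhs => rw [← apl_apl_inv d hx, hkx _ (apl_mem _ hx), ← hσx _ (hPN (apl_mem _ hx)),
        apl_inv_apl σ (hPN (apl_mem _ hx))]
    have hres : ∀ x ∈ P, apl (γ * σ * γ⁻¹ * σ⁻¹) x = apl ε x := fun x hx => by
      have h1 := apl_mem d⁻¹ hx
      have h2 := apl_mem α⁻¹ h1
      rw [hεdef, apl_mul _ _ (hPN hx), apl_mul _ _ hx, hσinv x hx, apl_mul _ _ (hPN h1),
        apl_mul _ _ h1, hαinv _ h1, apl_mul _ _ (hPN h2), apl_mul _ _ h2, hσx _ (hPN h2),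
        ← hkx _ h2, hαx _ (apl_mem d h2)]
    obtain ⟨φ, hφdef⟩ : ∃ φ, φ = γ * σ * γ⁻¹ * σ⁻¹ := ⟨_, rfl⟩
    rw [← hφdef] at hφA hres
    obtain ⟨-, aφ, haφ, haφx⟩ := id hφA
    have hfix : ∀ z ∈ imageAlong θ P, apl aφ z = z := fun z hz => by
      obtain ⟨x, hx, rfl⟩ := (mem_imageAlong hPS).1 hz
      rw [haφx x (hPN hx), hres x hx]
      exact ((h.th_eq (hPS hx) (hPS (apl_mem ε hx))).2 (hεD.2 x hx)).symm
    have hnN : imageAlong θ N ≤ Subgroup.normalizer (imageAlong θ P : Set Ω') := by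
      rw [himN, hN'def]; exact inf_le_right
    obtain ⟨z, hz, hzy⟩ := aut_fixing_centric h.isP_T' h.Esat (h.image_le hNT)
      (himN ▸ hPN') hnN hcen haφ hfix
    obtain ⟨w, hw, rfl⟩ := (mem_imageAlong hPS).1 (centric_self hcen hz)
    obtain ⟨ω, hωI, hωF, hωx⟩ := inn_conj (F := F) hNS (hPN hw)
    obtain ⟨ι, hιI, hιF, hιx⟩ := inn_conj (F := F) hPS hw
    have hψD : ω⁻¹ * φ ∈ grpD F Z N := ⟨Subgroup.mul_mem _ (Subgroup.inv_mem _ hωF) hφA.1, fun y hy => by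
      have hv := apl_mem ω⁻¹ (apl_mem φ hy)
      rw [apl_mul _ _ hy]
      refine (h.th_eq (hNS hy) (hNS hv)).1 ?_
      have h1 : apl φ y = w * apl ω⁻¹ (apl φ y) * w⁻¹ := by
        rw [← hωx _ hv, apl_apl_inv ω (apl_mem φ hy)]
      have h2 := haφx y hy
      rw [hzy _ (th_mem_image hy), h1, thFn_conj (hPS hw) (hNS hv)] at h2
      exact mul_left_cancel (mul_right_cancel h2)⟩
    -- the restriction of `ψ`
    have hψP : ∀ x ∈ P, apl (ω⁻¹ * φ) x = apl (ι⁻¹ * ε) x := fun x hx => by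
      have hv := apl_mem ι⁻¹ (apl_mem ε hx)
      rw [apl_mul _ _ (hPN hx), apl_mul _ _ hx, hres x hx]
      conv_lhs => rw [← apl_apl_inv ι (apl_mem ε hx), hιx _ hv, ← hωx _ (hPN hv),
        apl_inv_apl ω (hPN hv)]
    have hε' : ι⁻¹ * ε ∈ grpD F Z P := ⟨Subgroup.mul_mem _ (Subgroup.inv_mem _ hιF) hεD.1, fun x hx => by
      rw [← hψP x hx]; exact hψD.2 x (hPN hx)⟩
    have hι : ι ∈ grpI F Z P := by
      refine ⟨hιI, ?_⟩
      have := Subgroup.mul_mem _ hεD (Subgroup.inv_mem _ hε')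
      rwa [show ε * (ι⁻¹ * ε)⁻¹ = ι by group] at this
    -- induction hypothesis
    have hIH := hup N hMN hcard γ hγA _ hψD
    obtain ⟨⟨n, hn⟩, -⟩ := hIH
    obtain ⟨ε', hε'def⟩ : ∃ ε', ε' = ι⁻¹ * ε := ⟨_, rfl⟩
    rw [← hε'def] at hε' hψP
    obtain ⟨ψ, hψdef⟩ : ∃ ψ, ψ = ω⁻¹ * φ := ⟨_, rfl⟩
    rw [← hψdef] at hψP hn
    have hψinv : ∀ x ∈ P, apl ψ⁻¹ x = apl ε'⁻¹ x := fun x hx => by
      conv_lhs => rw [← apl_apl_inv ε' hx, ← hψP _ (apl_mem _ hx),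
        apl_inv_apl ψ (hPN (apl_mem _ hx))]
    have hres2 : ∀ x ∈ P, apl (α * ε' * α⁻¹ * ε'⁻¹) x = (n : Ω) * x * (n : Ω)⁻¹ := fun x hx => by
      have h1 := apl_mem ε'⁻¹ hx
      have h2 := apl_mem α⁻¹ h1
      have h3 : apl (MulAut.conj n) x = (n : Ω) * x * (n : Ω)⁻¹ := apl_conj n (hPN hx)
      rw [hn, apl_mul _ _ (hPN hx), hψinv x hx, apl_mul _ _ (hPN h1), hαinv _ h1,
        apl_mul _ _ (hPN h2), hψP _ h2, ← hαx _ (apl_mem ε' h2)] at h3
      rw [apl_mul _ _ hx, apl_mul _ _ h1, apl_mul _ _ h2, h3]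
    have hnT : (n : Ω) ∈ preimageAlong θ T' := hNT n.2
    have hnn : (n : Ω) ∈ Subgroup.normalizer (P : Set Ω) := (hNeq ▸ n.2 :
      (n : Ω) ∈ normalizerIn (preimageAlong θ T') P).2
    have hcε' : α * ε' * α⁻¹ * ε'⁻¹ ∈ grpI F Z P := h.autT_inf_D_le hM
      (mem_autInducedBy_iff.2 ⟨n, hnT, hnn, hres2⟩)
      (Subgroup.mul_mem _ (h.conj_mem_D hPS hαF hε') (Subgroup.inv_mem _ hε'))
    have hε2 : ε = ι * ε' := by rw [hε'def]; group
    rw [hε2, show α * (ι * ε') * α⁻¹ * (ι * ε')⁻¹ =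
      (α * ι * α⁻¹) * (α * ε' * α⁻¹ * ε'⁻¹) * ι⁻¹ by group]
    exact Subgroup.mul_mem _ (Subgroup.mul_mem _ (h.conj_mem_I hPS hαF hι) hcε')
      (Subgroup.inv_mem _ hι)
  -- iterate
  obtain ⟨ε, hεdef⟩ : ∃ ε, ε = c * δ * c⁻¹ * δ⁻¹ := ⟨_, rfl⟩
  rw [← hεdef]
  have hεD : ε ∈ grpD F Z P :=
    hεdef ▸ Subgroup.mul_mem _ (h.conj_mem_D hPS hcF hδ) (Subgroup.inv_mem _ hδ)
  have hεI : c * ε * c⁻¹ * ε⁻¹ ∈ grpI F Z P := by
    have := key δ hδ
    rwa [hconj δ hδ, ← hεdef, hconj ε hεD] at this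
  obtain ⟨i', hi', hcε⟩ : ∃ i' ∈ grpI F Z P, c * ε * c⁻¹ = i' * ε :=
    ⟨_, hεI, by group⟩
  have hpow : ∀ n : ℕ, ∃ i ∈ grpI F Z P, c ^ n * δ * (c ^ n)⁻¹ = i * ε ^ n * δ := by
    intro n
    induction n with
    | zero => exact ⟨1, one_mem _, by simp⟩
    | succ n ih =>
      obtain ⟨i, hi, hin⟩ := ih
      have hcδ : c * δ * c⁻¹ = ε * δ := by rw [hεdef]; group
      refine ⟨c * i * c⁻¹ * i' ^ n,
        Subgroup.mul_mem _ (h.conj_mem_I hPS hcF hi) (Subgroup.pow_mem _ hi' n), ?_⟩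
      calc c ^ (n + 1) * δ * (c ^ (n + 1))⁻¹ = c * (c ^ n * δ * (c ^ n)⁻¹) * c⁻¹ := by
            rw [pow_succ']; group
        _ = c * i * c⁻¹ * (c * ε ^ n * c⁻¹) * (c * δ * c⁻¹) := by rw [hin]; group
        _ = c * i * c⁻¹ * (i' ^ n * ε ^ n) * (ε * δ) := by
            rw [← conj_pow, hcε, (show Commute i' ε from h.D_comm hPS hi'.2 hεD).mul_pow, hcδ]
        _ = c * i * c⁻¹ * i' ^ n * ε ^ (n + 1) * δ := by rw [pow_succ]; group
  obtain ⟨i, hi, him⟩ := hpow m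
  rw [hcm, one_mul, inv_one, mul_one] at him
  have hεm : ε ^ m ∈ grpI F Z P := by
    have h1 : i * ε ^ m = 1 := mul_right_cancel (him.symm.trans (one_mul δ).symm)
    rw [show ε ^ m = i⁻¹ from (inv_eq_of_mul_eq_one_right h1).symm]
    exact Subgroup.inv_mem _ hi
  haveI : Finite (MulAut P) := Finite.of_injective _ MulEquiv.toEquiv_injective
  obtain ⟨k, hk⟩ := IsPGroup.iff_orderOf.1 (h.isPGroup_D hPS) ⟨ε, hεD⟩
  rw [Subgroup.orderOf_mk] at hk
  obtain ⟨j, hj⟩ := exists_pow_eq_self_of_coprime (x := ε) (n := m) (hk ▸ hm.pow_right k)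
  rw [← hj]
  exact Subgroup.pow_mem _ hεm j

/-- The step at `T`. -/
theorem comm_top {α : MulAut ↥(preimageAlong θ T')} (hα : α ∈ grpA F θ Eb (preimageAlong θ T'))
    {δ : MulAut ↥(preimageAlong θ T')} (hδ : δ ∈ grpD F Z (preimageAlong θ T')) :
    α * δ * α⁻¹ * δ⁻¹ ∈ grpI F Z (preimageAlong θ T') := by
  classical
  haveI := h.finite'
  haveI := h.finite_T'
  obtain ⟨T, hTdef⟩ : ∃ T, T = preimageAlong θ T' := ⟨_, rfl⟩
  subst hTdef
  have hTS : preimageAlong θ T' ≤ S := pre_le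
  haveI := finite_of_le hTS
  have himT : imageAlong θ (preimageAlong θ T') = T' := h.image_pre h.T'sc.1
  obtain ⟨-, a, ha, hax⟩ := id hα
  obtain ⟨a', ha', ha'x⟩ := (show Iso Eb T' T' (apl a) by
    have h0 := iso_apl (himT.le) ha
    generalize apl a = fa at h0 ⊢
    rwa [himT] at h0).exists_mem_autGroup
  obtain ⟨β, hβ, hβT, hβC⟩ := h.normal.2 a' ha'
  obtain ⟨W', hW'def⟩ : ∃ W', W' = T' ⊔ centralizerIn S' T' := ⟨_, rfl⟩
  have hW'S : T' ⊔ centralizerIn S' T' ≤ S' := sup_le h.T'sc.1 (centralizerIn_le _ _)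
  obtain ⟨g, hg, hgx⟩ := h.exists_lift_iso (iso_apl hW'S hβ)
  have hTW : preimageAlong θ T' ≤ preimageAlong θ (T' ⊔ centralizerIn S' T') := fun x hx =>
    mem_pre.2 ⟨pre_le hx, Subgroup.mem_sup_left (mem_pre.1 hx).2⟩
  have hgT := StronglyClosed.iso_self h.Tsc hg.1 hTW
  obtain ⟨α₁, hα₁, hα₁x⟩ := hgT.exists_mem_autGroup
  have hth : ∀ x ∈ preimageAlong θ T', thFn θ (apl α₁ x) = thFn θ (apl α x) := fun x hx => by
    rw [hα₁x x hx, ← hgx x (hTW hx), apl_apply β (Subgroup.mem_sup_left (mem_pre.1 hx).2)]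
    rw [show ((β ⟨thFn θ x, Subgroup.mem_sup_left (mem_pre.1 hx).2⟩ :
      ↥(T' ⊔ centralizerIn S' T')) : Ω') = _ from hβT ⟨thFn θ x, (mem_pre.1 hx).2⟩,
      ← apl_coe a', ha'x _ (mem_pre.1 hx).2, hax x hx]
  have hδ0 : α⁻¹ * α₁ ∈ grpD F Z (preimageAlong θ T') :=
    ⟨Subgroup.mul_mem _ (Subgroup.inv_mem _ hα.1) hα₁, fun x hx => by
      rw [apl_mul _ _ hx]
      have hy := apl_mem α⁻¹ (apl_mem α₁ hx)
      refine (h.th_eq (hTS hx) (hTS hy)).1 ?_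
      have h1 := hax _ hy
      rw [apl_apl_inv α (apl_mem α₁ hx), hth x hx, ← hax x hx] at h1
      have h2 := congrArg (apl a⁻¹) h1
      rw [apl_inv_apl a (th_mem_image hy), apl_inv_apl a (th_mem_image hx)] at h2
      exact h2.symm⟩
  have hconj : α₁ * δ * α₁⁻¹ = α * δ * α⁻¹ := by
    calc α₁ * δ * α₁⁻¹ = α * ((α⁻¹ * α₁) * δ) * α₁⁻¹ := by group
      _ = α * (δ * (α⁻¹ * α₁)) * α₁⁻¹ := by rw [h.D_comm hTS hδ0 hδ]
      _ = α * δ * α⁻¹ := by group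
  rw [← hconj]
  have hTn : ∀ s ∈ S, s ∈ Subgroup.normalizer ((preimageAlong θ T' : Subgroup Ω) : Set Ω) :=
    fun s hs => StronglyClosed.le_normalizer h.Tsc hs
  have hTfn : F.IsFullyNormalized (preimageAlong θ T') := ⟨hTS, fun Q _ => by
    rw [show normalizerIn S (preimageAlong θ T') = S from
      le_antisymm inf_le_left fun s hs => ⟨hs, hTn s hs⟩]
    exact Subgroup.card_le_of_le inf_le_left⟩
  obtain ⟨k, hk, -, hkx⟩ := mem_autInducedBy_iff.1 (h.D_le_autS hTfn hδ)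
  have hkC : thFn θ k ∈ centralizerIn S' T' := by
    refine ⟨h.th_S' hk, Subgroup.mem_centralizer_iff.2 fun z hz => ?_⟩
    obtain ⟨x, hx, rfl⟩ := exists_pre (θ := θ) (h.T'sc.1.trans_eq h.range_eq.symm) hz
    have h1 := (h.th_eq (hTS hx) (hTS (apl_mem δ hx))).2 (hδ.2 x hx)
    rw [hkx x hx, thFn_conj hk (hTS hx)] at h1
    conv_lhs => rw [h1]
    group
  have hkW : k ∈ preimageAlong θ (T' ⊔ centralizerIn S' T') :=
    mem_pre.2 ⟨hk, Subgroup.mem_sup_right hkC⟩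
  have hgk : g k ∈ S := hg.1.mem_S hkW
  have hu : k⁻¹ * g k ∈ preimageAlong θ T' := by
    refine mem_pre.2 ⟨S.mul_mem (S.inv_mem hk) hgk, ?_⟩
    rw [thFn_mul (S.inv_mem hk) hgk, thFn_inv hk, ← hgx k hkW,
      apl_apply β (Subgroup.mem_sup_right hkC)]
    exact (hβC ⟨thFn θ k, Subgroup.mem_sup_right hkC⟩ hkC).1
  have hu' : g k * k⁻¹ ∈ preimageAlong θ T' := by
    rw [show g k * k⁻¹ = k * (k⁻¹ * g k) * k⁻¹ by group]
    exact (Subgroup.mem_normalizer_iff.1 (hTn k hk) _).1 hu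
  refine h.autT_inf_D_le ⟨h.Z_le_pre T', le_rfl, ?_⟩
    (mem_autInducedBy_iff.2 ⟨g k * k⁻¹, hu',
      hTn _ (S.mul_mem hgk (S.inv_mem hk)), fun x hx => ?_⟩)
    (Subgroup.mul_mem _ (h.conj_mem_D hTS hα₁ hδ) (Subgroup.inv_mem _ hδ))
  · rw [himT]; exact centric_top Eb
  · have h1 := apl_mem δ⁻¹ hx
    have h2 := apl_mem α₁⁻¹ h1
    have e1 : apl δ⁻¹ x = k⁻¹ * x * k := by
      have h3 := hkx _ h1
      rw [apl_apl_inv δ hx] at h3
      conv_rhs => rw [h3]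
      group
    rw [apl_mul _ _ hx, apl_mul _ _ h1, apl_mul _ _ h2, hkx _ h2,
      hα₁x _ ((Subgroup.mem_normalizer_iff.1 (hTn k hk) _).1 h2),
      hg.1.map_conj hkW (hTW h2), ← hα₁x _ h2, apl_apl_inv α₁ h1, e1]
    group

theorem commOK : ∀ P : Subgroup Ω, Mem Z θ Eb P → CommOK F Z θ Eb P := by
  classical
  have hTS : preimageAlong θ T' ≤ S := pre_le
  haveI := finite_of_le hTS
  suffices H : ∀ n, ∀ P, Mem Z θ Eb P → Nat.card ↥(preimageAlong θ T') - Nat.card P ≤ n →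
      CommOK F Z θ Eb P from fun P hP => H _ P hP le_rfl
  intro n
  induction n using Nat.strong_induction_on with
  | h n ih =>
  intro P₀ hM₀ hn
  obtain ⟨P, g, hPn, -, hgi, -⟩ :=
    exists_fullyNormalized_mor h.isP h.sat (hM₀.2.1.trans hTS)
  have hM := h.mem_of_iso hM₀ hgi
  obtain ⟨g', hg', -, -⟩ := hgi.symm
  refine h.commOK_of_iso hM hg' ?_
  obtain ⟨hZ, hPT, hcen⟩ := id hM
  have hPS := hPn.1
  haveI := finite_of_le hPS
  haveI : Finite (MulAut P) := Finite.of_injective _ MulEquiv.toEquiv_injective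
  by_cases hne : P = preimageAlong θ T'
  · subst hne
    exact fun α hα δ hδ => h.comm_top hα hδ
  have hup : ∀ R : Subgroup Ω, Mem Z θ Eb R → Nat.card P < Nat.card R → CommOK F Z θ Eb R :=
    fun R hR hlt => by
    have h1 := Subgroup.card_le_of_le hR.2.1
    have h2 := hgi.card_eq
    exact ih (Nat.card ↥(preimageAlong θ T') - Nat.card R) (by omega) R hR le_rfl
  let C : Subgroup (grpA F θ Eb P) :=
    { carrier := {a | ∀ δ ∈ grpD F Z P, (a : MulAut P) * δ * (a : MulAut P)⁻¹ * δ⁻¹ ∈ grpI F Z P}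
      one_mem' := fun δ _ => by simp
      mul_mem' := fun {a b} ha hb δ hδ => by
        rw [Subgroup.coe_mul, show (a : MulAut P) * b * δ * ((a : MulAut P) * b)⁻¹ * δ⁻¹ =
          (a : MulAut P) * ((b : MulAut P) * δ * (b : MulAut P)⁻¹ * δ⁻¹) * (a : MulAut P)⁻¹ *
            ((a : MulAut P) * δ * (a : MulAut P)⁻¹ * δ⁻¹) by group]
        exact Subgroup.mul_mem _ (h.conj_mem_I hPS a.2.1 (hb δ hδ)) (ha δ hδ)
      inv_mem' := fun {a} ha δ hδ => by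
        have hd : (a : MulAut P)⁻¹ * δ * (a : MulAut P) ∈ grpD F Z P := by
          have := h.conj_mem_D hPS (Subgroup.inv_mem _ a.2.1) hδ
          rwa [inv_inv] at this
        have h1 := Subgroup.inv_mem _ (ha _ hd)
        rw [Subgroup.coe_inv, inv_inv]
        convert h1 using 1
        group }
  suffices hC : C = ⊤ by
    exact fun α hα δ hδ => (hC.ge (Subgroup.mem_top (⟨α, hα⟩ : grpA F θ Eb P))) δ hδ
  haveI hCn : C.Normal := ⟨fun c hc a δ hδ => by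
    have hd : (a : MulAut P)⁻¹ * δ * (a : MulAut P) ∈ grpD F Z P := by
      have := h.conj_mem_D hPS (Subgroup.inv_mem _ a.2.1) hδ
      rwa [inv_inv] at this
    have h1 := h.conj_mem_I hPS a.2.1 (hc _ hd)
    convert h1 using 1
    simp only [Subgroup.coe_mul, Subgroup.coe_inv]
    group⟩
  have hDC : ∀ a : grpA F θ Eb P, (a : MulAut P) ∈ grpD F Z P → a ∈ C := fun a ha δ hδ => by
    rw [h.D_comm hPS ha hδ]
    simp
  have hTC : ∀ a : grpA F θ Eb P, (a : MulAut P) ∈ autInducedBy (preimageAlong θ T') P → a ∈ C :=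
    fun a ha δ hδ => by
    obtain ⟨k, hk, hkn, hkx⟩ := mem_autInducedBy_iff.1 (h.D_le_autS hPn hδ)
    have h1 := autInducedBy_conj_mem (Subgroup.inv_mem _ ha) hkn
      (StronglyClosed.le_normalizer h.Tsc hk) hkx
    have h2 := Subgroup.mul_mem _ ha h1
    refine h.autT_inf_D_le hM ?_
      (Subgroup.mul_mem _ (h.conj_mem_D hPS a.2.1 hδ) (Subgroup.inv_mem _ hδ))
    convert h2 using 1
    group
  obtain ⟨Sy, hSy⟩ := (sylIn_iff ((isPGroup_autInducedBy h.isP).to_le inf_le_left) inf_le_right).1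
    (h.sylIn_A hZ hPT hPn)
  have hSyC : (Sy : Subgroup (grpA F θ Eb P)) ≤ C := fun a ha => by
    rw [hSy, Subgroup.mem_subgroupOf] at ha
    obtain ⟨τ, hτ, hτa⟩ := h.autS_dec hM hPn a.2 ha.1
    have h1 := C.mul_mem (hTC ⟨τ, h.autT_le_A hPT hτ⟩ hτ) (hDC ⟨_, h.D_le_A hPS hτa⟩ hτa)
    convert h1 using 1
    exact Subtype.ext (mul_inv_cancel_left τ _).symm
  have hnorm : Subgroup.normalizer ((Sy : Subgroup (grpA F θ Eb P)) : Set (grpA F θ Eb P)) ≤ C := by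
    intro b hb
    obtain ⟨u, c, hbuc, -, hu, hc, ⟨k, hk⟩, hco⟩ :=
      Cfsg.Agent.Fusion.exists_pPart_mul (p := p) b (isOfFinOrder_of_finite b)
    have hzb := Subgroup.zpowers_le.2 hb
    have huC : u ∈ C := by
      refine hSyC ?_
      have hup' : IsPGroup p (Subgroup.zpowers u) :=
        isPGroup_zpowers_of_pow_eq_one (e := k) (orderOf_dvd_iff_pow_eq_one.1 hk)
      have hle : Subgroup.zpowers u ≤
          Subgroup.normalizer ((Sy : Subgroup (grpA F θ Eb P)) : Set (grpA F θ Eb P)) :=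
        Subgroup.zpowers_le.2 (hzb hu)
      have h1 := Sy.3 (hup'.to_sup_of_normal_right' Sy.2 hle) le_sup_right
      exact h1.le (Subgroup.mem_sup_left (Subgroup.mem_zpowers u))
    have hcC : c ∈ C := by
      intro δ hδ
      refine h.comm_step hM hPn hup hne c.2 hco ?_ (fun σ hσ => ?_) hδ
      · rw [← Subgroup.coe_pow, pow_orderOf_eq_one, Subgroup.coe_one]
      · have h1 := (Subgroup.mem_normalizer_iff.1 (hzb hc) ⟨σ, hσ.2⟩).1
          (by rw [hSy, Subgroup.mem_subgroupOf]; exact hσ)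
        rw [hSy, Subgroup.mem_subgroupOf] at h1
        exact h1.1
    rw [hbuc]
    exact C.mul_mem huC hcC
  refine top_le_iff.1 ((Sy.normalizer_sup_eq_top' (N := C) hSyC).ge.trans (sup_le hnorm le_rfl))

theorem conj_D_mem_I {α δ : MulAut P} (hM : Mem Z θ Eb P) (hα : α ∈ grpA F θ Eb P)
    (hδ : δ ∈ grpD F Z P) : α * δ * α⁻¹ * δ⁻¹ ∈ grpI F Z P := h.commOK P hM α hα δ hδ

end Setting

end Cfsg.Agent.FusSys.CL
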