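import Cfsg.Agent.FusSys.CentralLift.Star
import Cfsg.Agent.FusSys.Alperin

/-!
The subsystem of `F` generated by the groups `star`: it lifts every map of `Eb`.
-/

set_option autoImplicit false
set_option maxHeartbeats 400000

namespace Cfsg.Agent.FusSys.CL

open Cfsg Cfsg.FusionSystem Cfsg.Agent.FusSys

universe u v

variable {Ω : Type u} [Group Ω] {S Z P Q R : Subgroup Ω} {F : FusionSystem S} {p : ℕ}
variable {Ω' : Type v} [Group Ω'] {S' T' P' Q' : Subgroup Ω'} {θ : S →* Ω'}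
variable {Fb : FusionSystem S'} {Eb : FusionSystem T'} {f g : Ω → Ω}

/-- The generators. -/
def GenMem (p : ℕ) (F : FusionSystem S) (Z : Subgroup Ω) (θ : S →* Ω') (Eb : FusionSystem T')
    (R : Subgroup Ω) (α : MulAut R) : Prop :=
  Mem Z θ Eb R ∧ Good F θ T' R ∧ α ∈ star p F θ Eb R

/-- The maps generated by the generators and the conjugations by elements of `T`. -/
def Lift (p : ℕ) (F : FusionSystem S) (Z : Subgroup Ω) (θ : S →* Ω') (Eb : FusionSystem T')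
    (P : Subgroup Ω) (f : Ω → Ω) : Prop :=
  Mor F P f ∧ ∀ M : Subgroup Ω → (Ω → Ω) → Prop, SubRel F (preimageAlong θ T') M →
    (∀ R α, GenMem p F Z θ Eb R α → M R (apl α)) → M P f

theorem subRel_triv : SubRel F (preimageAlong θ T')
    (fun P f => P ≤ preimageAlong θ T' ∧ ∀ x ∈ P, f x ∈ preimageAlong θ T') where
  congr h1 he := ⟨h1.1, fun x hx => by rw [he x hx]; exact h1.2 x hx⟩
  le h1 := h1
  conj hP hs := ⟨mor_conj (hP.trans pre_le) (pre_le hs), hP, fun x hx =>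
    Subgroup.mul_mem _ (Subgroup.mul_mem _ hs (hP hx)) (Subgroup.inv_mem _ hs)⟩
  comp _ h1 _ h2 hfQ := ⟨h1.1, fun x hx => h2.2 _ (hfQ x hx)⟩
  inv hf h1 hg hgf := ⟨fun y hy => by
      obtain ⟨x, hx, rfl⟩ := hf.exists_eq hy; exact h1.2 x hx,
    fun y hy => h1.1 (hg.mem hy)⟩

theorem subRel_lift : SubRel F (preimageAlong θ T') (Lift p F Z θ Eb) where
  congr h1 he := ⟨h1.1.congr he, fun M hM hgen => hM.congr (h1.2 M hM hgen) he⟩
  le h1 := h1.2 _ subRel_triv fun _ α hg => ⟨hg.1.2.1, fun _ hx => hg.1.2.1 (apl_mem α hx)⟩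
  conj hP hs := ⟨mor_conj (hP.trans pre_le) (pre_le hs), mor_conj (hP.trans pre_le) (pre_le hs),
    fun M hM _ => (hM.conj hP hs).2⟩
  comp hf h1 hg h2 hfQ := ⟨hf.comp hg hfQ,
    fun M hM hgen => hM.comp hf (h1.2 M hM hgen) hg (h2.2 M hM hgen) hfQ⟩
  inv hf h1 hg hgf := ⟨hg.1, fun M hM hgen => hM.inv hf (h1.2 M hM hgen) hg hgf⟩

/-- The lifted system. -/
def liftSys (p : ℕ) (F : FusionSystem S) (Z : Subgroup Ω) (θ : S →* Ω') (Eb : FusionSystem T') :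
    FusionSystem (preimageAlong θ T') :=
  subSys (subRel_lift (p := p) (F := F) (Z := Z) (θ := θ) (Eb := Eb))

theorem mor_liftSys : Mor (liftSys p F Z θ Eb) P f ↔ Lift p F Z θ Eb P f :=
  (mor_subSys _).trans ⟨And.right, fun h1 => ⟨h1.1, h1⟩⟩

theorem Lift.mono (h1 : Lift p F Z θ Eb P f) (hR : R ≤ P) : Lift p F Z θ Eb R f :=
  mor_liftSys.1 ((mor_liftSys.2 h1).mono hR)

theorem lift_gen {α : MulAut R} (hg : GenMem p F Z θ Eb R α) (hα : α ∈ F.autGroup R) :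
    Lift p F Z θ Eb R (apl α) :=
  ⟨(iso_apl (hg.1.2.1.trans pre_le) hα).1, fun _ _ hgen => hgen R α hg⟩

theorem lift_id (hP : P ≤ preimageAlong θ T') : Lift p F Z θ Eb P id :=
  mor_liftSys.1 (mor_id hP)

/-- The induced map is a map of `Eb`. -/
def Over (θ : S →* Ω') (Eb : FusionSystem T') (P : Subgroup Ω) (f : Ω → Ω) : Prop :=
  P ≤ preimageAlong θ T' ∧ (∀ x ∈ P, f x ∈ preimageAlong θ T') ∧
    ∃ f', Mor Eb (imageAlong θ P) f' ∧ ∀ x ∈ P, f' (thFn θ x) = thFn θ (f x)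

/-- The image of `P` under an automorphism of `T`. -/
def mapT (β : MulAut Q) (P : Subgroup Ω) : Subgroup Ω :=
  (P.subgroupOf Q).map (Q.subtype.comp β.toMonoidHom)

theorem mem_mapT {β : MulAut Q} (hP : P ≤ Q) {y : Ω} :
    y ∈ mapT β P ↔ ∃ x ∈ P, apl β x = y := by
  constructor
  · rintro ⟨x, hx, rfl⟩
    exact ⟨x, hx, apl_coe β x⟩
  · rintro ⟨x, hx, rfl⟩
    exact ⟨⟨x, hP hx⟩, hx, (apl_apply β (hP hx)).symm⟩

theorem mapT_le (β : MulAut Q) : mapT β P ≤ Q := by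
  rintro _ ⟨x, -, rfl⟩
  exact (β x).2

theorem iso_mapT {β : MulAut Q} (hQ : Q ≤ S) (hβ : β ∈ F.autGroup Q) (hP : P ≤ Q) :
    Iso F P (mapT β P) (apl β) :=
  ⟨(iso_apl hQ hβ).1.mono hP, fun _ => mem_mapT hP⟩

/-- The transported map is again in the relation. -/
def Tr (p : ℕ) (F : FusionSystem S) (Z : Subgroup Ω) (θ : S →* Ω') (Eb : FusionSystem T')
    (P : Subgroup Ω) (f : Ω → Ω) : Prop :=
  P ≤ preimageAlong θ T' ∧ (∀ x ∈ P, f x ∈ preimageAlong θ T') ∧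
    ∀ β ∈ F.autGroup (preimageAlong θ T'), ∃ k, Lift p F Z θ Eb (mapT β P) k ∧
      ∀ x ∈ P, k (apl β x) = apl β (f x)

namespace Setting

variable (h : Setting p F Z θ Fb Eb) [Fact p.Prime] [Finite S]
include h

theorem subRel_over : SubRel F (preimageAlong θ T') (Over θ Eb) where
  congr := by
    rintro P f g ⟨h1, h2, f', hf', hf'f⟩ he
    exact ⟨h1, fun x hx => by rw [he x hx]; exact h2 x hx, f', hf',
      fun x hx => by rw [he x hx]; exact hf'f x hx⟩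
  le h1 := ⟨h1.1, h1.2.1⟩
  conj := by
    intro P s hP hs
    refine ⟨mor_conj (hP.trans pre_le) (pre_le hs), hP, fun x hx =>
      Subgroup.mul_mem _ (Subgroup.mul_mem _ hs (hP hx)) (Subgroup.inv_mem _ hs),
      fun z => thFn θ s * z * (thFn θ s)⁻¹, mor_conj (h.image_le hP) (mem_pre.1 hs).2, fun x hx => ?_⟩
    rw [thFn_conj (pre_le hs) (pre_le (hP hx))]
  comp := by
    rintro P Q f g hf ⟨h1, h2, f', hf', hf'f⟩ hg ⟨-, h2', g', hg', hg'g⟩ hfQ
    refine ⟨h1, fun x hx => h2' _ (hfQ x hx), g' ∘ f', hf'.comp hg' fun z hz => ?_, fun x hx => ?_⟩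
    · obtain ⟨x, hx, rfl⟩ := (mem_imageAlong (h1.trans pre_le)).1 hz
      rw [hf'f x hx]
      exact th_mem_image (hfQ x hx)
    · show g' (f' (thFn θ x)) = _
      rw [hf'f x hx, hg'g _ (hfQ x hx)]
      rfl
  inv := by
    rintro P Q f g hf ⟨h1, h2, f', hf', hf'f⟩ hg hgf
    haveI := h.finite_T'
    obtain ⟨R', hR'⟩ := hf'.exists_iso
    obtain ⟨k, hk, hkf, -⟩ := hR'.symm
    have hQT : Q ≤ preimageAlong θ T' := fun y hy => by
      obtain ⟨x, hx, rfl⟩ := hf.exists_eq hy; exact h2 x hx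
    refine ⟨hQT, fun y hy => h1 (hg.mem hy), k, hk.1.mono fun z hz => ?_, fun y hy => ?_⟩
    · obtain ⟨y, hy, rfl⟩ := (mem_imageAlong (hQT.trans pre_le)).1 hz
      obtain ⟨x, hx, rfl⟩ := hf.exists_eq hy
      rw [← hf'f x hx]
      exact hR'.mem (th_mem_image hx)
    · obtain ⟨x, hx, rfl⟩ := hf.exists_eq hy
      rw [← hf'f x hx, hkf _ (th_mem_image hx), hgf x hx]

theorem lift_over (hf : Lift p F Z θ Eb P f) : Over θ Eb P f := by
  refine hf.2 _ h.subRel_over fun R α hg => ?_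
  obtain ⟨-, a, ha, hax⟩ := h.star_le_A hg.1.2.1 hg.2.2
  exact ⟨hg.1.2.1, fun x hx => hg.1.2.1 (apl_mem α hx), apl a,
    (iso_apl (h.image_le hg.1.2.1) ha).1, hax⟩

theorem good_mapT {β : MulAut ↥(preimageAlong θ T')} (hβ : β ∈ F.autGroup (preimageAlong θ T'))
    (hP : P ≤ preimageAlong θ T') (hG : Good F θ T' P) : Good F θ T' (mapT β P) := by
  have _ := h
  obtain ⟨Q, γ, hγ, hQ, hgi⟩ := hG
  refine ⟨Q, γ * β⁻¹, Subgroup.mul_mem _ hγ (Subgroup.inv_mem _ hβ), hQ,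
    (iso_apl pre_le (Subgroup.mul_mem _ hγ (Subgroup.inv_mem _ hβ))).1.mono (mapT_le β), fun y => ?_⟩
  rw [hgi.2 y]
  constructor
  · rintro ⟨x, hx, rfl⟩
    refine ⟨apl β x, (mem_mapT hP).2 ⟨x, hx, rfl⟩, ?_⟩
    rw [apl_mul _ _ (apl_mem β (hP hx)), apl_inv_apl β (hP hx)]
  · rintro ⟨z, hz, rfl⟩
    obtain ⟨x, hx, rfl⟩ := (mem_mapT hP).1 hz
    refine ⟨x, hx, ?_⟩
    rw [apl_mul _ _ (apl_mem β (hP hx)), apl_inv_apl β (hP hx)]

theorem subRel_tr : SubRel F (preimageAlong θ T') (Tr p F Z θ Eb) where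
  congr := by
    rintro P f g ⟨h1, h2, h3⟩ he
    refine ⟨h1, fun x hx => by rw [he x hx]; exact h2 x hx, fun β hβ => ?_⟩
    obtain ⟨k, hk, hkx⟩ := h3 β hβ
    exact ⟨k, hk, fun x hx => by rw [he x hx]; exact hkx x hx⟩
  le h1 := ⟨h1.1, h1.2.1⟩
  conj := by
    intro P s hP hs
    refine ⟨mor_conj (hP.trans pre_le) (pre_le hs), hP, fun x hx =>
      Subgroup.mul_mem _ (Subgroup.mul_mem _ hs (hP hx)) (Subgroup.inv_mem _ hs), fun β hβ => ?_⟩
    refine ⟨fun y => apl β s * y * (apl β s)⁻¹,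
      ((subRel_lift (F := F)).conj (mapT_le β) (apl_mem β hs)).2, fun x hx => ?_⟩
    exact ((iso_apl (F := F) pre_le hβ).1.map_conj hs (hP hx)).symm
  comp := by
    rintro P Q f g hf ⟨h1, h2, h3⟩ hg ⟨h1', h2', h3'⟩ hfQ
    refine ⟨h1, fun x hx => h2' _ (hfQ x hx), fun β hβ => ?_⟩
    obtain ⟨k, hk, hkx⟩ := h3 β hβ
    obtain ⟨l, hl, hlx⟩ := h3' β hβ
    have hm : ∀ y ∈ mapT β P, k y ∈ mapT β Q := fun y hy => by
      obtain ⟨x, hx, rfl⟩ := (mem_mapT h1).1 hy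
      exact (mem_mapT h1').2 ⟨f x, hfQ x hx, (hkx x hx).symm⟩
    refine ⟨l ∘ k, subRel_lift.comp hk.1 hk hl.1 hl hm, fun x hx => ?_⟩
    show l (k _) = _
    rw [hkx x hx, hlx _ (hfQ x hx)]
    rfl
  inv := by
    rintro P Q f g hf ⟨h1, h2, h3⟩ hg hgf
    have hQT : Q ≤ preimageAlong θ T' := fun y hy => by
      obtain ⟨x, hx, rfl⟩ := hf.exists_eq hy; exact h2 x hx
    refine ⟨hQT, fun y hy => h1 (hg.mem hy), fun β hβ => ?_⟩
    obtain ⟨k, hk, hkx⟩ := h3 β hβ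
    obtain ⟨R, hR⟩ := hk.1.exists_iso
    obtain ⟨l, hl, hlk, -⟩ := hR.symm
    have hle : mapT β Q ≤ R := fun y hy => by
      obtain ⟨z, hz, rfl⟩ := (mem_mapT hQT).1 hy
      obtain ⟨x, hx, rfl⟩ := hf.exists_eq hz
      rw [← hkx x hx]
      exact hR.mem ((mem_mapT h1).2 ⟨x, hx, rfl⟩)
    refine ⟨l, (subRel_lift.inv hR hk hl hlk).mono hle, fun y hy => ?_⟩
    obtain ⟨x, hx, rfl⟩ := hf.exists_eq hy
    rw [← hkx x hx, hlk _ ((mem_mapT h1).2 ⟨x, hx, rfl⟩), hgf x hx]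

theorem lift_tr (hf : Lift p F Z θ Eb P f) : Tr p F Z θ Eb P f := by
  refine hf.2 _ h.subRel_tr fun R α hg => ⟨hg.1.2.1, fun x hx => hg.1.2.1 (apl_mem α hx),
    fun β hβ => ?_⟩
  have hi := iso_mapT (F := F) pre_le hβ hg.1.2.1
  refine ⟨apl (hi.conjAut α), lift_gen ⟨h.mem_of_iso hg.1 hi, h.good_mapT hβ hg.1.2.1 hg.2.1,
    h.star_transport_aut hg.1 hβ hi hg.2.2⟩
    (hi.conjAut_mem (h.star_le_A hg.1.2.1 hg.2.2).1), fun x hx => hi.conjAut_apl α hx⟩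

theorem good_fullyNormalized (hM : Mem Z θ Eb P) (hG : Good F θ T' P) :
    Eb.IsFullyNormalized (imageAlong θ P) := by
  haveI := h.finite'
  haveI := h.finite_T'
  obtain ⟨Q, β, hβ, hQ, hgi⟩ := hG
  have hMQ := h.mem_of_iso hM hgi
  have hQE := h.image_fullyNormalized_sub hQ hMQ.1 hMQ.2.1
  have himT : imageAlong θ (preimageAlong θ T') = T' := h.image_pre h.T'sc.1
  obtain ⟨-, b, hb, hbx⟩ := h.exists_image_iso (iso_apl pre_le hβ) (h.Z_le_pre T')
  rw [himT] at hb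
  obtain ⟨bA, hbA, hbAx⟩ := hb.exists_mem_autGroup
  have hP'T := h.image_le hM.2.1
  have hiso : Iso Fb (imageAlong θ P) (imageAlong θ Q) (apl bA) := by
    refine ⟨(iso_apl h.T'sc.1 hbA).1.mono hP'T, fun z => ?_⟩
    have hv : ∀ x ∈ P, apl bA (thFn θ x) = thFn θ (apl β x) := fun x hx => by
      rw [hbAx _ (h.image_le hM.2.1 (th_mem_image hx)), hbx x (hM.2.1 hx)]
    rw [mem_imageAlong hQ.1]
    constructor
    · rintro ⟨y, hy, rfl⟩
      obtain ⟨x, hx, rfl⟩ := hgi.exists_eq hy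
      exact ⟨thFn θ x, th_mem_image hx, hv x hx⟩
    · rintro ⟨w, hw, rfl⟩
      obtain ⟨x, hx, rfl⟩ := (mem_imageAlong (hM.2.1.trans pre_le)).1 hw
      exact ⟨apl β x, hgi.mem hx, (hv x hx).symm⟩
  refine ⟨hP'T, fun R hR => ?_⟩
  obtain ⟨k, hk⟩ := isConj_iff.1 hR
  obtain ⟨h', hh', hh'x⟩ := exists_transport h.Einv hk.1 hbA
  have hle : imageAlong θ Q ≤ ((imageAlong θ P).subgroupOf T').map (T'.subtype.comp bA.toMonoidHom) :=
    fun z hz => by
      obtain ⟨w, hw, rfl⟩ := hiso.exists_eq hz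
      exact ⟨⟨w, hP'T hw⟩, hw, (apl_apply bA (hP'T hw)).symm⟩
  have hRT : R ≤ T' := hk.right_le
  obtain ⟨R₂, hR₂⟩ := (hh'.mono hle).exists_iso
  have hR₂eq : Iso Fb R R₂ (apl bA) := ⟨(iso_apl h.T'sc.1 hbA).1.mono hRT, fun z => by
    constructor
    · intro hz
      obtain ⟨y, hy, rfl⟩ := hR₂.exists_eq hz
      obtain ⟨w, hw, rfl⟩ := hiso.exists_eq hy
      exact ⟨k w, hk.mem hw, (hh'x w hw).symm⟩
    · rintro ⟨y, hy, rfl⟩
      obtain ⟨w, hw, rfl⟩ := hk.exists_eq hy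
      rw [← hh'x w hw]
      exact hR₂.mem (hiso.mem hw)⟩
  have hm := (iso_apl (F := Fb) h.T'sc.1 hbA).1
  have h1 : Nat.card (normalizerIn T' R) ≤ Nat.card (normalizerIn T' R₂) :=
    (hm.mono (normalizerIn_le _ _)).card_image_le ((normalizerIn_le T' _).trans h.T'sc.1) fun x hx =>
      ⟨apl_mem bA hx.1, ((hm.mono (normalizerIn_le T' R)).mem_normalizerIn (le_normalizerIn hRT)
        hR₂eq hx hx.2).2⟩
  refine h1.trans ((hQE.2 R₂ hR₂.isConj).trans ?_)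
  obtain ⟨k', hk', hk'b, -⟩ := hiso.symm
  have hinv : Iso Fb (imageAlong θ Q) (imageAlong θ P) (apl bA⁻¹) := hk'.congr fun y hy => by
    obtain ⟨x, hx, rfl⟩ := hiso.exists_eq hy
    rw [apl_inv_apl bA (hP'T hx), hk'b x hx]
  have hm' := (iso_apl (F := Fb) h.T'sc.1 (Subgroup.inv_mem _ hbA)).1
  exact (hm'.mono (normalizerIn_le _ _)).card_image_le ((normalizerIn_le T' _).trans h.T'sc.1) fun x hx =>
    ⟨apl_mem _ hx.1, ((hm'.mono (normalizerIn_le T' _)).mem_normalizerIn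
      (le_normalizerIn (h.image_le hMQ.2.1)) hinv hx hx.2).2⟩

/-- Every class has a good representative. -/
theorem exists_good (hM : Mem Z θ Eb P) :
    ∃ (R : Subgroup Ω) (e : Ω' → Ω'), Mem Z θ Eb R ∧ Good F θ T' R ∧
      Iso Eb (imageAlong θ P) (imageAlong θ R) e := by
  haveI := h.finite'
  obtain ⟨Q, g, hQ, -, hgi, -⟩ := exists_fullyNormalized_mor h.isP h.sat (hM.2.1.trans pre_le)
  obtain ⟨-, g', hg', hg'g⟩ := h.exists_image_iso hgi hM.1
  obtain ⟨b, hb, e, he, hge⟩ := exists_frattini h.Einv (h.image_le hM.2.1) hg'.1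
  obtain ⟨f, hf, hfx⟩ := h.exists_lift_iso (iso_apl h.T'sc.1 hb)
  obtain ⟨β, hβ, hβf⟩ := hf.exists_mem_autGroup
  have hMQ := h.mem_of_iso hM hgi
  have hi := iso_mapT (F := F) pre_le (Subgroup.inv_mem _ hβ) hMQ.2.1
  have hback : Iso F (mapT β⁻¹ Q) Q (apl β) :=
    ⟨(iso_apl pre_le hβ).1.mono (mapT_le _), fun y => ⟨fun hy =>
      ⟨apl β⁻¹ y, (mem_mapT hMQ.2.1).2 ⟨y, hy, rfl⟩, apl_apl_inv β (hMQ.2.1 hy)⟩,
      fun ⟨z, hz, hzy⟩ => by
        obtain ⟨x, hx, rfl⟩ := (mem_mapT hMQ.2.1).1 hz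
        rw [← hzy, apl_apl_inv β (hMQ.2.1 hx)]; exact hx⟩⟩
  refine ⟨mapT β⁻¹ Q, e, h.mem_of_iso hMQ hi, ⟨Q, β, hβ, hQ, hback⟩, he, fun z => ?_⟩
  have heT : ∀ x ∈ P, e (thFn θ x) ∈ T' := fun x hx => he.mem_S (th_mem_image hx)
  have hval : ∀ x ∈ P, thFn θ (apl β⁻¹ (g x)) = e (thFn θ x) := fun x hx => by
    have hgT := hMQ.2.1 (hgi.mem hx)
    have hy := apl_mem β⁻¹ hgT
    have h1 := hfx _ hy
    rw [← hβf _ hy, apl_apl_inv β hgT, ← hg'g x hx, hge _ (th_mem_image hx)] at h1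
    have h2 := congrArg (apl b⁻¹) h1
    rwa [apl_inv_apl b (mem_pre.1 hy).2, apl_inv_apl b (heT x hx)] at h2
  rw [mem_imageAlong ((mapT_le _).trans pre_le)]
  constructor
  · rintro ⟨y, hy, rfl⟩
    obtain ⟨w, hw, rfl⟩ := (mem_mapT hMQ.2.1).1 hy
    obtain ⟨x, hx, rfl⟩ := hgi.exists_eq hw
    exact ⟨thFn θ x, th_mem_image hx, (hval x hx).symm⟩
  · rintro ⟨w, hw, rfl⟩
    obtain ⟨x, hx, rfl⟩ := (mem_imageAlong (hM.2.1.trans pre_le)).1 hw
    exact ⟨apl β⁻¹ (g x), (mem_mapT hMQ.2.1).2 ⟨g x, hgi.mem hx, rfl⟩, hval x hx⟩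

theorem good_top : Good F θ T' (preimageAlong θ T') := by
  have hTn : ∀ s ∈ S, s ∈ Subgroup.normalizer ((preimageAlong θ T' : Subgroup Ω) : Set Ω) :=
    fun s hs => StronglyClosed.le_normalizer h.Tsc hs
  exact ⟨_, 1, one_mem _, ⟨pre_le, fun Q _ => by
    rw [show normalizerIn S (preimageAlong θ T') = S from
      le_antisymm inf_le_left fun s hs => ⟨hs, hTn s hs⟩]
    exact Subgroup.card_le_of_le inf_le_left⟩, (iso_id pre_le).congr fun x hx => apl_one hx⟩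

theorem mem_top : Mem Z θ Eb (preimageAlong θ T') :=
  haveI := h.finite_T'
  ⟨h.Z_le_pre T', le_rfl, by rw [h.image_pre h.T'sc.1]; exact centric_top Eb⟩

/-- Every map of `Eb` lifts. -/
theorem exists_lift_Eb {P' : Subgroup Ω'} {f' : Ω' → Ω'} (hf : Mor Eb P' f') :
    ∃ f, Lift p F Z θ Eb (preimageAlong θ P') f ∧
      ∀ x ∈ preimageAlong θ P', f' (thFn θ x) = thFn θ (f x) := by
  classical
  haveI := h.finite'
  haveI := h.finite_T'
  let M : Subgroup Ω' → (Ω' → Ω') → Prop := fun P' f' =>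
    P' ≤ T' ∧ (∀ z ∈ P', f' z ∈ T') ∧ ∃ f, Lift p F Z θ Eb (preimageAlong θ P') f ∧
      ∀ x ∈ preimageAlong θ P', f' (thFn θ x) = thFn θ (f x)
  have hpre : ∀ {P' : Subgroup Ω'}, P' ≤ T' → P' ≤ θ.range := fun hP =>
    hP.trans (h.T'sc.1.trans_eq h.range_eq.symm)
  have hM : SubRel Eb T' M :=
    { congr := by
        rintro P' f' g' ⟨h1, h2, f, hf, hfx⟩ he
        exact ⟨h1, fun z hz => by rw [he z hz]; exact h2 z hz, f, hf,
          fun x hx => by rw [he _ (mem_pre.1 hx).2]; exact hfx x hx⟩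
      le := fun h1 => ⟨h1.1, h1.2.1⟩
      conj := by
        intro P' s hP hs
        obtain ⟨t, ht, rfl⟩ := exists_pre (θ := θ) (hpre le_rfl) hs
        refine ⟨mor_conj hP hs, hP, fun z hz =>
          T'.mul_mem (T'.mul_mem hs (hP hz)) (T'.inv_mem hs), fun x => t * x * t⁻¹,
          (subRel_lift (F := F)).conj (fun x hx => mem_pre.2 ⟨pre_le hx, hP (mem_pre.1 hx).2⟩) ht |>.2,
          fun x hx => (thFn_conj (pre_le ht) (pre_le hx)).symm⟩
      comp := by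
        rintro P' Q' f' g' hf' ⟨h1, h2, f, hf, hfx⟩ hg' ⟨-, h2', g, hg, hgx⟩ hfQ
        have hm : ∀ x ∈ preimageAlong θ P', f x ∈ preimageAlong θ Q' := fun x hx =>
          mem_pre.2 ⟨hf.1.mem_S hx, by rw [← hfx x hx]; exact hfQ _ (mem_pre.1 hx).2⟩
        refine ⟨h1, fun z hz => h2' _ (hfQ z hz), g ∘ f, subRel_lift.comp hf.1 hf hg.1 hg hm,
          fun x hx => ?_⟩
        show g' (f' (thFn θ x)) = _
        rw [hfx x hx, hgx _ (hm x hx)]
        rfl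
      inv := by
        rintro P' Q' f' g' hf' ⟨h1, h2, f, hf, hfx⟩ hg' hgf
        obtain ⟨R, hR⟩ := hf.1.exists_iso
        obtain ⟨k, hk, hkf, -⟩ := hR.symm
        have hle : preimageAlong θ Q' ≤ R := fun y hy => by
          obtain ⟨hyS, hy'⟩ := mem_pre.1 hy
          obtain ⟨z, hz, hzy⟩ := hf'.exists_eq hy'
          obtain ⟨x, hx, rfl⟩ := exists_pre (θ := θ) (hpre h1) hz
          rw [hfx x hx] at hzy
          have hd := (h.th_eq (hf.1.mem_S hx) hyS).1 hzy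
          have hzP := h.Z_le_pre P' hd
          have e : f (x * ((f x)⁻¹ * y)) = y := by
            rw [hf.1.map_mul hx hzP, h.fix hf.1 hzP hd]; group
          rw [← e]
          exact hR.mem (Subgroup.mul_mem _ hx hzP)
        refine ⟨fun z hz => ?_, fun z hz => h1 (hg'.mem hz), k,
          (subRel_lift.inv hR hf hk hkf).mono hle, fun y hy => ?_⟩
        · obtain ⟨w, hw, rfl⟩ := hf'.exists_eq hz
          exact h2 w hw
        · obtain ⟨x, hx, rfl⟩ := hR.exists_eq (hle hy)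
          rw [hkf x hx, ← hfx x hx, hgf _ (mem_pre.1 hx).2] }
  suffices hle : Eb ≤ subSys hM from
    ((mor_subSys hM).1 (le_iff_mor.1 hle _ _ hf)).2.2.2
  refine le_of_aut_le' h.isP_T' h.Esat fun R hR hbig α hα => ?_
  have hRT : R ≤ T' := hR.elim (fun e => e.le) fun e => e.1.1
  have hRc : Eb.IsCentric R := hR.elim (fun e => e ▸ centric_top Eb) fun e => e.1
  have hMR : Mem Z θ Eb (preimageAlong θ R) := ⟨h.Z_le_pre R,
    fun x hx => mem_pre.2 ⟨pre_le hx, hRT (mem_pre.1 hx).2⟩,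
    by rw [h.image_pre (hRT.trans h.T'sc.1)]; exact hRc⟩
  -- generators lift the automorphisms at good members
  have hgood : ∀ Q, Mem Z θ Eb Q → Good F θ T' Q → ∀ a ∈ Eb.autGroup (imageAlong θ Q),
      Mor (subSys hM) (imageAlong θ Q) (apl a) := by
    intro Q hQ hG a ha
    obtain ⟨γ, hγ, hγx⟩ := h.exists_A_lift hQ.1 hQ.2.1 ha
    obtain ⟨σ, hσ, hd⟩ := h.exists_star_D hQ hG hγ
    have hQS : Q ≤ S := hQ.2.1.trans pre_le
    have himT := h.image_le hQ.2.1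
    refine (mor_subSys hM).2 ⟨(iso_apl himT ha).1, himT, fun z hz => himT (apl_mem a hz), apl σ, ?_,
      fun x hx => ?_⟩
    · rw [h.pre_image hQ.1 hQS]
      exact lift_gen ⟨hQ, hG, hσ⟩ (h.star_le_A hQ.2.1 hσ).1
    · rw [h.pre_image hQ.1 hQS] at hx
      have hx' := apl_mem (σ⁻¹ * γ)⁻¹ hx
      have e : thFn θ (apl (σ⁻¹ * γ)⁻¹ x) = thFn θ x := by
        have h1 := (h.th_eq (hQS hx') (hQS (apl_mem _ hx'))).2 (hd.2 _ hx')
        rwa [apl_apl_inv _ hx] at h1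
      rw [← e, hγx _ hx']
      congr 1
      rw [show σ = γ * (σ⁻¹ * γ)⁻¹ by group, apl_mul _ _ hx]
      congr 1
      group
  suffices hm : Mor (subSys hM) R (apl α) from
    Subgroup.subset_closure (hm.hom_eq fun x => (apl_coe α x).symm)
  rcases eq_or_ne R T' with rfl | hne
  · have := hgood _ h.mem_top h.good_top
    obtain ⟨a', ha', ha'x⟩ := (show Iso Eb (imageAlong θ (preimageAlong θ R))
        (imageAlong θ (preimageAlong θ R)) (apl α) by
      rw [h.image_pre h.T'sc.1]; exact iso_apl le_rfl hα).exists_mem_autGroup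
    have h1 := this a' ha'
    have himR : imageAlong θ (preimageAlong θ R) = R := h.image_pre h.T'sc.1
    have h2 : Mor (subSys hM) R (apl a') :=
      h1.mono himR.ge
    exact h2.congr fun x hx => (ha'x x (himR.ge hx)).symm
  · obtain ⟨Q, e, hQ, hG, he⟩ := h.exists_good hMR
    rw [h.image_pre (hRT.trans h.T'sc.1)] at he
    have hQfn := h.good_fullyNormalized hQ hG
    obtain ⟨g, hg, hgi, -⟩ := exists_mor_to_fullyNormalized h.isP_T' h.Esat hQfn he.isConj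
    have hlt : Nat.card R < Nat.card (normalizerIn T' R) :=
      card_lt_of_lt' (normalizerIn_le _ _) (lt_normalizerIn h.isP_T' (lt_of_le_of_ne hRT hne))
    have hgS : Iso (subSys hM) R (imageAlong θ Q) g :=
      ⟨(hbig _ g hlt hg).mono (le_normalizerIn hRT), hgi.2⟩
    have haS : Iso (subSys hM) (imageAlong θ Q) (imageAlong θ Q) (apl (hgi.conjAut α)) :=
      ⟨hgood Q hQ hG _ (hgi.conjAut_mem hα), (iso_apl (h.image_le hQ.2.1) (hgi.conjAut_mem hα)).2⟩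
    obtain ⟨g', hg', hg'g, -⟩ := hgS.symm
    refine ((hgS.comp haS).comp hg').1.congr fun x hx => ?_
    show apl α x = g' (apl (hgi.conjAut α) (g x))
    rw [hgi.conjAut_apl α hx, hg'g _ (apl_mem α hx)]

end Setting

end Cfsg.Agent.FusSys.CL
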