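import Cfsg.Agent.FusSys.CentralLift.Basic
import Cfsg.Agent.Fusion.Residual
import Cfsg.Agent.FusSys.GroupSys

/-!
The automorphism groups attached to a subgroup with centric image.
-/

set_option autoImplicit false

namespace Cfsg.Agent.FusSys.CL

open Cfsg Cfsg.FusionSystem Cfsg.Agent.FusSys

universe u v

variable {Ω : Type u} [Group Ω] {S Z P Q : Subgroup Ω} {F : FusionSystem S} {p : ℕ}
variable {Ω' : Type v} [Group Ω'] {S' T' P' Q' : Subgroup Ω'} {θ : S →* Ω'}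
variable {Fb : FusionSystem S'} {Eb : FusionSystem T'} {f g : Ω → Ω}

theorem mem_grpA {α : MulAut P} : α ∈ grpA F θ Eb P ↔ α ∈ F.autGroup P ∧
    ∃ a ∈ Eb.autGroup (imageAlong θ P), ∀ x ∈ P, apl a (thFn θ x) = thFn θ (apl α x) := Iff.rfl

theorem mem_grpD {α : MulAut P} :
    α ∈ grpD F Z P ↔ α ∈ F.autGroup P ∧ ∀ x ∈ P, x⁻¹ * apl α x ∈ Z := Iff.rfl

theorem grpA_le : grpA F θ Eb P ≤ F.autGroup P := fun _ hα => hα.1

theorem grpD_le : grpD F Z P ≤ F.autGroup P := inf_le_left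

theorem grpI_le_D : grpI F Z P ≤ grpD F Z P := inf_le_right

/-- Conjugation by an element as an automorphism of `P`. -/
theorem exists_conjAut (hP : P ≤ S) {s : Ω} (hs : s ∈ S)
    (hn : s ∈ Subgroup.normalizer (P : Set Ω)) :
    ∃ α ∈ F.autGroup P, ∀ x ∈ P, apl α x = s * x * s⁻¹ :=
  Iso.exists_mem_autGroup (iso_conj_self hP hs hn)

theorem inn_conj (hP : P ≤ S) {z : Ω} (hz : z ∈ P) :
    ∃ α ∈ Inn P, α ∈ F.autGroup P ∧ ∀ x ∈ P, apl α x = z * x * z⁻¹ :=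
  ⟨MulAut.conj (⟨z, hz⟩ : P), ⟨_, rfl⟩, inn_le_autGroup hP ⟨_, rfl⟩, fun x hx => apl_conj ⟨z, hz⟩ hx⟩

namespace Setting

variable (h : Setting p F Z θ Fb Eb)
include h

theorem D_le_A (hP : P ≤ S) : grpD F Z P ≤ grpA F θ Eb P := fun α hα => by
  refine ⟨hα.1, 1, one_mem _, fun x hx => ?_⟩
  rw [apl_one (th_mem_image hx)]
  exact (h.th_eq (hP hx) (hP (apl_mem α hx))).2 (hα.2 x hx)

theorem D_comm {α β : MulAut P} (hP : P ≤ S) (hα : α ∈ grpD F Z P) (hβ : β ∈ grpD F Z P) :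
    α * β = β * α := by
  refine apl_ext fun x hx => ?_
  have key : ∀ {α β : MulAut P}, α ∈ grpD F Z P → β ∈ grpD F Z P →
      apl (α * β) x = x * (x⁻¹ * apl α x) * (x⁻¹ * apl β x) := fun {α β} hα hβ => by
    have hzP : x⁻¹ * apl β x ∈ P := P.mul_mem (P.inv_mem hx) (apl_mem β hx)
    have hm := (iso_apl hP hα.1).1
    rw [apl_mul _ _ hx]
    conv_lhs => rw [show apl β x = x * (x⁻¹ * apl β x) by group]
    rw [hm.map_mul hx hzP, h.fix hm hzP (hβ.2 x hx), mul_inv_cancel_left]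
  rw [key hα hβ, key hβ hα, mul_assoc x, mul_assoc x,
    h.comm (hβ.2 x hx) (S.mul_mem (S.inv_mem (hP hx)) (hP (apl_mem α hx)))]

theorem isPGroup_D [Fact p.Prime] [Finite S] (hP : P ≤ S) : IsPGroup p (grpD F Z P) := by
  rintro ⟨α, hα⟩
  have hm := (iso_apl hP hα.1).1
  obtain ⟨k, hk⟩ := IsPGroup.iff_card.1 h.isP
  refine ⟨k, Subtype.ext (apl_ext fun x hx => ?_)⟩
  have hzP : x⁻¹ * apl α x ∈ P := P.mul_mem (P.inv_mem hx) (apl_mem α hx)
  have hpow : ∀ n : ℕ, apl (α ^ n) x = x * (x⁻¹ * apl α x) ^ n := by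
    intro n
    induction n with
    | zero => rw [pow_zero, pow_zero, apl_one hx, mul_one]
    | succ n ih =>
      have hzn := P.pow_mem hzP n
      rw [pow_succ', apl_mul _ _ hx, ih, hm.map_mul hx hzn,
        h.fix hm hzn (Z.pow_mem (hα.2 x hx) n), pow_succ', ← mul_assoc x, mul_inv_cancel_left]
  show apl (α ^ p ^ k) x = apl (1 : MulAut P) x
  have hz : (⟨_, hP hzP⟩ : S) ^ p ^ k = 1 := by rw [← hk]; exact pow_card_eq_one'
  rw [apl_one hx, hpow, show (x⁻¹ * apl α x) ^ p ^ k = 1 from congrArg Subtype.val hz, mul_one]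

variable [Finite S]

theorem conjAut_mem_D (hf : Iso F P Q f) {α : MulAut P} (hα : α ∈ grpD F Z P) :
    hf.conjAut α ∈ grpD F Z Q := by
  refine ⟨hf.conjAut_mem hα.1, fun y hy => ?_⟩
  obtain ⟨x, hx, rfl⟩ := hf.exists_eq hy
  have hzP : x⁻¹ * apl α x ∈ P := P.mul_mem (P.inv_mem hx) (apl_mem α hx)
  rw [hf.conjAut_apl α hx, ← hf.1.map_inv hx, ← hf.1.map_mul (P.inv_mem hx) (apl_mem α hx),
    h.fix hf.1 hzP (hα.2 x hx)]
  exact hα.2 x hx

theorem conjAut_mem_inn (hf : Iso F P Q f) {α : MulAut P} (hα : α ∈ Inn P) :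
    hf.conjAut α ∈ Inn Q := by
  have _ := h
  obtain ⟨z, rfl⟩ := hα
  refine ⟨⟨f z, hf.mem z.2⟩, apl_ext fun y hy => ?_⟩
  obtain ⟨x, hx, rfl⟩ := hf.exists_eq hy
  rw [apl_conj _ hy, hf.conjAut_apl _ hx, apl_conj z hx, hf.1.map_conj z.2 hx]

theorem conjAut_mem_I (hf : Iso F P Q f) {α : MulAut P} (hα : α ∈ grpI F Z P) :
    hf.conjAut α ∈ grpI F Z Q :=
  ⟨h.conjAut_mem_inn hf hα.1, h.conjAut_mem_D hf hα.2⟩

theorem conjAut_mem_A (hf : Iso F P Q f) (hZ : Z ≤ P) (hPT : P ≤ preimageAlong θ T')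
    (hQT : Q ≤ preimageAlong θ T') {α : MulAut P} (hα : α ∈ grpA F θ Eb P) :
    hf.conjAut α ∈ grpA F θ Eb Q := by
  obtain ⟨hαF, a, ha, hax⟩ := hα
  obtain ⟨-, f', hf', hf'f⟩ := h.exists_image_iso hf hZ
  refine ⟨hf.conjAut_mem hαF, hf'.conjAut a,
    aut_of_iso h.Einv (h.image_le hPT) (h.image_le hQT) hf' ha (fun x hx => hf'.conjAut_apl a hx),
    fun y hy => ?_⟩
  obtain ⟨x, hx, rfl⟩ := hf.exists_eq hy
  rw [← hf'f x hx, hf'.conjAut_apl a (th_mem_image hx), hax x hx, hf.conjAut_apl α hx,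
    hf'f _ (apl_mem α hx)]

theorem conj_eq_conjAut (hP : P ≤ S) {a : MulAut P} (ha : a ∈ F.autGroup P) (α : MulAut P) :
    (iso_apl hP ha).conjAut α = a * α * a⁻¹ := by
  have _ := h
  refine apl_ext fun y hy => ?_
  have hy' := apl_mem a⁻¹ hy
  conv_lhs => rw [← apl_apl_inv a hy]
  rw [(iso_apl hP ha).conjAut_apl α hy', apl_mul _ _ hy, apl_mul _ _ hy']

theorem conj_mem_A (hZ : Z ≤ P) (hPT : P ≤ preimageAlong θ T') {a α : MulAut P}
    (ha : a ∈ F.autGroup P) (hα : α ∈ grpA F θ Eb P) : a * α * a⁻¹ ∈ grpA F θ Eb P := by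
  rw [← h.conj_eq_conjAut (hPT.trans pre_le) ha α]
  exact h.conjAut_mem_A _ hZ hPT hPT hα

theorem conj_mem_D (hP : P ≤ S) {a α : MulAut P} (ha : a ∈ F.autGroup P) (hα : α ∈ grpD F Z P) :
    a * α * a⁻¹ ∈ grpD F Z P := by
  rw [← h.conj_eq_conjAut hP ha α]
  exact h.conjAut_mem_D _ hα

theorem conj_mem_I (hP : P ≤ S) {a α : MulAut P} (ha : a ∈ F.autGroup P) (hα : α ∈ grpI F Z P) :
    a * α * a⁻¹ ∈ grpI F Z P := by
  rw [← h.conj_eq_conjAut hP ha α]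
  exact h.conjAut_mem_I _ hα

omit [Finite S] in
theorem autT_le_A (hPT : P ≤ preimageAlong θ T') :
    autInducedBy (preimageAlong θ T') P ≤ grpA F θ Eb P := fun α hα => by
  obtain ⟨t, ht, htn, htx⟩ := mem_autInducedBy_iff.1 hα
  have hPS : P ≤ S := hPT.trans pre_le
  refine ⟨autInducedBy_le_autGroup hPS (autInducedBy_mono pre_le hα), ?_⟩
  obtain ⟨htS, ht'⟩ := mem_pre.1 ht
  have hn : thFn θ t ∈ Subgroup.normalizer (imageAlong θ P : Set Ω') := by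
    have key : ∀ t ∈ S, t ∈ Subgroup.normalizer (P : Set Ω) → ∀ z ∈ imageAlong θ P,
        thFn θ t * z * (thFn θ t)⁻¹ ∈ imageAlong θ P := fun t htS htn z hz => by
      obtain ⟨y, hy, rfl⟩ := (mem_imageAlong hPS).1 hz
      rw [← thFn_conj htS (hPS hy)]
      exact th_mem_image ((Subgroup.mem_normalizer_iff.1 htn y).1 hy)
    refine Subgroup.mem_normalizer_iff.2 fun z => ⟨key t htS htn z, fun hz => ?_⟩
    have h1 := key t⁻¹ (S.inv_mem htS) (Subgroup.inv_mem _ htn) _ hz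
    rw [thFn_inv htS] at h1
    convert h1 using 1
    group
  obtain ⟨a, ha, hax⟩ := exists_mem_autInducedBy (K := T') (P := imageAlong θ P) ht' hn
  refine ⟨a, autInducedBy_le_autGroup (h.image_le hPT) ha, fun x hx => ?_⟩
  rw [hax _ (th_mem_image hx), htx x hx, thFn_conj htS (hPS hx)]

/-- Elements of `T` acting trivially modulo `Z` lie in a member of the family. -/
theorem mem_of_conj_D (hM : Mem Z θ Eb P) {t : Ω} (ht : t ∈ preimageAlong θ T')
    (hx : ∀ x ∈ P, x⁻¹ * (t * x * t⁻¹) ∈ Z) : t ∈ P := by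
  obtain ⟨hZ, hPT, hc⟩ := hM
  obtain ⟨htS, ht'⟩ := mem_pre.1 ht
  have hPS : P ≤ S := hPT.trans pre_le
  refine (h.th_mem hZ hPS htS).1 (centric_self hc ⟨ht', Subgroup.mem_centralizer_iff.2 fun z hz => ?_⟩)
  obtain ⟨y, hy, rfl⟩ := (mem_imageAlong hPS).1 hz
  have h1 := (h.th_eq (hPS hy) (S.mul_mem (S.mul_mem htS (hPS hy)) (S.inv_mem htS))).2 (hx y hy)
  rw [thFn_conj htS (hPS hy)] at h1
  conv_lhs => rw [h1]
  group

theorem autT_inf_D_le (hM : Mem Z θ Eb P) {α : MulAut P}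
    (hα : α ∈ autInducedBy (preimageAlong θ T') P) (hD : α ∈ grpD F Z P) : α ∈ grpI F Z P := by
  obtain ⟨t, ht, -, htx⟩ := mem_autInducedBy_iff.1 hα
  have htP : t ∈ P := h.mem_of_conj_D hM ht fun x hx => by rw [← htx x hx]; exact hD.2 x hx
  refine ⟨⟨⟨t, htP⟩, apl_ext fun x hx => ?_⟩, hD⟩
  rw [apl_conj ⟨t, htP⟩ hx, htx x hx]

theorem exists_A_lift (hZ : Z ≤ P) (hPT : P ≤ preimageAlong θ T') {a : MulAut (imageAlong θ P)}
    (ha : a ∈ Eb.autGroup (imageAlong θ P)) :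
    ∃ α ∈ grpA F θ Eb P, ∀ x ∈ P, apl a (thFn θ x) = thFn θ (apl α x) := by
  have hPS : P ≤ S := hPT.trans pre_le
  obtain ⟨ψ, hψ, hψa⟩ := (iso_apl (h.image_le hPT) ha).1
  have hiso : Iso Fb (imageAlong θ P) (imageAlong θ P) (apl a) :=
    ⟨⟨ψ, h.Esub _ hψ, hψa⟩, (iso_apl (h.image_le hPT) ha).2⟩
  obtain ⟨k, hk, hkx⟩ := h.exists_lift_iso hiso
  rw [h.pre_image hZ hPS] at hk hkx
  obtain ⟨α, hα, hαk⟩ := hk.exists_mem_autGroup
  exact ⟨α, ⟨hα, a, ha, fun x hx => by rw [hαk x hx, hkx x hx]⟩,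
    fun x hx => by rw [hαk x hx, hkx x hx]⟩

variable [Fact p.Prime]

/-- A conjugate of an element of `T` inducing on a fully normalized subgroup of `T` an element of
`S` induces there an element of `T`. -/
theorem strong_conj {P₀ : Subgroup Ω} (hP : F.IsFullyNormalized P) (hf : Iso F P₀ P f)
    {t s : Ω} (ht : t ∈ preimageAlong θ T') (htn : t ∈ Subgroup.normalizer (P₀ : Set Ω))
    (hs : s ∈ S) (hfx : ∀ x ∈ P₀, f (t * x * t⁻¹) = s * f x * s⁻¹) :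
    ∃ t' ∈ preimageAlong θ T', t' ∈ Subgroup.normalizer (P : Set Ω) ∧
      ∀ y ∈ P, t' * y * t'⁻¹ = s * y * s⁻¹ := by
  obtain ⟨g, hg, hgf⟩ := (isReceptive_iff.1 (receptive_of_fullyNormalized h.isP h.sat hP)).2 _ f hf
  have htN : t ∈ nPhi S P₀ f := ⟨pre_le ht, htn, s, hs, hfx⟩
  have hgi : Iso F P₀ P g := hf.congr hgf
  refine ⟨g t, StronglyClosed.mor_mem h.Tsc hg htN ht,
    (hg.mem_normalizerIn hf.1.le_nPhi hgi htN htn).2, fun y hy => ?_⟩
  obtain ⟨x, hx, rfl⟩ := hgi.exists_eq hy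
  rw [← hg.map_conj htN (hf.1.le_nPhi hx),
    hgf _ ((Subgroup.mem_normalizer_iff.1 htn x).1 hx), hgf x hx]
  exact hfx x hx

theorem D_le_autS (hP : F.IsFullyNormalized P) : grpD F Z P ≤ autInducedBy S P := by
  haveI := finite_of_le hP.1
  haveI : Finite (MulAut P) := Finite.of_injective _ MulEquiv.toEquiv_injective
  obtain ⟨-, R, hR⟩ := fullyAutomized_of_fullyNormalized h.isP h.sat hP
  let D' : Subgroup (F.autGroup P) := (grpD F Z P).subgroupOf (F.autGroup P)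
  haveI : D'.Normal := ⟨fun d hd a => h.conj_mem_D hP.1 a.2 hd⟩
  have hD' : IsPGroup p D' := (h.isPGroup_D hP.1).comap_subtype
  have hsup : (R : Subgroup (F.autGroup P)) ⊔ D' = R :=
    R.3 (R.2.to_sup_of_normal_right hD') le_sup_left
  intro α hα
  have h1 : (⟨α, hα.1⟩ : F.autGroup P) ∈ (R : Subgroup (F.autGroup P)) :=
    hsup ▸ Subgroup.mem_sup_right hα
  rw [hR] at h1
  exact h1

/-- At a fully normalized member the Sylow subgroup of `grpA` is `Aut_T(P)` times `grpD`. -/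
theorem autS_dec (hM : Mem Z θ Eb P) (hP : F.IsFullyNormalized P) {α : MulAut P}
    (hα : α ∈ grpA F θ Eb P) (hαS : α ∈ autInducedBy S P) :
    ∃ τ ∈ autInducedBy (preimageAlong θ T') P, τ⁻¹ * α ∈ grpD F Z P := by
  obtain ⟨hZ, hPT, hc⟩ := hM
  have hPS := hP.1
  haveI := h.finite'
  haveI := h.finite_T'
  haveI := finite_of_le (h.image_le_S' P)
  haveI : Finite (MulAut (imageAlong θ P)) := Finite.of_injective _ MulEquiv.toEquiv_injective
  obtain ⟨-, a, ha, hax⟩ := id hα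
  obtain ⟨s, hs, hsn, hsx⟩ := mem_autInducedBy_iff.1 hαS
  obtain ⟨-, R, hR⟩ := fullyAutomized_of_fullyNormalized h.isP_T' h.Esat
    (h.image_fullyNormalized_sub hP hZ hPT)
  set B := (autInducedBy S' (imageAlong θ P)).subgroupOf (Eb.autGroup (imageAlong θ P)) with hB
  have hle : (R : Subgroup (Eb.autGroup (imageAlong θ P))) ≤ B := by
    rw [hR]
    exact fun x hx => autInducedBy_mono h.T'sc.1 hx
  have hBR : B = R := R.3 ((isPGroup_autInducedBy h.isP').comap_subtype) hle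
  have haB : (⟨a, ha⟩ : Eb.autGroup (imageAlong θ P)) ∈ B := Subgroup.mem_subgroupOf.2
    (mem_autInducedBy_iff.2 ⟨thFn θ s, h.th_S' hs, (h.th_normalizer hZ hPS hs).2 hsn, fun z hz => by
      obtain ⟨x, hx, rfl⟩ := (mem_imageAlong hPS).1 hz
      show apl a _ = _
      rw [hax x hx, hsx x hx, thFn_conj hs (hPS hx)]⟩)
  rw [hBR, hR, Subgroup.mem_subgroupOf, mem_autInducedBy_iff] at haB
  obtain ⟨t', ht', htn', htx'⟩ := haB
  obtain ⟨t, ht, rfl⟩ := exists_pre (θ := θ) (P' := T') (h.T'sc.1.trans_eq h.range_eq.symm) ht'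
  have htS : t ∈ S := pre_le ht
  obtain ⟨τ, hτ, hτx⟩ := exists_mem_autInducedBy (K := preimageAlong θ T') (P := P) ht
    ((h.th_normalizer hZ hPS htS).1 htn')
  have hτF : τ ∈ F.autGroup P := autInducedBy_le_autGroup hPS (autInducedBy_mono pre_le hτ)
  refine ⟨τ, hτ, Subgroup.mul_mem _ (Subgroup.inv_mem _ hτF) hα.1, fun x hx => ?_⟩
  rw [apl_mul _ _ hx]
  refine (h.th_eq (hPS hx) (hPS (apl_mem _ (apl_mem α hx)))).1 ?_
  have hy := apl_mem τ⁻¹ (apl_mem α hx)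
  have h1 : apl a (thFn θ x) = apl a (thFn θ (apl τ⁻¹ (apl α x))) := by
    rw [hax x hx, htx' _ (th_mem_image hy), ← thFn_conj htS (hPS hy), ← hτx _ hy,
      apl_apl_inv τ (apl_mem α hx)]
  have h2 := congrArg (apl a⁻¹) h1
  rwa [apl_inv_apl a (th_mem_image hx), apl_inv_apl a (th_mem_image hy)] at h2

theorem sylIn_A (hZ : Z ≤ P) (hPT : P ≤ preimageAlong θ T') (hP : F.IsFullyNormalized P) :
    SylIn p (autInducedBy S P ⊓ grpA F θ Eb P) (grpA F θ Eb P) := by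
  haveI := finite_of_le hP.1
  haveI : Finite (MulAut P) := Finite.of_injective _ MulEquiv.toEquiv_injective
  obtain ⟨-, R, hR⟩ := fullyAutomized_of_fullyNormalized h.isP h.sat hP
  refine sylIn_inter_normal ⟨autInducedBy_le_autGroup hP.1, fun hd => R.not_dvd_index ?_⟩ grpA_le
    ⟨fun α hα a => h.conj_mem_A hZ hPT a.2 hα⟩
  rw [hR]
  exact hd

end Setting

end Cfsg.Agent.FusSys.CL
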