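import Cfsg.Agent.FusSys.CentralLift.Stab

/-!
The kernel of the lifted system consists of inner automorphisms.
-/

set_option autoImplicit false
set_option maxHeartbeats 800000

namespace Cfsg.Agent.FusSys.CL

open Cfsg Cfsg.FusionSystem Cfsg.Agent.FusSys

universe u v

variable {Ω : Type u} [Group Ω] {S Z P Q M D R : Subgroup Ω} {F : FusionSystem S} {p : ℕ}
variable {Ω' : Type v} [Group Ω'] {S' T' P' Q' : Subgroup Ω'} {θ : S →* Ω'}
variable {Fb : FusionSystem S'} {Eb : FusionSystem T'} {f g : Ω → Ω}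

namespace Setting

variable (h : Setting p F Z θ Fb Eb) [Fact p.Prime] [Finite S]
include h

/-- The normalized case of the extension. -/
theorem exists_ext_normalized (hup : ∀ R, Mem Z θ Eb R → Nat.card P < Nat.card R → KeyAt p F Z θ Eb R)
    (hM : Mem Z θ Eb P) (hP : F.IsFullyNormalized P) {Q : Subgroup (MulAut P)} (hI : Inn P < Q)
    (hQ : Q ≤ autInducedBy (preimageAlong θ T') P) {a : MulAut P} (ha : a ∈ star p F θ Eb P)
    (hQa : Q.map (MulAut.conj a).toMonoidHom = Q) :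
    ∃ e, ∃ i ∈ grpI F Z P, Lift p F Z θ Eb (preAut (preimageAlong θ T') Q) e ∧
      ∀ x ∈ P, e x = apl (a * i) x := by
  haveI := h.finite'
  haveI := h.finite_T'
  have hPS := hP.1
  haveI := finite_of_le hPS
  have hMT : preAut (preimageAlong θ T') Q ≤ preimageAlong θ T' := fun x hx => hx.1
  have hPM := lt_preAut hM.2.1 hI hQ
  have hMS := hMT.trans (pre_le (θ := θ))
  have himP := h.image_le hM.2.1
  obtain ⟨haF, ā, hā, hāx⟩ := h.star_le_A hM.2.1 ha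
  have hle : imageAlong θ (preAut (preimageAlong θ T') Q) ≤
      nPhi T' (imageAlong θ P) (apl ā) := fun w hw => by
    obtain ⟨t, htQ, rfl⟩ := (mem_imageAlong hMS).1 hw
    obtain ⟨htT, htn, α, hα, htx⟩ := id htQ
    have htS : t ∈ S := pre_le htT
    have h1 : a * α * a⁻¹ ∈ Q := hQa.le ⟨α, hα, rfl⟩
    obtain ⟨t', ht', -, ht'x⟩ := mem_autInducedBy_iff.1 (hQ h1)
    refine ⟨(mem_pre.1 htT).2, (h.th_normalizer hM.1 hPS htS).2 htn, thFn θ t', (mem_pre.1 ht').2,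
      fun z hz => ?_⟩
    obtain ⟨x, hx, rfl⟩ := (mem_imageAlong hPS).1 hz
    have hy := (Subgroup.mem_normalizer_iff.1 htn x).1 hx
    rw [← thFn_conj htS (hPS hx), hāx _ hy, hāx x hx,
      ← thFn_conj (pre_le ht') (hPS (apl_mem a hx))]
    congr 1
    rw [← htx x hx, ← ht'x _ (apl_mem a hx), apl_mul _ _ (apl_mem a hx), apl_inv_apl a hx,
      apl_mul _ _ hx]
  obtain ⟨ē, hē, hēx⟩ := (isReceptive_iff.1 (receptive_of_fullyNormalized h.isP_T' h.Esat
    (h.image_fullyNormalized_sub hP hM.1 hM.2.1))).2 _ _ (iso_apl himP hā)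
  obtain ⟨e, he, hex⟩ := h.exists_lift_Eb (hē.mono hle)
  rw [h.pre_image (hM.1.trans hPM.le) hMS] at he hex
  have hthP : ∀ x ∈ P, thFn θ (e x) = thFn θ (apl a x) := fun x hx => by
    rw [← hex x (hPM.le hx), hēx _ (th_mem_image hx), hāx x hx]
  have hiP : Iso F P P e := h.iso_of_image (he.1.mono hPM.le) hM.1 hM.1 hPS (iso_apl himP hā)
    fun x hx => by rw [hthP x hx, hāx x hx]
  obtain ⟨β, hβ, hβx⟩ := hiP.exists_mem_autGroup
  have hδ : a⁻¹ * β ∈ grpD F Z P := ⟨Subgroup.mul_mem _ (Subgroup.inv_mem _ haF) hβ, fun x hx => by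
    have hy := apl_mem a⁻¹ (apl_mem β hx)
    rw [apl_mul _ _ hx]
    refine (h.th_eq (hPS hx) (hPS hy)).1 ?_
    have h2 : apl ā (thFn θ x) = apl ā (thFn θ (apl a⁻¹ (apl β x))) := by
      rw [hāx x hx, hāx _ hy, apl_apl_inv a (apl_mem β hx), hβx x hx, hthP x hx]
    have h3 := congrArg (apl ā⁻¹) h2
    rwa [apl_inv_apl ā (th_mem_image hx), apl_inv_apl ā (th_mem_image hy)] at h3⟩
  obtain ⟨δ, hδdef⟩ : ∃ δ, δ = a⁻¹ * β := ⟨_, rfl⟩
  rw [← hδdef] at hδ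
  have hβδ : β = a * δ := by rw [hδdef]; group
  have hQA : Q ≤ grpA F θ Eb P := hQ.trans (h.autT_le_A hM.2.1)
  have hδQ : ∀ α ∈ Q, δ * α * δ⁻¹ ∈ Q := fun α hα => by
    have h1 := Subgroup.inv_mem _ (h.conj_D_mem_I hM (hQA hα) hδ)
    have h2 := Q.mul_mem (hI.le h1.1) hα
    convert h2 using 1
    group
  have hmap : Q.map (MulAut.conj β).toMonoidHom = Q := by
    haveI : Finite (MulAut P) := Finite.of_injective _ MulEquiv.toEquiv_injective
    refine Subgroup.eq_of_le_of_card_ge ?_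
      (le_of_eq (Subgroup.card_map_of_injective (MulAut.conj β).injective).symm)
    rintro _ ⟨α, hα, rfl⟩
    have h1 := hQa.le ⟨_, hδQ α hα, rfl⟩
    convert h1 using 1
    show β * α * β⁻¹ = a * (δ * α * δ⁻¹) * a⁻¹
    rw [hβδ]
    group
  obtain ⟨heM, -⟩ := h.ext_iso hM hI.le hQ hmap he.1 fun x hx => (hβx x hx).symm
  obtain ⟨σ, hσ, hσx⟩ := h.stab_star hup hM hP hPM hMT he heM hiP
  have hβσ : β = σ := apl_ext fun x hx => by rw [hβx x hx, hσx x hx]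
  refine ⟨e, δ, h.star_inf_D_fn hM hP ?_ hδ, he, fun x hx => by rw [← hβx x hx, hβδ]⟩
  rw [hδdef, hβσ]
  exact Subgroup.mul_mem _ (Subgroup.inv_mem _ ha) hσ

/-- Elements of `star` extend, up to inner automorphisms, to lifted maps. -/
theorem exists_ext (hup : ∀ R, Mem Z θ Eb R → Nat.card P < Nat.card R → KeyAt p F Z θ Eb R)
    (hM : Mem Z θ Eb P) (hP : F.IsFullyNormalized P) :
    ∀ Q : Subgroup (MulAut P), Inn P < Q → Q ≤ autInducedBy (preimageAlong θ T') P →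
      ∀ a ∈ star p F θ Eb P,
      Q.map (MulAut.conj a).toMonoidHom ≤ autInducedBy (preimageAlong θ T') P →
      ∃ e, ∃ i ∈ grpI F Z P, Lift p F Z θ Eb (preAut (preimageAlong θ T') Q) e ∧
        ∀ x ∈ P, e x = apl (a * i) x := by
  classical
  have hPS := hP.1
  haveI := finite_of_le hPS
  haveI : Finite (MulAut P) := Finite.of_injective _ MulEquiv.toEquiv_injective
  have hYp : IsPGroup p (autInducedBy (preimageAlong θ T') P) :=
    isPGroup_autInducedBy (h.isP.to_le pre_le)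
  suffices H : ∀ n, ∀ Q : Subgroup (MulAut P),
      Nat.card ↥(autInducedBy (preimageAlong θ T') P) - Nat.card Q ≤ n → Inn P < Q →
      Q ≤ autInducedBy (preimageAlong θ T') P → ∀ a ∈ star p F θ Eb P,
      Q.map (MulAut.conj a).toMonoidHom ≤ autInducedBy (preimageAlong θ T') P →
      ∃ e, ∃ i ∈ grpI F Z P, Lift p F Z θ Eb (preAut (preimageAlong θ T') Q) e ∧
        ∀ x ∈ P, e x = apl (a * i) x from fun Q => H _ Q le_rfl
  intro n
  induction n using Nat.strong_induction_on with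
  | h n ih =>
  intro Q hn hI hQ a ha haQ
  rcases hQ.lt_or_eq with hlt | heq
  swap
  · refine h.exists_ext_normalized hup hM hP hI hQ ha
      (Subgroup.eq_of_le_of_card_ge (haQ.trans heq.ge) (le_of_eq ?_))
    exact (Subgroup.card_map_of_injective (MulAut.conj a).injective).symm
  obtain ⟨Qa, hQa⟩ : ∃ Qa, Q.map (MulAut.conj a).toMonoidHom = Qa := ⟨_, rfl⟩
  rw [hQa] at haQ
  obtain ⟨Q'', hQ'', ⟨w, hw, hwQ⟩, htgt⟩ := exists_target hYp (h.autT_sylIn_star hM hP) hQ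
  have hIa : Inn P < Qa := by
    rw [← hQa, ← inn_map_conj a]
    exact (Subgroup.map_lt_map_iff_of_injective (MulAut.conj a).injective).2 hI
  have hI'' : Inn P < Q'' := by
    rw [← hwQ, ← inn_map_conj w]
    exact (Subgroup.map_lt_map_iff_of_injective (MulAut.conj w).injective).2 hI
  have hcQa : Nat.card Qa = Nat.card Q := by
    rw [← hQa]; exact Subgroup.card_map_of_injective (MulAut.conj a).injective
  have hwa : Qa.map (MulAut.conj (w * a⁻¹)).toMonoidHom = Q'' := by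
    rw [← hQa, Subgroup.map_map, ← hwQ]
    congr 1
    refine MonoidHom.ext fun x => ?_
    show w * a⁻¹ * (a * x * a⁻¹) * (w * a⁻¹)⁻¹ = w * x * w⁻¹
    group
  -- extend an element moving a conjugate of `Q` to `Q''`
  have step : ∀ Q₁ : Subgroup (MulAut P), Q₁ ≤ autInducedBy (preimageAlong θ T') P →
      Inn P < Q₁ → Nat.card Q₁ = Nat.card Q →
      (∃ v ∈ star p F θ Eb P, Q₁.map (MulAut.conj v).toMonoidHom = Q'') →
      ∃ u ∈ star p F θ Eb P, Q₁.map (MulAut.conj u).toMonoidHom = Q'' ∧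
        ∃ e, ∃ i ∈ grpI F Z P, Lift p F Z θ Eb (preAut (preimageAlong θ T') Q₁) e ∧
          (∀ x ∈ P, e x = apl (u * i) x) ∧
          Iso F (preAut (preimageAlong θ T') Q₁) (preAut (preimageAlong θ T') Q'') e := by
    rintro Q₁ hQ₁ hI₁ hc ⟨v, hv, hvQ⟩
    obtain ⟨u, hu, huQ, huN⟩ := htgt Q₁ v hv hQ₁ hvQ
    have hne : Q₁ < autInducedBy (preimageAlong θ T') P := lt_of_le_of_ne hQ₁ fun e => by
      have := card_lt_of_lt' (Q := autInducedBy (preimageAlong θ T') P) le_rfl hlt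
      rw [← hc, e] at this
      exact lt_irrefl _ this
    have hN := Cfsg.Agent.Fusion.lt_inf_normalizer_of_isPGroup hYp hne
    obtain ⟨N, hNdef⟩ : ∃ N, autInducedBy (preimageAlong θ T') P ⊓
        Subgroup.normalizer (Q₁ : Set (MulAut P)) = N := ⟨_, rfl⟩
    rw [hNdef] at hN
    have hNY : N ≤ autInducedBy (preimageAlong θ T') P := hNdef ▸ inf_le_left
    have hcN := card_lt_of_lt' (Q := N) le_rfl hN
    have hcY := Subgroup.card_le_of_le hNY
    obtain ⟨e, i, hi, he, hex⟩ := ih _ (by omega) N le_rfl (hI₁.trans hN) hNY u hu (by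
      rintro _ ⟨x, hx, rfl⟩
      exact huN x (hNdef.symm ▸ hx))
    have hle := preAut_mono (θ := θ) (T' := T') hN.le
    refine ⟨u, hu, huQ, e, i, hi, he.mono hle, hex,
      (h.ext_iso hM hI₁.le hQ₁ (Subgroup.eq_of_le_of_card_ge ?_ (le_of_eq ?_)) (he.1.mono hle)
        hex).1⟩
    · rintro _ ⟨x, hx, rfl⟩
      have h1 := huQ.le ⟨i * x * i⁻¹,
        Q₁.mul_mem (Q₁.mul_mem (hI₁.le hi.1) hx) (Q₁.inv_mem (hI₁.le hi.1)), rfl⟩
      convert h1 using 1
      show u * i * x * (u * i)⁻¹ = u * (i * x * i⁻¹) * u⁻¹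
      group
    · rw [Subgroup.card_map_of_injective (MulAut.conj (u * i)).injective, ← huQ,
        Subgroup.card_map_of_injective (MulAut.conj u).injective]
  obtain ⟨u, hu, huQ, eu, iu, hiu, heu, heux, heui⟩ := step Q hQ hI rfl ⟨w, hw, hwQ⟩
  obtain ⟨v, hv, hvQ, ev, iv, hiv, hev, hevx, hevi⟩ := step Qa haQ hIa hcQa
    ⟨w * a⁻¹, Subgroup.mul_mem _ hw (Subgroup.inv_mem _ ha), hwa⟩
  have hn : v * a * u⁻¹ ∈ star p F θ Eb P :=
    Subgroup.mul_mem _ (Subgroup.mul_mem _ hv ha) (Subgroup.inv_mem _ hu)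
  have hnQ : Q''.map (MulAut.conj (v * a * u⁻¹)).toMonoidHom = Q'' := by
    conv_lhs => rw [← huQ, Subgroup.map_map]
    conv_rhs => rw [← hvQ, ← hQa, Subgroup.map_map]
    congr 1
    refine MonoidHom.ext fun x => ?_
    show v * a * u⁻¹ * (u * x * u⁻¹) * (v * a * u⁻¹)⁻¹ = v * (a * x * a⁻¹) * v⁻¹
    group
  obtain ⟨en, i₀, hi₀, hen, henx⟩ := h.exists_ext_normalized hup hM hP hI'' hQ'' hn hnQ
  have henQ : Q''.map (MulAut.conj (v * a * u⁻¹ * i₀)).toMonoidHom = Q'' := by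
    conv_rhs => rw [← hnQ]
    ext y
    constructor
    · rintro ⟨x, hx, rfl⟩
      refine ⟨i₀ * x * i₀⁻¹,
        Q''.mul_mem (Q''.mul_mem (hI''.le hi₀.1) hx) (Q''.inv_mem (hI''.le hi₀.1)), ?_⟩
      show v * a * u⁻¹ * (i₀ * x * i₀⁻¹) * (v * a * u⁻¹)⁻¹ =
        v * a * u⁻¹ * i₀ * x * (v * a * u⁻¹ * i₀)⁻¹
      group
    · rintro ⟨x, hx, rfl⟩
      refine ⟨i₀⁻¹ * x * i₀,
        Q''.mul_mem (Q''.mul_mem (Q''.inv_mem (hI''.le hi₀.1)) hx) (hI''.le hi₀.1), ?_⟩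
      show v * a * u⁻¹ * i₀ * (i₀⁻¹ * x * i₀) * (v * a * u⁻¹ * i₀)⁻¹ =
        v * a * u⁻¹ * x * (v * a * u⁻¹)⁻¹
      group
  obtain ⟨heni, -⟩ := h.ext_iso hM hI''.le hQ'' henQ hen.1 henx
  obtain ⟨r, hr, hrx, -⟩ := hevi.symm
  have hrL := subRel_lift.inv hevi hev hr hrx
  have hle := le_preAut (θ := θ) (T' := T') hM.2.1 hI''.le
  have hleA := le_preAut (θ := θ) (T' := T') hM.2.1 hIa.le
  obtain ⟨i, hidef⟩ : ∃ i,
      i = (a⁻¹ * iv⁻¹ * a) * (u⁻¹ * i₀ * u) * iu := ⟨_, rfl⟩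
  refine ⟨r ∘ en ∘ eu, i, ?_, ?_, fun x hx => ?_⟩
  · rw [hidef]
    refine Subgroup.mul_mem _ (Subgroup.mul_mem _ ?_ ?_) hiu
    · have := h.conj_mem_I hPS (Subgroup.inv_mem _ (h.star_le_A hM.2.1 ha).1) (Subgroup.inv_mem _ hiv)
      rwa [inv_inv] at this
    · have := h.conj_mem_I hPS (Subgroup.inv_mem _ (h.star_le_A hM.2.1 hu).1) hi₀
      rwa [inv_inv] at this
  · exact subRel_lift.comp (heui.comp heni).1
      (subRel_lift.comp heui.1 heu heni.1 hen fun x hx => heui.mem hx) hr.1 hrL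
      fun x hx => heni.mem (heui.mem hx)
  · show r (en (eu x)) = _
    rw [heux x hx, henx _ (apl_mem _ hx)]
    obtain ⟨y, hydef⟩ : ∃ y, apl (v * a * u⁻¹ * i₀) (apl (u * iu) x) = y := ⟨_, rfl⟩
    have hy : y ∈ P := hydef ▸ apl_mem _ (apl_mem _ hx)
    rw [hydef]
    have hz : apl (v * iv)⁻¹ y ∈ P := apl_mem _ hy
    have hey : ev (apl (v * iv)⁻¹ y) = y := by rw [hevx _ hz, apl_apl_inv _ hy]
    conv_lhs => rw [← hey, hrx _ (hleA hz), ← hydef, ← apl_mul _ _ hx, ← apl_mul _ _ hx]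
    congr 1
    rw [hidef]
    group

/-- A lifted map of a larger subgroup stabilising `P` restricts to an element of `star`. -/
theorem restrict_star (hup : ∀ R, Mem Z θ Eb R → Nat.card P < Nat.card R → KeyAt p F Z θ Eb R)
    (hM : Mem Z θ Eb P) (hP : F.IsFullyNormalized P) (hPM : P < M)
    (hMN : M ≤ normalizerIn (preimageAlong θ T') P) (hf : Lift p F Z θ Eb M f)
    (hfP : Iso F P P f) : ∃ σ ∈ star p F θ Eb P, ∀ x ∈ P, f x = apl σ x := by
  classical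
  haveI := h.finite'
  haveI := h.finite_T'
  have hPS := hP.1
  have hMT : M ≤ preimageAlong θ T' := hMN.trans (normalizerIn_le _ _)
  have hMS : M ≤ S := hMT.trans pre_le
  have hMM := h.mem_of_le hM hPM.le hMT
  obtain ⟨b, hb, hbx⟩ := hfP.exists_mem_autGroup
  have hbA := h.mem_A_of_lift (hf.mono hPM.le) hb hbx
  obtain ⟨a, ha, hδ⟩ := h.exists_star_D hM ⟨P, 1, one_mem _, hP,
    (iso_id hPS).congr fun x hx => apl_one (hM.2.1 hx)⟩ hbA
  obtain ⟨δ, hδdef⟩ : ∃ δ, δ = a⁻¹ * b := ⟨_, rfl⟩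
  rw [← hδdef] at hδ
  have hbδ : b = a * δ := by rw [hδdef]; group
  have hMQ : M ≤ preAut (preimageAlong θ T') (autInducedBy M P) := fun t ht => by
    obtain ⟨α, hα, hαx⟩ := exists_mem_autInducedBy (P := P) ht (hMN ht).2
    exact ⟨hMT ht, (hMN ht).2, α, hα, hαx⟩
  have hQY : autInducedBy M P ≤ autInducedBy (preimageAlong θ T') P := autInducedBy_mono hMT
  have hI : Inn P < autInducedBy M P := by
    refine lt_of_le_of_ne (by rw [inn_eq_autInducedBy]; exact autInducedBy_mono hPM.le) fun he =>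
      hPM.not_ge fun t ht => ?_
    obtain ⟨α, hα, hαx⟩ := exists_mem_autInducedBy (P := P) ht (hMN ht).2
    rw [← he] at hα
    obtain ⟨z, rfl⟩ := hα
    have hd : (z : Ω)⁻¹ * t ∈ P := h.mem_of_fix hM
      (Subgroup.mul_mem _ (Subgroup.inv_mem _ (hM.2.1 z.2)) (hMT ht)) fun x hx => by
      have h1 := hαx x hx
      rw [apl_conj z hx] at h1
      calc (z : Ω)⁻¹ * t * x * ((z : Ω)⁻¹ * t)⁻¹ = (z : Ω)⁻¹ * (t * x * t⁻¹) * z := by group
        _ = x := by rw [← h1]; group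
    simpa using P.mul_mem z.2 hd
  obtain ⟨e, i, hi, he, hex⟩ := h.exists_ext hup hM hP _ hI hQY a ha (by
    rintro _ ⟨α, hα, rfl⟩
    obtain ⟨m, hm, hmn, hmx⟩ := mem_autInducedBy_iff.1 hα
    have hb1 : b * α * b⁻¹ ∈ autInducedBy (preimageAlong θ T') P :=
      mem_autInducedBy_iff.2 ⟨f m, (h.lift_over hf).2.1 m hm,
        (hf.1.mem_normalizerIn hPM.le hfP hm hmn).2, fun x hx => by
        have hw : apl b⁻¹ x ∈ P := apl_mem _ hx
        rw [apl_mul _ _ hx, apl_mul _ _ (apl_mem _ hx), hmx _ hw,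
          hbx _ ((Subgroup.mem_normalizer_iff.1 hmn _).1 hw), hf.1.map_conj hm (hPM.le hw),
          ← hbx _ hw, apl_apl_inv b hx]⟩
    have h2 := Subgroup.inv_mem _ (h.conj_D_mem_I hM
      ((autInducedBy_mono hMT).trans (h.autT_le_A hM.2.1) hα) (Subgroup.inv_mem _ hδ))
    have h3 : b * (δ⁻¹ * α * δ * α⁻¹) * b⁻¹ ∈ grpI F Z P := by
      refine h.conj_mem_I hPS hb ?_
      convert h2 using 1
      group
    have h4 := Subgroup.mul_mem _ (h.inn_le_autT hM.2.1 h3.1) hb1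
    convert h4 using 1
    show a * α * a⁻¹ = _
    rw [hbδ]
    group)
  replace he := he.mono hMQ
  obtain ⟨-, ā, hā, hāx⟩ := h.star_le_A hM.2.1 ha
  obtain ⟨-, -, f', hf', hf'x⟩ := h.lift_over hf
  obtain ⟨-, -, e', he', he'x⟩ := h.lift_over he
  have hθ : ∀ w ∈ grpD F Z P, ∀ x ∈ P, thFn θ (apl (a * w) x) = apl ā (thFn θ x) :=
    fun w hw x hx => by
      rw [apl_mul _ _ hx, ← hāx _ (apl_mem w hx),
        (h.th_eq (hPS hx) (hPS (apl_mem w hx))).2 (hw.2 x hx)]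
  have heq : ∀ z ∈ imageAlong θ P, e' z = f' z := fun z hz => by
    obtain ⟨x, hx, rfl⟩ := (mem_imageAlong hPS).1 hz
    rw [he'x x (hPM.le hx), hf'x x (hPM.le hx), hex x hx, ← hbx x hx, hbδ, hθ i hi.2 x hx,
      hθ δ hδ x hx]
  obtain ⟨c', hc', hc'x⟩ := eq_on_centric h.isP_T' h.Esat (image_mono hPM.le) hM.2.2 he' hf' heq
  obtain ⟨w, hw, rfl⟩ := (mem_imageAlong hPS).1 (centric_self hM.2.2 hc')
  obtain ⟨M₁, hM₁⟩ := he.1.exists_iso
  obtain ⟨r, hr, hre, -⟩ := hM₁.symm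
  have hrL := subRel_lift.inv hM₁ he hr hre
  have hM₁T : M₁ ≤ preimageAlong θ T' := fun y hy => by
    obtain ⟨x, hx, rfl⟩ := hM₁.exists_eq hy
    exact (h.lift_over he).2.1 x hx
  have hwM := hPM.le hw
  have hcM : ∀ x ∈ M, w * x * w⁻¹ ∈ M := fun x hx => M.mul_mem (M.mul_mem hwM hx) (M.inv_mem hwM)
  -- `g` has the same image as `f`
  have hZM₁ : Z ≤ M₁ := fun z hz => by
    rw [← h.fix he.1 (hMM.1 hz) hz]; exact hM₁.mem (hMM.1 hz)
  have hfM₁ : ∀ x ∈ M, f x ∈ M₁ := fun x hx => by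
    refine (h.th_mem hZM₁ (hM₁T.trans pre_le) (hf.1.mem_S hx)).1 ?_
    rw [← hf'x x hx, hc'x _ (th_mem_image hx), ← thFn_conj (hPS hw) (hMS hx), he'x _ (hcM x hx)]
    exact th_mem_image (hM₁.mem (hcM x hx))
  obtain ⟨κ, hκdef⟩ : ∃ κ : Ω → Ω, κ = fun x => w⁻¹ * r (f x) * w⁻¹⁻¹ := ⟨_, rfl⟩
  have hrf : ∀ x ∈ M, r (f x) ∈ M := fun x hx => hr.mem (hfM₁ x hx)
  have hκL : Lift p F Z θ Eb M κ := by
    rw [hκdef]
    exact subRel_lift.comp (hf.1.comp hr.1 hfM₁) (subRel_lift.comp hf.1 hf hr.1 hrL hfM₁)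
      (mor_conj hMS (S.inv_mem (hPS hw)))
      ((subRel_lift (F := F)).conj hMT (Subgroup.inv_mem _ (hM.2.1 hw))).2 hrf
  have hκM : ∀ x ∈ M, κ x ∈ M := fun x hx => by
    rw [hκdef]
    exact M.mul_mem (M.mul_mem (M.inv_mem hwM) (hrf x hx)) (M.inv_mem (M.inv_mem hwM))
  obtain ⟨M₂, hM₂⟩ := hκL.1.exists_iso
  obtain rfl : M₂ = M := eq_of_le_of_card hMS (fun y hy => by
    obtain ⟨x, hx, rfl⟩ := hM₂.exists_eq hy; exact hκM x hx) hM₂.card_eq.le
  have hκd : ∀ x ∈ M₂, x⁻¹ * κ x ∈ Z := fun x hx => by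
    refine (h.th_eq (hMS hx) (hMS (hκM x hx))).1 ?_
    have hy := hrf x hx
    have hy' := hcM x hx
    have hex' : e (r (f x)) = f x := by
      obtain ⟨y, hy, hyf⟩ := hM₁.exists_eq (hfM₁ x hx)
      rw [← hyf, hre y hy]
    have h1 : e' (thFn θ (r (f x))) = e' (thFn θ (w * x * w⁻¹)) := by
      rw [he'x _ hy, hex', ← hf'x x hx, hc'x _ (th_mem_image hx), thFn_conj (hPS hw) (hMS hx)]
    have h2 := he'.injOn (th_mem_image hy) (th_mem_image hy') h1
    rw [hκdef]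
    simp only
    rw [thFn_conj (S.inv_mem (hPS hw)) (hMS hy), h2, thFn_conj (hPS hw) (hMS hx),
      thFn_inv (hPS hw)]
    group
  obtain ⟨z, hz, hzx⟩ := hup M₂ hMM (card_lt_of_lt' hMS hPM) κ hκL hM₂ hκd
  have hs : w * z ∈ normalizerIn (preimageAlong θ T') P := Subgroup.mul_mem _ (hMN hwM) (hMN hz)
  obtain ⟨c, hc, hcx⟩ := exists_mem_autInducedBy (P := P) hs.1 hs.2
  refine ⟨a * i * c, Subgroup.mul_mem _ (Subgroup.mul_mem _ ha (h.I_le_star hM.2.1 hi))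
    (autT_le_star hc), fun x hx => ?_⟩
  have hy := apl_mem c hx
  rw [apl_mul _ _ hx, ← hex _ hy, hcx x hx]
  have hrfx : r (f x) = w * z * x * (w * z)⁻¹ := by
    have h3 := hzx x (hPM.le hx)
    rw [hκdef] at h3
    simp only at h3
    calc r (f x) = w * (w⁻¹ * r (f x) * w⁻¹⁻¹) * w⁻¹ := by group
      _ = _ := by rw [h3]; group
  obtain ⟨y', hy', hy'f⟩ := hM₁.exists_eq (hfM₁ x (hPM.le hx))
  rw [← hrfx, ← hy'f, hre y' hy']

end Setting

end Cfsg.Agent.FusSys.CL
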