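import Cfsg.Agent.FusSys.CentralLift.Key

/-!
The kernel theorem for the lifted system, by downward induction.
-/

set_option autoImplicit false
set_option maxHeartbeats 800000

namespace Cfsg.Agent.FusSys.CL

open Cfsg Cfsg.FusionSystem Cfsg.Agent.FusSys

universe u v

variable {Ω : Type u} [Group Ω] {S Z P Q M D R R' : Subgroup Ω} {F : FusionSystem S} {p : ℕ}
variable {Ω' : Type v} [Group Ω'] {S' T' P' Q' : Subgroup Ω'} {θ : S →* Ω'}
variable {Fb : FusionSystem S'} {Eb : FusionSystem T'} {f g : Ω → Ω}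

namespace Setting

variable (h : Setting p F Z θ Fb Eb) [Fact p.Prime] [Finite S]
include h

theorem rel_of_ext (hup : ∀ R, Mem Z θ Eb R → Nat.card P < Nat.card R → KeyAt p F Z θ Eb R)
    (hM : Mem Z θ Eb P) (hP : F.IsFullyNormalized P) (hR : R < D)
    (hD : D ≤ normalizerIn (preimageAlong θ T') R) (hf : Lift p F Z θ Eb D f)
    (hi : Iso F R R' f) {g g' : Ω → Ω} (hg : NormMap p F Z θ Eb P R g)
    (hg' : NormMap p F Z θ Eb P R' g') :
    ∃ σ ∈ star p F θ Eb P, ∀ x ∈ R, g' (f x) = apl σ (g x) := by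
  have hRD := hR.le
  have hgD := hg.1.mono hD
  obtain ⟨M, hMi⟩ := hgD.1.exists_iso
  obtain ⟨k, hk, hkg, -⟩ := hMi.symm
  have hkL := subRel_lift.inv hMi hgD hk hkg
  have hfD : ∀ x ∈ D, f x ∈ normalizerIn (preimageAlong θ T') R' := fun x hx =>
    ⟨(h.lift_over hf).2.1 x hx, (hf.1.mem_normalizerIn hRD hi hx (hD hx).2).2⟩
  have hMN : M ≤ normalizerIn (preimageAlong θ T') P := fun y hy => by
    obtain ⟨x, hx, rfl⟩ := hMi.exists_eq hy
    exact ⟨(h.lift_over hgD).2.1 x hx, (hgD.1.mem_normalizerIn hRD hg.2 hx (hD hx).2).2⟩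
  have hPM : P < M := by
    refine lt_of_le_of_ne (fun y hy => ?_) fun he => ?_
    · obtain ⟨x, hx, rfl⟩ := hg.2.exists_eq hy
      exact hMi.mem (hRD hx)
    · have h1 := card_lt_of_lt' hf.1.le hR
      rw [hg.2.card_eq, he, ← hMi.card_eq] at h1
      exact lt_irrefl _ h1
  have hfk : ∀ y ∈ M, f (k y) ∈ normalizerIn (preimageAlong θ T') R' :=
    fun y hy => hfD _ (hk.mem hy)
  have hkD : ∀ y ∈ M, k y ∈ D := fun y hy => hk.mem hy
  have hL : Lift p F Z θ Eb M (g' ∘ f ∘ k) := subRel_lift.comp (hk.1.comp hf.1 hkD)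
    (subRel_lift.comp hk.1 hkL hf.1 hf hkD) hg'.1.1 hg'.1 hfk
  have hkP : Iso F P R k := by
    obtain ⟨l, hl, hlx, -⟩ := hg.2.symm
    refine hl.congr fun y hy => ?_
    obtain ⟨x, hx, rfl⟩ := hg.2.exists_eq hy
    rw [hkg x (hRD hx), hlx x hx]
  obtain ⟨σ, hσ, hσx⟩ := h.restrict_star hup hM hP hPM hMN hL ((hkP.comp hi).comp hg'.2)
  refine ⟨σ, hσ, fun x hx => ?_⟩
  have h1 := hσx (g x) (hg.2.mem hx)
  simp only [Function.comp_apply, hkg x (hRD hx)] at h1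
  exact h1

theorem subRel_rel (hup : ∀ R, Mem Z θ Eb R → Nat.card P < Nat.card R → KeyAt p F Z θ Eb R)
    (hM : Mem Z θ Eb P) (hP : F.IsFullyNormalized P) (hne : P ≠ preimageAlong θ T') :
    SubRel F (preimageAlong θ T') (Rel p F Z θ Eb P) ∧
      ∀ Q α, GenMem p F Z θ Eb Q α → Rel p F Z θ Eb P Q (apl α) := by
  have hTS : preimageAlong θ T' ≤ S := pre_le
  haveI := finite_of_le hTS
  have hlt : ∀ {R g}, Cls Z θ Eb P R → NormMap p F Z θ Eb P R g →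
      R < normalizerIn (preimageAlong θ T') R := by
    intro R g hR hg
    refine lt_normalizerIn (S := preimageAlong θ T') (h.isP.to_le pre_le) ?_
    refine lt_of_le_of_ne hR.2.1 fun he => hne (eq_of_le_of_card hTS hM.2.1 ?_)
    rw [← hg.2.card_eq, he]
  constructor
  · exact
    { congr := by
        rintro Q f f₁ ⟨hL, hf⟩ he
        refine ⟨subRel_lift.congr hL he, fun R R' g g' hRQ hR hi hg hg' => ?_⟩
        obtain ⟨σ, hσ, hσx⟩ := hf R R' g g' hRQ hR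
          (hi.congr fun x hx => (he x (hRQ hx)).symm) hg hg'
        exact ⟨σ, hσ, fun x hx => by rw [he x (hRQ hx)]; exact hσx x hx⟩
      le := fun h1 => subRel_lift.le h1.1
      conj := by
        intro Q t hQ ht
        refine ⟨((subRel_lift (p := p) (F := F) (Z := Z) (θ := θ) (Eb := Eb)).conj hQ ht).1,
          ((subRel_lift (F := F)).conj hQ ht).2, fun R R' g g' hRQ hR hi hg hg' => ?_⟩
        exact h.rel_of_ext hup hM hP (hlt hR hg) le_rfl
          ((subRel_lift (F := F)).conj (normalizerIn_le _ _) ht).2 hi hg hg'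
      comp := by
        rintro Q Q₁ f f₁ hf ⟨hfL, hfR⟩ hf₁ ⟨hf₁L, hf₁R⟩ hfQ
        refine ⟨subRel_lift.comp hf hfL hf₁ hf₁L hfQ, fun R R₂ g g₂ hRQ hR hi hg hg₂ => ?_⟩
        obtain ⟨R₁, hR₁⟩ := (hf.mono hRQ).exists_iso
        have hR₁Q : R₁ ≤ Q₁ := fun y hy => by
          obtain ⟨x, hx, rfl⟩ := hR₁.exists_eq hy; exact hfQ x (hRQ hx)
        have hR₂ : Iso F R₁ R₂ f₁ := ⟨hf₁.mono hR₁Q, fun y => by
          rw [hi.2 y]
          constructor
          · rintro ⟨x, hx, rfl⟩; exact ⟨f x, hR₁.mem hx, rfl⟩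
          · rintro ⟨z, hz, rfl⟩
            obtain ⟨x, hx, rfl⟩ := hR₁.exists_eq hz
            exact ⟨x, hx, rfl⟩⟩
        have hC₁ := h.cls_of_iso hR (hfL.mono hRQ) hR₁
        obtain ⟨g₁, hg₁⟩ := h.exists_normMap hM hP hC₁
        obtain ⟨σ, hσ, hσx⟩ := hfR R R₁ g g₁ hRQ hR hR₁ hg hg₁
        obtain ⟨τ, hτ, hτx⟩ := hf₁R R₁ R₂ g₁ g₂ hR₁Q hC₁ hR₂ hg₁ hg₂
        refine ⟨τ * σ, Subgroup.mul_mem _ hτ hσ, fun x hx => ?_⟩
        show g₂ (f₁ (f x)) = _
        rw [hτx _ (hR₁.mem hx), hσx x hx, apl_mul _ _ (hg.2.mem hx)]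
      inv := by
        rintro Q Q₁ f k hf ⟨hfL, hfR⟩ hk hkf
        have hkL := subRel_lift.inv hf hfL hk hkf
        refine ⟨hkL, fun R R₀ g g₀ hRQ hR hi hg hg₀ => ?_⟩
        have hC₀ := h.cls_of_iso hR (hkL.mono hRQ) hi
        have hR₀Q : R₀ ≤ Q := fun y hy => by
          obtain ⟨x, hx, rfl⟩ := hi.exists_eq hy; exact hk.mem (hRQ hx)
        have hfk : ∀ x ∈ R, f (k x) = x := fun x hx => by
          obtain ⟨y, hy, rfl⟩ := hf.exists_eq (hRQ hx)
          rw [hkf y hy]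
        have hfi : Iso F R₀ R f := ⟨hf.1.mono hR₀Q, fun y => by
          constructor
          · intro hy
            exact ⟨k y, hi.mem hy, hfk y hy⟩
          · rintro ⟨z, hz, rfl⟩
            obtain ⟨x, hx, rfl⟩ := hi.exists_eq hz
            rw [hfk x hx]; exact hx⟩
        obtain ⟨σ, hσ, hσx⟩ := hfR R₀ R g₀ g hR₀Q hC₀ hfi hg₀ hg
        refine ⟨σ⁻¹, Subgroup.inv_mem _ hσ, fun x hx => ?_⟩
        have hz := hi.mem hx
        have h1 := hσx _ hz
        rw [hfk x hx] at h1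
        rw [h1, apl_inv_apl σ (hg₀.2.mem hz)] }
  · rintro Q α ⟨hMQ, hGQ, hα⟩
    have hαA := h.star_le_A hMQ.2.1 hα
    have hαL : Lift p F Z θ Eb Q (apl α) := lift_gen ⟨hMQ, hGQ, hα⟩ hαA.1
    refine ⟨hαL, fun R R' g g' hRQ hR hi hg hg' => ?_⟩
    rcases hRQ.lt_or_eq with hlt' | heq
    · have hQS := hMQ.2.1.trans hTS
      haveI := finite_of_le hQS
      exact h.rel_of_ext hup hM hP
        (lt_normalizerIn (S := Q) (h.isP.to_le hQS) hlt')
        (inf_le_inf_right _ hMQ.2.1) (hαL.mono (normalizerIn_le _ _)) hi hg hg'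
    · subst heq
      obtain rfl : R = R' := ((iso_apl (hMQ.2.1.trans hTS) hαA.1).eq_image hi)
      obtain ⟨σ, hσ, hσx⟩ := h.rel_of_ext hup hM hP (f := id) (hlt hR hg) le_rfl
        (lift_id (normalizerIn_le _ _)) (iso_id hi.left_le) hg hg'
      refine ⟨σ * hg.2.conjAut α, Subgroup.mul_mem _ hσ (h.star_transport hMQ hg.1.1 hg.2 hα),
        fun x hx => ?_⟩
      rw [apl_mul _ _ (hg.2.mem hx), hg.2.conjAut_apl α hx]
      exact hσx _ (apl_mem α hx)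

/-- At a fully normalized member the lifted automorphisms lie in `star`. -/
theorem lift_aut_fn (hup : ∀ R, Mem Z θ Eb R → Nat.card P < Nat.card R → KeyAt p F Z θ Eb R)
    (hM : Mem Z θ Eb P) (hP : F.IsFullyNormalized P) (hf : Lift p F Z θ Eb P f)
    (hi : Iso F P P f) : ∃ σ ∈ star p F θ Eb P, ∀ x ∈ P, f x = apl σ x := by
  by_cases hne : P = preimageAlong θ T'
  · subst hne
    have hTS : preimageAlong θ T' ≤ S := pre_le
    let M : Subgroup Ω → (Ω → Ω) → Prop := fun Q f =>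
      Lift p F Z θ Eb Q f ∧ (Q = preimageAlong θ T' →
        ∃ σ ∈ star p F θ Eb (preimageAlong θ T'), ∀ x ∈ preimageAlong θ T', f x = apl σ x)
    have hS : SubRel F (preimageAlong θ T') M :=
      { congr := by
          rintro Q f f₁ ⟨h1, h2⟩ he
          refine ⟨subRel_lift.congr h1 he, fun hQ => ?_⟩
          obtain ⟨σ, hσ, hσx⟩ := h2 hQ
          exact ⟨σ, hσ, fun x hx => by rw [he x (hQ.ge hx)]; exact hσx x hx⟩
        le := fun h1 => subRel_lift.le h1.1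
        conj := by
          intro Q t hQ ht
          refine ⟨((subRel_lift (p := p) (F := F) (Z := Z) (θ := θ) (Eb := Eb)).conj hQ ht).1,
            ((subRel_lift (F := F)).conj hQ ht).2, fun _ => ?_⟩
          obtain ⟨c, hc, hcx⟩ := exists_mem_autInducedBy (P := preimageAlong θ T') ht
            (Subgroup.le_normalizer ht)
          exact ⟨c, autT_le_star hc, fun x hx => (hcx x hx).symm⟩
        comp := by
          rintro Q Q₁ f f₁ hf ⟨hfL, hfR⟩ hf₁ ⟨hf₁L, hf₁R⟩ hfQ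
          refine ⟨subRel_lift.comp hf hfL hf₁ hf₁L hfQ, fun hQ => ?_⟩
          obtain ⟨σ, hσ, hσx⟩ := hfR hQ
          obtain ⟨τ, hτ, hτx⟩ := hf₁R (le_antisymm (subRel_lift.le hf₁L).1 fun y hy => by
            have hy' := apl_mem σ⁻¹ hy
            have h1 := hfQ _ (hQ.ge hy')
            rwa [hσx _ hy', apl_apl_inv σ hy] at h1)
          refine ⟨τ * σ, Subgroup.mul_mem _ hτ hσ, fun x hx => ?_⟩
          show f₁ (f x) = _
          rw [hσx x hx, hτx _ (apl_mem σ hx), apl_mul _ _ hx]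
        inv := by
          rintro Q Q₁ f k hf ⟨hfL, hfR⟩ hk hkf
          refine ⟨subRel_lift.inv hf hfL hk hkf, fun hQ₁ => ?_⟩
          have hQT := (subRel_lift.le hfL).1
          obtain ⟨σ, hσ, hσx⟩ := hfR (eq_of_le_of_card hTS hQT
            (by rw [hf.card_eq, hQ₁]))
          refine ⟨σ⁻¹, Subgroup.inv_mem _ hσ, fun y hy => ?_⟩
          obtain ⟨x, hx, rfl⟩ := hf.exists_eq (hQ₁.ge hy)
          rw [hkf x hx, hσx x (hQT hx), apl_inv_apl σ (hQT hx)] }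
    refine (hf.2 M hS fun Q α hg => ?_).2 rfl
    refine ⟨lift_gen hg (h.star_le_A hg.1.2.1 hg.2.2).1, fun hQ => ?_⟩
    subst hQ
    exact ⟨α, hg.2.2, fun _ _ => rfl⟩
  · obtain ⟨hS, hgen⟩ := h.subRel_rel hup hM hP hne
    exact (hf.2 _ hS hgen).2 P P id id le_rfl (h.cls_self hM) hi (h.normMap_id hM) (h.normMap_id hM)

/-- The kernel theorem. -/
theorem keyAt : ∀ P, Mem Z θ Eb P → KeyAt p F Z θ Eb P := by
  classical
  have hTS : preimageAlong θ T' ≤ S := pre_le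
  haveI := finite_of_le hTS
  suffices H : ∀ n, ∀ P, Mem Z θ Eb P → Nat.card ↥(preimageAlong θ T') - Nat.card P ≤ n →
      KeyAt p F Z θ Eb P from fun P hP => H _ P hP le_rfl
  intro n
  induction n using Nat.strong_induction_on with
  | h n ih =>
  intro P₀ hM₀ hn f hf hfi hfd
  haveI := h.finite'
  haveI := h.finite_T'
  obtain ⟨R, e, hR, ⟨Q, β, hβ, hQ, hgi⟩, he⟩ := h.exists_good hM₀
  have hP₀S : P₀ ≤ S := hM₀.2.1.trans hTS
  obtain ⟨μ, hμ, hμx⟩ := h.exists_lift_Eb he.1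
  rw [h.pre_image hM₀.1 hP₀S] at hμ hμx
  have hμi : Iso F P₀ R μ := h.iso_of_image hμ.1 hM₀.1 hR.1 (hR.2.1.trans hTS) he hμx
  obtain ⟨r, hr, hrμ, -⟩ := hμi.symm
  have hrL := subRel_lift.inv hμi hμ hr hrμ
  have hf₁ : Lift p F Z θ Eb R (μ ∘ f ∘ r) :=
    subRel_lift.comp (hr.comp hfi).1
      (subRel_lift.comp hr.1 hrL hf.1 hf fun x hx => hr.mem hx) hμ.1 hμ
      fun x hx => hfi.mem (hr.mem hx)
  obtain ⟨kβ, hk, hkx⟩ := (h.lift_tr hf₁).2.2 β hβ
  have hQR : mapT β R = Q := by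
    ext y
    rw [mem_mapT hR.2.1]
    exact (hgi.2 y).symm
  rw [hQR] at hk
  have hMQ := h.mem_of_iso hR hgi
  have hc0 := hμi.card_eq
  have hc1 := hgi.card_eq
  have hup : ∀ X, Mem Z θ Eb X → Nat.card Q < Nat.card X → KeyAt p F Z θ Eb X := fun X hX hlt => by
    have h1 := Subgroup.card_le_of_le hX.2.1
    exact ih (Nat.card ↥(preimageAlong θ T') - Nat.card X) (by omega) X hX le_rfl
  have hgμ : ∀ y ∈ Q, ∃ x ∈ P₀, apl β (μ x) = y ∧ kβ y = apl β (μ (f x)) := fun y hy => by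
    obtain ⟨w, hw, rfl⟩ := hgi.exists_eq hy
    obtain ⟨x, hx, rfl⟩ := hμi.exists_eq hw
    refine ⟨x, hx, rfl, ?_⟩
    rw [hkx _ (hμi.mem hx)]
    show apl β (μ (f (r (μ x)))) = _
    rw [hrμ x hx]
  have hki : Iso F Q Q kβ := by
    obtain ⟨Q₁, hQ₁⟩ := hk.1.exists_iso
    obtain rfl : Q₁ = Q := eq_of_le_of_card hQ.1 (fun y hy => by
      obtain ⟨z, hz, rfl⟩ := hQ₁.exists_eq hy
      obtain ⟨x, hx, -, hxk⟩ := hgμ z hz
      rw [hxk]
      exact hgi.mem (hμi.mem (hfi.mem hx))) hQ₁.card_eq.le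
    exact hQ₁
  have hkd : ∀ y ∈ Q, y⁻¹ * kβ y ∈ Z := fun y hy => by
    obtain ⟨x, hx, hxy, hxk⟩ := hgμ y hy
    rw [hxk, ← hxy]
    have hm : Mor F P₀ (apl β ∘ μ) := (hμi.comp hgi).1
    have hd : x⁻¹ * f x ∈ P₀ := P₀.mul_mem (P₀.inv_mem hx) (hfi.mem hx)
    have e1 : apl β (μ (x * (x⁻¹ * f x))) = apl β (μ x) * apl β (μ (x⁻¹ * f x)) := hm.map_mul hx hd
    have e2 : apl β (μ (x⁻¹ * f x)) = x⁻¹ * f x := h.fix hm hd (hfd x hx)
    rw [mul_inv_cancel_left, e2] at e1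
    rw [e1, inv_mul_cancel_left]
    exact hfd x hx
  obtain ⟨σ, hσ, hσx⟩ := h.lift_aut_fn hup hMQ hQ hk hki
  have hσD : σ ∈ grpD F Z Q :=
    ⟨(h.star_le_A hMQ.2.1 hσ).1, fun y hy => by rw [← hσx y hy]; exact hkd y hy⟩
  obtain ⟨⟨z, hz⟩, -⟩ := h.star_inf_D_fn hMQ hQ hσ hσD
  obtain ⟨w, hw, hwz, -⟩ := hgμ z z.2
  refine ⟨w, hw, fun x hx => ?_⟩
  have hy : apl β (μ x) ∈ Q := hgi.mem (hμi.mem hx)
  obtain ⟨x', hx', hx'y, hx'k⟩ := hgμ _ hy
  obtain rfl : x' = x :=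
    hμ.1.injOn hx' hx ((hgi.1.injOn) (hμi.mem hx') (hμi.mem hx) hx'y)
  have h2 : apl β (μ (f x')) = apl β (μ (w * x' * w⁻¹)) := by
    rw [← hx'k, hσx _ hy, ← hz, apl_conj z hy, ← hwz, hμ.1.map_conj hw hx',
      hgi.1.map_conj (hμi.mem hw) (hμi.mem hx')]
  have hwx : w * x' * w⁻¹ ∈ P₀ := P₀.mul_mem (P₀.mul_mem hw hx') (P₀.inv_mem hw)
  exact hμ.1.injOn (hfi.mem hx') hwx (hgi.1.injOn (hμi.mem (hfi.mem hx')) (hμi.mem hwx) h2)

/-- The lifted automorphisms at a good member lie over the group `grpA` and meet `grpD` in inner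
automorphisms. -/
theorem lift_aut_good (hM : Mem Z θ Eb P) (hP : F.IsFullyNormalized P) (hf : Lift p F Z θ Eb P f)
    (hi : Iso F P P f) : ∃ σ ∈ star p F θ Eb P, ∀ x ∈ P, f x = apl σ x :=
  h.lift_aut_fn (fun R hR _ => h.keyAt R hR) hM hP hf hi

end Setting

end Cfsg.Agent.FusSys.CL
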