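import Cfsg.Agent.FusSys.CentralLift.Sat
import Cfsg.Agent.FusSys.InvariantCrit

/-!
The lifted system is normal.
-/

set_option autoImplicit false
set_option maxHeartbeats 800000

namespace Cfsg.Agent.FusSys.CL

open Cfsg Cfsg.FusionSystem Cfsg.Agent.FusSys

universe u v

variable {Ω : Type u} [Group Ω] {S Z P Q R : Subgroup Ω} {F : FusionSystem S} {p : ℕ}
variable {Ω' : Type v} [Group Ω'] {S' T' P' Q' : Subgroup Ω'} {θ : S →* Ω'}
variable {Fb : FusionSystem S'} {Eb : FusionSystem T'} {f g : Ω → Ω}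

namespace Setting

variable (h : Setting p F Z θ Fb Eb) [Fact p.Prime] [Finite S]
include h

theorem liftSys_transInv : TransInv (liftSys p F Z θ Eb) F := fun {_ _} hf {_} hβ => by
  obtain ⟨k, hk, hkx⟩ := (h.lift_tr (mor_liftSys.1 hf)).2.2 _ hβ
  exact ⟨k, mor_liftSys.2 hk, hkx⟩

theorem frattiniRel_top {f : Ω → Ω} (hf : Mor F (preimageAlong θ T') f) :
    FrattiniRel (liftSys p F Z θ Eb) F (preimageAlong θ T') f := by
  obtain ⟨β, hβ, hβx⟩ := (StronglyClosed.iso_self h.Tsc hf le_rfl).exists_mem_autGroup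
  exact ⟨β, hβ, id, mor_id le_rfl, fun x hx => (hβx x hx).symm⟩

theorem frattiniRel_aut_D (hZ : Z ≤ P) (hPT : P ≤ preimageAlong θ T')
    (hup : ∀ R, Z ≤ R → R ≤ preimageAlong θ T' → Nat.card P < Nat.card R → ∀ f, Mor F R f →
      FrattiniRel (liftSys p F Z θ Eb) F R f)
    (hne : P ≠ preimageAlong θ T') {δ : MulAut P} (hδ : δ ∈ grpD F Z P) :
    FrattiniRel (liftSys p F Z θ Eb) F P (apl δ) := by
  have hTS : preimageAlong θ T' ≤ S := pre_le
  haveI := finite_of_le hTS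
  have hPS : P ≤ S := hPT.trans hTS
  obtain ⟨Q, g, hQ, hg, hgi, -⟩ := exists_fullyNormalized_mor h.isP h.sat hPS
  have hlt : P < normalizerIn (preimageAlong θ T') P :=
    lt_normalizerIn (S := preimageAlong θ T') (h.isP.to_le hTS) (lt_of_le_of_ne hPT hne)
  have hFg : FrattiniRel (liftSys p F Z θ Eb) F P g :=
    (hup _ (hZ.trans hlt.le) (normalizerIn_le _ _) (card_lt_of_lt' ((normalizerIn_le _ _).trans hTS) hlt)
      g (hg.mono (inf_le_inf_right _ hTS))).mono hlt.le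
  obtain ⟨g', hg', hg'g, -⟩ := hgi.symm
  obtain ⟨k, hk, -, hkx⟩ := mem_autInducedBy_iff.1 (h.D_le_autS hQ (h.conjAut_mem_D hgi hδ))
  have hQT : Q ≤ preimageAlong θ T' := fun y hy => by
    obtain ⟨x, hx, rfl⟩ := hgi.exists_eq hy
    exact StronglyClosed.mor_mem h.Tsc hgi.1 hx (hPT hx)
  have hFk : FrattiniRel (liftSys p F Z θ Eb) F Q (apl (hgi.conjAut δ)) :=
    ((h.frattiniRel_top (mor_conj hTS hk)).mono hQT).congr fun x hx => hkx x hx
  have hFg' := FrattiniRel.inv' h.liftSys_transInv hgi hFg hg'g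
  refine (FrattiniRel.comp' h.liftSys_transInv hQT (FrattiniRel.comp' h.liftSys_transInv hQT hFg hFk
    fun x hx => hgi.mem hx) hFg' fun x hx => apl_mem _ (hgi.mem hx)).congr fun x hx => ?_
  show apl δ x = g' (apl (hgi.conjAut δ) (g x))
  rw [hgi.conjAut_apl δ hx, hg'g _ (apl_mem δ hx)]

theorem frattini_of_Z_le : ∀ P, Z ≤ P → P ≤ preimageAlong θ T' → ∀ f, Mor F P f →
    FrattiniRel (liftSys p F Z θ Eb) F P f := by
  classical
  haveI := h.finite'
  haveI := h.finite_T'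
  have hTS : preimageAlong θ T' ≤ S := pre_le
  haveI := finite_of_le hTS
  suffices H : ∀ d, ∀ P, Z ≤ P → P ≤ preimageAlong θ T' →
      Nat.card ↥(preimageAlong θ T') - Nat.card P ≤ d → ∀ f, Mor F P f →
      FrattiniRel (liftSys p F Z θ Eb) F P f from fun P hZ hP f hf => H _ P hZ hP le_rfl f hf
  intro d
  induction d using Nat.strong_induction_on with
  | _ d ih =>
  intro P hZ hPT hd f hf
  by_cases hne : P = preimageAlong θ T'
  · subst hne
    exact h.frattiniRel_top hf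
  have hup : ∀ R, Z ≤ R → R ≤ preimageAlong θ T' → Nat.card P < Nat.card R → ∀ f, Mor F R f →
      FrattiniRel (liftSys p F Z θ Eb) F R f := fun R hZR hR hlt g hg => by
    have h1 := Subgroup.card_le_of_le hR
    exact ih _ (by omega) R hZR hR le_rfl g hg
  have hPS : P ≤ S := hPT.trans hTS
  obtain ⟨P₂, hP₂⟩ := hf.exists_iso
  obtain ⟨-, f', hf', hf'x⟩ := h.exists_image_iso hP₂ hZ
  obtain ⟨b, hb, e', he', hfe⟩ := exists_frattini h.Einv (h.image_le hPT) hf'.1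
  obtain ⟨β₀, hβ₀, hβ₀x⟩ := h.exists_lift_iso (iso_apl h.T'sc.1 hb)
  obtain ⟨β, hβ, hββ₀⟩ := hβ₀.exists_mem_autGroup
  obtain ⟨e, he, hex⟩ := h.exists_lift_Eb he'
  rw [h.pre_image hZ hPS] at he hex
  obtain ⟨R, hR⟩ := he.1.exists_iso
  obtain ⟨r, hr, hre, her⟩ := hR.symm
  have hRT : R ≤ preimageAlong θ T' := fun y hy => by
    obtain ⟨x, hx, rfl⟩ := hR.exists_eq hy
    exact (h.lift_over he).2.1 x hx
  have hfT : ∀ x ∈ P, f x ∈ preimageAlong θ T' :=
    fun x hx => StronglyClosed.mor_mem h.Tsc hf hx (hPT hx)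
  have hmb : Mor F (preimageAlong θ T') (apl β⁻¹) := (iso_apl hTS (Subgroup.inv_mem _ hβ)).1
  have hmem : ∀ x ∈ P, apl β⁻¹ (f x) ∈ R := fun x hx => by
    have hy := apl_mem β⁻¹ (hfT x hx)
    refine (h.th_mem (fun z hz => ?_) (hRT.trans hTS) (hTS hy)).1 ?_
    · rw [← h.fix he.1 (hZ hz) hz]; exact hR.mem (hZ hz)
    have h1 := hβ₀x _ hy
    rw [← hββ₀ _ hy, apl_apl_inv β (hfT x hx), ← hf'x x hx, hfe _ (th_mem_image hx)] at h1
    have h2 := congrArg (apl b⁻¹) h1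
    rw [apl_inv_apl b (mem_pre.1 hy).2, apl_inv_apl b (he'.mem_S (th_mem_image hx))] at h2
    rw [h2, hex x hx]
    exact th_mem_image (hR.mem hx)
  have hbf : Mor F P (apl β⁻¹ ∘ f) := hf.comp hmb hfT
  have hδm : Mor F P (r ∘ (apl β⁻¹ ∘ f)) := hbf.comp hr.1 hmem
  obtain ⟨P₃, hP₃⟩ := hδm.exists_iso
  obtain rfl : P₃ = P := eq_of_le_of_card hPS (fun y hy => by
    obtain ⟨x, hx, rfl⟩ := hP₃.exists_eq hy; exact hr.mem (hmem x hx)) hP₃.card_eq.le
  obtain ⟨δ, hδ, hδx⟩ := hP₃.exists_mem_autGroup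
  have hδD : δ ∈ grpD F Z P₃ := ⟨hδ, fun x hx => by
    rw [hδx x hx]
    have hz : r (apl β⁻¹ (f x)) ∈ P₃ := hr.mem (hmem x hx)
    refine (h.th_eq (hPS hx) (hPS hz)).1 (he'.injOn (th_mem_image hx) (th_mem_image hz) ?_)
    rw [hex _ hz, her _ (hmem x hx)]
    have hy := apl_mem β⁻¹ (hfT x hx)
    have h1 := hβ₀x _ hy
    rw [← hββ₀ _ hy, apl_apl_inv β (hfT x hx), ← hf'x x hx, hfe _ (th_mem_image hx)] at h1
    have h2 := congrArg (apl b⁻¹) h1
    rw [apl_inv_apl b (mem_pre.1 hy).2, apl_inv_apl b (he'.mem_S (th_mem_image hx))] at h2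
    exact h2.symm⟩
  have hFδ := h.frattiniRel_aut_D hZ hPT hup hne hδD
  have hFe : FrattiniRel (liftSys p F Z θ Eb) F P₃ (apl β ∘ e) :=
    ⟨β, hβ, e, mor_liftSys.2 he, fun x _ => rfl⟩
  refine (FrattiniRel.comp' h.liftSys_transInv hPT hFδ hFe fun x hx => apl_mem δ hx).congr
    fun x hx => ?_
  show f x = apl β (e (apl δ x))
  rw [hδx x hx]
  simp only [Function.comp_apply]
  rw [her _ (hmem x hx)]
  exact (apl_apl_inv β (hfT x hx)).symm

theorem frattini_lift {P : Subgroup Ω} (hPT : P ≤ preimageAlong θ T') {f : Ω → Ω} (hf : Mor F P f) :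
    FrattiniRel (liftSys p F Z θ Eb) F P f := by
  obtain ⟨g, hg, hgf, -⟩ := (isCentral_iff.1 h.cen).2 P f hf
  exact ((h.frattini_of_Z_le _ le_sup_right (sup_le hPT (h.Z_le_pre T')) g hg).mono le_sup_left).congr
    fun x hx => (hgf x hx).symm

theorem liftSys_invariant : (liftSys p F Z θ Eb).IsInvariantIn F := by
  refine ⟨liftSys_sub, h.Tsc, fun P hPT φ hφ α hα => ?_, fun P hPT φ hφ => ?_⟩
  · obtain ⟨k, hk, hkx⟩ := h.liftSys_transInv (mor_extendFn hφ) hα
    obtain ⟨χ, hχ, hχk⟩ := hk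
    refine ⟨χ, hχ, fun x hφx hαx => ?_⟩
    rw [hχk, ← apl_apply α (hPT x.2), hkx _ x.2, extendFn_coe, ← apl_apply α hφx]
  · obtain ⟨β, hβ, g, hg, hgx⟩ := h.frattini_lift hPT (mor_extendFn hφ)
    obtain ⟨φ₀, hφ₀, hφ₀g⟩ := hg
    refine ⟨β, hβ, φ₀, hφ₀, fun x hx => ?_⟩
    rw [← apl_apply β hx, hφ₀g, ← hgx x x.2, extendFn_coe]

/-- The extension condition for an automorphism of order prime to `p`. -/
theorem exists_ext_condition_coprime {a : MulAut ↥(preimageAlong θ T')}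
    (ha : a ∈ grpA F θ Eb (preimageAlong θ T')) (hco : (orderOf a).Coprime p) :
    ∃ β ∈ F.autGroup (preimageAlong θ T' ⊔ centralizerIn S (preimageAlong θ T')),
      (∀ x ∈ preimageAlong θ T', apl β x = apl a x) ∧
      ∀ c ∈ centralizerIn S (preimageAlong θ T'), c⁻¹ * apl β c ∈ preimageAlong θ T' := by
  classical
  haveI := h.finite'
  haveI := h.finite_T'
  have hTS : preimageAlong θ T' ≤ S := pre_le
  haveI := finite_of_le hTS
  have himT : imageAlong θ (preimageAlong θ T') = T' := h.image_pre h.T'sc.1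
  obtain ⟨-, ā, hā, hāx⟩ := id ha
  obtain ⟨ā', hā', hā'x⟩ := (show Iso Eb T' T' (apl ā) by
    have h0 := iso_apl (himT.le) hā
    generalize apl ā = fa at h0 ⊢
    rwa [himT] at h0).exists_mem_autGroup
  obtain ⟨b, hb, hbT, hbC⟩ := h.normal.2 ā' hā'
  have hW'S : T' ⊔ centralizerIn S' T' ≤ S' := sup_le h.T'sc.1 (centralizerIn_le _ _)
  obtain ⟨g, hg, hgx⟩ := h.exists_lift_iso (iso_apl hW'S hb)
  obtain ⟨W, hW⟩ : ∃ W, preimageAlong θ (T' ⊔ centralizerIn S' T') = W := ⟨_, rfl⟩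
  rw [hW] at hg hgx
  have hTW : preimageAlong θ T' ≤ W := hW ▸ fun x hx =>
    mem_pre.2 ⟨pre_le hx, Subgroup.mem_sup_left (mem_pre.1 hx).2⟩
  have hWS : W ≤ S := hg.left_le
  haveI := finite_of_le hWS
  haveI : Finite (MulAut W) := Finite.of_injective _ MulEquiv.toEquiv_injective
  have hCW : centralizerIn S (preimageAlong θ T') ≤ W := hW ▸ fun c hc => by
    refine mem_pre.2 ⟨hc.1, Subgroup.mem_sup_right ⟨h.th_S' hc.1,
      Subgroup.mem_centralizer_iff.2 fun z hz => ?_⟩⟩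
    obtain ⟨x, hx, rfl⟩ := exists_pre (θ := θ) (h.T'sc.1.trans_eq h.range_eq.symm) hz
    rw [← thFn_mul (pre_le hx) hc.1, ← thFn_mul hc.1 (pre_le hx),
      Subgroup.mem_centralizer_iff.1 hc.2 x hx]
  have hgT := StronglyClosed.iso_self h.Tsc hg.1 hTW
  obtain ⟨α₁, hα₁, hα₁x⟩ := hgT.exists_mem_autGroup
  -- the restriction of the lift is `a` times a conjugation
  have hδ : a⁻¹ * α₁ ∈ grpD F Z (preimageAlong θ T') :=
    ⟨Subgroup.mul_mem _ (Subgroup.inv_mem _ ha.1) hα₁, fun x hx => by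
      rw [apl_mul _ _ hx]
      have hy := apl_mem a⁻¹ (apl_mem α₁ hx)
      refine (h.th_eq (hTS hx) (hTS hy)).1 ?_
      have h1 := hāx _ hy
      have e : thFn θ (apl α₁ x) = apl ā (thFn θ x) := by
        rw [hα₁x x hx, ← hgx x (hTW hx), apl_apply b (Subgroup.mem_sup_left (mem_pre.1 hx).2),
          show ((b ⟨thFn θ x, Subgroup.mem_sup_left (mem_pre.1 hx).2⟩ :
          ↥(T' ⊔ centralizerIn S' T')) : Ω') = _ from hbT ⟨thFn θ x, (mem_pre.1 hx).2⟩,
          ← apl_coe ā', hā'x _ (mem_pre.1 hx).2]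
      rw [apl_apl_inv a (apl_mem α₁ hx), e] at h1
      have h2 := congrArg (apl ā⁻¹) h1
      rw [apl_inv_apl ā (th_mem_image hy), apl_inv_apl ā (th_mem_image hx)] at h2
      exact h2.symm⟩
  have hTn : ∀ s ∈ S, s ∈ Subgroup.normalizer ((preimageAlong θ T' : Subgroup Ω) : Set Ω) :=
    fun s hs => StronglyClosed.le_normalizer h.Tsc hs
  have hTfn : F.IsFullyNormalized (preimageAlong θ T') := ⟨hTS, fun Q _ => by
    rw [show normalizerIn S (preimageAlong θ T') = S from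
      le_antisymm inf_le_left fun s hs => ⟨hs, hTn s hs⟩]
    exact Subgroup.card_le_of_le inf_le_left⟩
  obtain ⟨k, hk, -, hkx⟩ := mem_autInducedBy_iff.1 (h.D_le_autS hTfn hδ)
  have hkW : k ∈ W := hW ▸ mem_pre.2 ⟨hk, Subgroup.mem_sup_right ⟨h.th_S' hk,
    Subgroup.mem_centralizer_iff.2 fun z hz => by
      obtain ⟨x, hx, rfl⟩ := exists_pre (θ := θ) (h.T'sc.1.trans_eq h.range_eq.symm) hz
      have h1 := (h.th_eq (hTS hx) (hTS (apl_mem (a⁻¹ * α₁) hx))).2 (hδ.2 x hx)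
      rw [hkx x hx, thFn_conj hk (hTS hx)] at h1
      conv_lhs => rw [h1]
      group⟩⟩
  have hcW : ∀ x ∈ W, k⁻¹ * x * k ∈ W := fun x hx => W.mul_mem (W.mul_mem (W.inv_mem hkW) hx) hkW
  obtain ⟨η, hη, hηx⟩ := (((iso_conj_self (F := F) hWS (S.inv_mem hk)
    (Subgroup.inv_mem _ (Subgroup.le_normalizer hkW))).comp (by
      have e : W = W := rfl
      exact ⟨hg.1, fun y => by
        rw [← hW] at hg ⊢
        exact hg.2 y⟩ : Iso F W W g))).exists_mem_autGroup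
  have hηg : ∀ x ∈ W, apl η x = g (k⁻¹ * x * k) := fun x hx => by
    rw [hηx x hx]; show g (k⁻¹ * x * k⁻¹⁻¹) = _; rw [inv_inv]
  have hgmod : ∀ x ∈ W, x⁻¹ * g x ∈ preimageAlong θ T' := fun x hx => by
    have hxS := hWS hx
    have hgxS : g x ∈ S := hg.1.mem_S hx
    have hxW' : thFn θ x ∈ T' ⊔ centralizerIn S' T' := (mem_pre.1 (hW.ge hx)).2
    refine mem_pre.2 ⟨S.mul_mem (S.inv_mem hxS) hgxS, ?_⟩
    rw [thFn_mul (S.inv_mem hxS) hgxS, thFn_inv hxS, ← hgx x hx, apl_apply b hxW']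
    have hCn : centralizerIn S' T' ≤ Subgroup.normalizer (T' : Set Ω') := fun c hc =>
      Subgroup.centralizer_le_normalizer (T' : Set Ω') hc.2
    obtain ⟨t, ht, c, hc, htc⟩ : ∃ t ∈ T', ∃ c ∈ centralizerIn S' T', t * c = thFn θ x := by
      have h0 : thFn θ x ∈ ((T' ⊔ centralizerIn S' T' : Subgroup Ω') : Set Ω') := hxW'
      rw [Subgroup.coe_mul_of_right_le_normalizer_left T' (centralizerIn S' T') hCn] at h0
      exact Set.mem_mul.1 h0
    have hbt : ((b ⟨t, Subgroup.mem_sup_left ht⟩ : ↥(T' ⊔ centralizerIn S' T')) : Ω') ∈ T' := by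
      rw [show ((b ⟨t, Subgroup.mem_sup_left ht⟩ : ↥(T' ⊔ centralizerIn S' T')) : Ω') = _ from
        hbT ⟨t, ht⟩]
      exact (ā' ⟨t, ht⟩).2
    have hbc := (hbC ⟨c, Subgroup.mem_sup_right hc⟩ hc).1
    have hmul : b ⟨thFn θ x, hxW'⟩ =
        b ⟨t, Subgroup.mem_sup_left ht⟩ * b ⟨c, Subgroup.mem_sup_right hc⟩ := by
      rw [← map_mul]
      exact congrArg b (Subtype.ext htc.symm)
    rw [hmul, Subgroup.coe_mul, ← htc]
    obtain ⟨u, hu⟩ : ∃ u, u = t⁻¹ * ((b ⟨t, Subgroup.mem_sup_left ht⟩ : ↥(T' ⊔ centralizerIn S' T')) : Ω') :=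
      ⟨_, rfl⟩
    have huT : u ∈ T' := hu ▸ T'.mul_mem (T'.inv_mem ht) hbt
    obtain ⟨v, hv⟩ : ∃ v, v = c⁻¹ * ((b ⟨c, Subgroup.mem_sup_right hc⟩ : ↥(T' ⊔ centralizerIn S' T')) : Ω') :=
      ⟨_, rfl⟩
    rw [← hv] at hbc
    have e : (t * c)⁻¹ * (((b ⟨t, Subgroup.mem_sup_left ht⟩ : ↥(T' ⊔ centralizerIn S' T')) : Ω') *
        ((b ⟨c, Subgroup.mem_sup_right hc⟩ : ↥(T' ⊔ centralizerIn S' T')) : Ω')) = u * v := by
      calc _ = c⁻¹ * u * c * v := by rw [hu, hv]; group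
        _ = u * v := by rw [show c⁻¹ * u * c = u by
              rw [mul_assoc, Subgroup.mem_centralizer_iff.1 hc.2 u huT, inv_mul_cancel_left]]
    rw [e]
    exact T'.mul_mem huT hbc
  have hn : ∀ n : ℕ, ∀ x ∈ W,
      ((k ^ n)⁻¹ * x * k ^ n)⁻¹ * apl (η ^ n) x ∈ preimageAlong θ T' := by
    intro n
    induction n with
    | zero => intro x hx; rw [pow_zero, pow_zero, apl_one hx]; simp
    | succ n ih =>
      intro x hx
      have hkn := W.pow_mem hkW n
      have hy : (k ^ n)⁻¹ * x * k ^ n ∈ W := W.mul_mem (W.mul_mem (W.inv_mem hkn) hx) hkn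
      obtain ⟨y, hydef⟩ : ∃ y, y = (k ^ n)⁻¹ * x * k ^ n := ⟨_, rfl⟩
      rw [← hydef] at hy
      have ih' := ih x hx
      rw [← hydef] at ih'
      obtain ⟨t, ht⟩ : ∃ t, t = y⁻¹ * apl (η ^ n) x := ⟨_, rfl⟩
      rw [← ht] at ih'
      have hm := (iso_apl hWS hη).1
      rw [pow_succ' η n, apl_mul _ _ hx, show apl (η ^ n) x = y * t by rw [ht]; group,
        hm.map_mul hy (hTW ih')]
      have h1 : (k⁻¹ * y * k)⁻¹ * apl η y ∈ preimageAlong θ T' := by
        rw [hηg y hy]; exact hgmod _ (hcW y hy)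
      have h2 : apl η t ∈ preimageAlong θ T' := StronglyClosed.mor_mem h.Tsc hm (hTW ih') ih'
      have h3 := Subgroup.mul_mem _ h1 h2
      convert h3 using 1
      rw [hydef, pow_succ k n]
      group
  obtain ⟨u, c, huc, -, hu, hc, ⟨e, he⟩, hcco⟩ :=
    Cfsg.Agent.Fusion.exists_pPart_mul (p := p) η (isOfFinOrder_of_finite η)
  have hηT : ∀ x ∈ preimageAlong θ T', apl η x = apl a x := fun x hx => by
    have hy : k⁻¹ * x * k ∈ preimageAlong θ T' :=
      (Subgroup.mem_normalizer_iff''.1 (hTn k hk) x).1 hx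
    rw [hηg x (hTW hx), ← hα₁x _ hy]
    have hδi : apl (a⁻¹ * α₁)⁻¹ x = k⁻¹ * x * k := by
      have hz := apl_mem (a⁻¹ * α₁)⁻¹ hx
      have h1 := hkx _ hz
      rw [apl_apl_inv _ hx] at h1
      conv_rhs => rw [h1]
      group
    rw [← hδi, ← apl_mul _ _ hx]
    congr 1
    group
  -- restriction to `T`
  let L : Subgroup (MulAut W) :=
    { carrier := {w | ∀ x, x ∈ preimageAlong θ T' → apl w x ∈ preimageAlong θ T'} ∩
        {w | ∀ x, x ∈ preimageAlong θ T' → apl w⁻¹ x ∈ preimageAlong θ T'}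
      one_mem' := ⟨fun x hx => by rw [apl_one (hTW hx)]; exact hx,
        fun x hx => by rw [inv_one, apl_one (hTW hx)]; exact hx⟩
      mul_mem' := fun {v w} hv hw => ⟨fun x hx => by rw [apl_mul _ _ (hTW hx)]; exact hv.1 _ (hw.1 x hx),
        fun x hx => by rw [mul_inv_rev, apl_mul _ _ (hTW hx)]; exact hw.2 _ (hv.2 x hx)⟩
      inv_mem' := fun {v} hv => ⟨hv.2, by simpa using hv.1⟩ }
  have hηL : η ∈ L := ⟨fun x hx => by rw [hηT x hx]; exact apl_mem a hx, fun x hx => by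
    have h1 := hηT _ (apl_mem a⁻¹ hx)
    rw [apl_apl_inv a hx] at h1
    rw [← h1, apl_inv_apl η (hTW (apl_mem _ hx))]
    exact apl_mem _ hx⟩
  obtain ⟨m, hm⟩ := (isOfFinOrder_of_finite η).mem_powers_iff_mem_zpowers.2 hc
  obtain ⟨j, hj⟩ := (isOfFinOrder_of_finite η).mem_powers_iff_mem_zpowers.2 hu
  replace hm : η ^ m = c := hm
  replace hj : η ^ j = u := hj
  have hTres : ∀ n : ℕ, ∀ x ∈ preimageAlong θ T', apl (η ^ n) x = apl (a ^ n) x := fun n x hx =>
    apl_pow_compat (φ := id) (α := a) (β := η) (fun x hx => hTW hx) hηT n x hx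
  have haj : a ^ j = 1 := by
    have h1 : (a ^ j) ^ p ^ e = 1 := apl_ext fun x hx => by
      rw [← pow_mul, ← hTres _ x hx, pow_mul, hj, orderOf_dvd_iff_pow_eq_one.1 he, apl_one (hTW hx),
        apl_one hx]
    have h2 : orderOf (a ^ j) ∣ orderOf a := orderOf_pow_dvd j
    exact orderOf_eq_one_iff.1 (Nat.eq_one_of_dvd_coprimes
      (Nat.Coprime.pow_right e hco) h2 (orderOf_dvd_iff_pow_eq_one.2 h1))
  have hcT : ∀ x ∈ preimageAlong θ T', apl c x = apl a x := fun x hx => by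
    have h0 : apl η x = apl u (apl c x) := by rw [huc, apl_mul _ _ (hTW hx)]
    have h1 : apl c x ∈ preimageAlong θ T' := by
      rw [← hm, hTres m x hx]; exact apl_mem _ hx
    rw [hηT x hx, ← hj, hTres j _ h1, haj, apl_one h1] at h0
    exact h0.symm
  obtain ⟨e', he'⟩ := IsPGroup.iff_card.1 h.isP
  obtain ⟨i, hi⟩ := exists_pow_eq_self_of_coprime (x := c) (n := p ^ e')
    (Nat.Coprime.pow_left e' hcco.symm)
  have hkp : ∀ n, k ^ (p ^ e' * n) = 1 := fun n => by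
    have : (⟨k, hk⟩ : S) ^ p ^ e' = 1 := by rw [← he']; exact pow_card_eq_one'
    rw [pow_mul, show k ^ p ^ e' = 1 from congrArg Subtype.val this, one_pow]
  have hcmod : ∀ x ∈ W, x⁻¹ * apl c x ∈ preimageAlong θ T' := fun x hx => by
    have h1 := hn (p ^ e' * (i * m)) x hx
    rwa [hkp, inv_one, one_mul, mul_one, mul_comm i m, ← mul_assoc, mul_comm (p ^ e') m, mul_assoc,
      pow_mul, pow_mul, hm, hi] at h1
  have hsupW : preimageAlong θ T' ⊔ centralizerIn S (preimageAlong θ T') ≤ W := sup_le hTW hCW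
  have hcF : c ∈ F.autGroup W := Subgroup.zpowers_le.2 hη hc
  have hmc := (iso_apl hWS hcF).1
  have hcC : ∀ x ∈ centralizerIn S (preimageAlong θ T'),
      apl c x ∈ centralizerIn S (preimageAlong θ T') := fun x hx => by
    refine ⟨hmc.mem_S (hCW hx), Subgroup.mem_centralizer_iff.2 fun y hy => ?_⟩
    obtain ⟨z, hz, rfl⟩ : ∃ z ∈ preimageAlong θ T', apl c z = y :=
      ⟨apl a⁻¹ y, apl_mem _ hy, by rw [hcT _ (apl_mem _ hy), apl_apl_inv a hy]⟩
    rw [← hmc.map_mul (hTW hz) (hCW hx), ← hmc.map_mul (hCW hx) (hTW hz),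
      Subgroup.mem_centralizer_iff.1 hx.2 z hz]
  obtain ⟨V, hV⟩ := (hmc.mono hsupW).exists_iso
  obtain rfl : V = preimageAlong θ T' ⊔ centralizerIn S (preimageAlong θ T') := by
    refine eq_of_le_of_card (hsupW.trans hWS) ?_ hV.card_eq.le
    intro y hy
    obtain ⟨x, hx, rfl⟩ := hV.exists_eq hy
    let K : Subgroup Ω :=
      { carrier := {x | x ∈ W ∧ apl c x ∈ preimageAlong θ T' ⊔ centralizerIn S (preimageAlong θ T')}
        one_mem' := ⟨W.one_mem, by rw [hmc.map_one]; exact Subgroup.one_mem _⟩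
        mul_mem' := fun {v w} hv hw => ⟨W.mul_mem hv.1 hw.1, by
          rw [hmc.map_mul hv.1 hw.1]; exact Subgroup.mul_mem _ hv.2 hw.2⟩
        inv_mem' := fun {v} hv => ⟨W.inv_mem hv.1, by
          rw [hmc.map_inv hv.1]; exact Subgroup.inv_mem _ hv.2⟩ }
    have hle : preimageAlong θ T' ⊔ centralizerIn S (preimageAlong θ T') ≤ K := sup_le
      (fun t ht => ⟨hTW ht, Subgroup.mem_sup_left (by rw [hcT t ht]; exact apl_mem a ht)⟩)
      fun t ht => ⟨hCW ht, Subgroup.mem_sup_right (hcC t ht)⟩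
    exact (hle hx).2
  obtain ⟨β, hβ, hβx⟩ := hV.exists_mem_autGroup
  exact ⟨β, hβ, fun x hx => by rw [hβx x (Subgroup.mem_sup_left hx), hcT x hx],
    fun x hx => by rw [hβx x (Subgroup.mem_sup_right hx)]; exact hcmod x (hCW hx)⟩

/-- The lifted system is normal. -/
theorem liftSys_normal : (liftSys p F Z θ Eb).IsNormalIn F p := by
  have hTS : preimageAlong θ T' ≤ S := pre_le
  refine ⟨⟨h.liftSys_saturated, h.sat, h.liftSys_invariant⟩, fun α hα => ?_⟩
  obtain ⟨W, hW⟩ : ∃ W, preimageAlong θ T' ⊔ centralizerIn S (preimageAlong θ T') = W := ⟨_, rfl⟩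
  have hTW : preimageAlong θ T' ≤ W := hW ▸ le_sup_left
  have hCW : centralizerIn S (preimageAlong θ T') ≤ W := hW ▸ le_sup_right
  have hWS : W ≤ S := hW ▸ sup_le hTS (centralizerIn_le _ _)
  let K : Subgroup (MulAut ↥(preimageAlong θ T')) :=
    { carrier := {a | ∃ β ∈ F.autGroup W, (∀ x ∈ preimageAlong θ T', apl β x = apl a x) ∧
        ∀ c ∈ centralizerIn S (preimageAlong θ T'),
          apl β c ∈ centralizerIn S (preimageAlong θ T') ∧ c⁻¹ * apl β c ∈ preimageAlong θ T'}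
      one_mem' := ⟨1, one_mem _, fun x hx => by rw [apl_one (hTW hx), apl_one hx], fun c hc => by
        rw [apl_one (hCW hc)]
        exact ⟨hc, by rw [inv_mul_cancel]; exact Subgroup.one_mem _⟩⟩
      mul_mem' := by
        rintro a b ⟨β, hβ, hβT, hβC⟩ ⟨γ, hγ, hγT, hγC⟩
        refine ⟨β * γ, Subgroup.mul_mem _ hβ hγ, fun x hx => ?_, fun c hc => ?_⟩
        · rw [apl_mul _ _ (hTW hx), hγT x hx, hβT _ (apl_mem b hx), apl_mul _ _ hx]
        · obtain ⟨h1, h2⟩ := hγC c hc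
          obtain ⟨h3, h4⟩ := hβC _ h1
          rw [apl_mul _ _ (hCW hc)]
          refine ⟨h3, ?_⟩
          have h5 := Subgroup.mul_mem _ h2 h4
          convert h5 using 1
          group
      inv_mem' := by
        rintro a ⟨β, hβ, hβT, hβC⟩
        refine ⟨β⁻¹, Subgroup.inv_mem _ hβ, fun x hx => ?_, fun c hc => ?_⟩
        · conv_lhs => rw [← apl_apl_inv a hx, ← hβT _ (apl_mem _ hx),
            apl_inv_apl β (hTW (apl_mem _ hx))]
        · have hy := apl_mem β⁻¹ (hCW hc)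
          have hm := (iso_apl hWS hβ).1
          have hy' : apl β⁻¹ c ∈ centralizerIn S (preimageAlong θ T') :=
            ⟨hWS hy, Subgroup.mem_centralizer_iff.2 fun t ht => by
              refine hm.injOn (W.mul_mem (hTW ht) hy) (W.mul_mem hy (hTW ht)) ?_
              rw [hm.map_mul (hTW ht) hy, hm.map_mul hy (hTW ht), apl_apl_inv β (hCW hc), hβT t ht,
                Subgroup.mem_centralizer_iff.1 hc.2 _ (apl_mem a ht)]⟩
          obtain ⟨-, h2⟩ := hβC _ hy'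
          rw [apl_apl_inv β (hCW hc)] at h2
          refine ⟨hy', ?_⟩
          have h3 := Subgroup.inv_mem _ h2
          convert h3 using 1
          group }
  have hle : star p F θ Eb (preimageAlong θ T') ≤ K := by
    refine sup_le (fun γ hγ => ?_) ?_
    · obtain ⟨t, ht, htn, htx⟩ := mem_autInducedBy_iff.1 hγ
      obtain ⟨β, hβ, hβx⟩ := exists_conjAut (F := F) hWS (hTS ht) (Subgroup.le_normalizer (hTW ht))
      refine ⟨β, hβ, fun x hx => by rw [hβx x (hTW hx), htx x hx], fun c hc => ?_⟩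
      have e : t * c * t⁻¹ = c := by
        rw [Subgroup.mem_centralizer_iff.1 hc.2 t ht]; group
      rw [hβx c (hCW hc), e]
      exact ⟨hc, by rw [inv_mul_cancel]; exact Subgroup.one_mem _⟩
    · rw [Subgroup.map_le_iff_le_comap, pResidual, Subgroup.closure_le]
      intro w hw
      obtain ⟨β, hβ, hβT, hβC⟩ := h.exists_ext_condition_coprime w.2
        (show (orderOf (w : MulAut ↥(preimageAlong θ T'))).Coprime p by
          rw [Subgroup.orderOf_coe]; exact hw)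
      subst hW
      refine ⟨β, hβ, hβT, fun c hc => ⟨⟨(iso_apl hWS hβ).1.mem_S (hCW hc),
        Subgroup.mem_centralizer_iff.2 fun t ht => ?_⟩, hβC c hc⟩⟩
      have hm := (iso_apl hWS hβ).1
      obtain ⟨s, hs, rfl⟩ : ∃ s ∈ preimageAlong θ T', apl β s = t :=
        ⟨apl (w : MulAut ↥(preimageAlong θ T'))⁻¹ t, apl_mem _ ht, by
          rw [hβT _ (apl_mem _ ht), apl_apl_inv _ ht]⟩
      rw [← hm.map_mul (hTW hs) (hCW hc), ← hm.map_mul (hCW hc) (hTW hs),
        Subgroup.mem_centralizer_iff.1 hc.2 s hs]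
  rw [h.autGroup_good h.mem_top h.good_top] at hα
  obtain ⟨β, hβ, hβT, hβC⟩ := hle hα
  subst hW
  refine ⟨β, hβ, fun x => ?_, fun c hc => ?_⟩
  · rw [← apl_coe, ← apl_coe]
    exact hβT x x.2
  · obtain ⟨h1, h2⟩ := hβC c hc
    rw [← apl_coe]
    exact ⟨h2, Subgroup.mul_mem _ (Subgroup.inv_mem _ hc.2) h1.2⟩

/-- A normal subsystem of the factor system lifts to a normal subsystem over the preimage. -/
theorem exists_lift_normal : ∃ X : FusionSystem (preimageAlong θ T'), X.IsNormalIn F p ∧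
    (∀ P f, Mor X P f → ∃ f', Mor Eb (imageAlong θ P) f' ∧ ∀ x ∈ P, f' (thFn θ x) = thFn θ (f x)) ∧
    ∀ P' f', Mor Eb P' f' → ∃ f, Mor X (preimageAlong θ P') f ∧
      ∀ x ∈ preimageAlong θ P', f' (thFn θ x) = thFn θ (f x) :=
  ⟨_, h.liftSys_normal, fun _ _ hf => (h.lift_over (mor_liftSys.1 hf)).2.2, fun _ _ hf => by
    obtain ⟨f, hf', hx⟩ := h.exists_lift_Eb hf
    exact ⟨f, mor_liftSys.2 hf', hx⟩⟩

end Setting

end Cfsg.Agent.FusSys.CL
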