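import Cfsg.Agent.FusSys.CentralLift.KeyThm
import Cfsg.Agent.FusSys.SatCriterion

/-!
The lifted system is saturated.
-/

set_option autoImplicit false
set_option maxHeartbeats 800000

namespace Cfsg.Agent.FusSys.CL

open Cfsg Cfsg.FusionSystem Cfsg.Agent.FusSys

universe u v

variable {Ω : Type u} [Group Ω] {S Z P Q R : Subgroup Ω} {F : FusionSystem S} {p : ℕ}
variable {Ω' : Type v} [Group Ω'] {S' T' P' Q' : Subgroup Ω'} {θ : S →* Ω'}
variable {Fb : FusionSystem S'} {Eb : FusionSystem T'} {f g : Ω → Ω}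

theorem iso_of_liftSys (hi : Iso (liftSys p F Z θ Eb) P Q f) :
    Lift p F Z θ Eb P f ∧ Iso F P Q f :=
  ⟨mor_liftSys.1 hi.1, ⟨(mor_liftSys.1 hi.1).1, hi.2⟩⟩

theorem liftSys_sub : (liftSys p F Z θ Eb).IsSubsystemOf F := fun _ φ hφ => by
  have hm := (mor_liftSys.1 (mor_extendFn hφ)).1
  exact hm.hom_eq fun x => (extendFn_coe φ x).symm

theorem autT_transport_le {Q₁ : Subgroup Ω} (hsc : F.StronglyClosed (preimageAlong θ T'))
    (hP : P ≤ preimageAlong θ T') {g : Ω → Ω}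
    (hg : Mor F (normalizerIn (preimageAlong θ T') P) g) (hgi : Iso F P Q₁ g) :
    (autInducedBy (preimageAlong θ T') P).map hgi.conjAut.toMonoidHom ≤
      autInducedBy (preimageAlong θ T') Q₁ := by
  rintro _ ⟨α, hα, rfl⟩
  obtain ⟨t, ht, htn, htx⟩ := mem_autInducedBy_iff.1 hα
  have htN : t ∈ normalizerIn (preimageAlong θ T') P := ⟨ht, htn⟩
  refine mem_autInducedBy_iff.2 ⟨g t, StronglyClosed.mor_mem hsc hg htN ht,
    (hg.mem_normalizerIn (le_normalizerIn hP) hgi htN htn).2, hgi.conjAut_eq_conj fun x hx => ?_⟩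
  rw [htx x hx, hg.map_conj htN (le_normalizerIn hP hx)]

namespace Setting

variable (h : Setting p F Z θ Fb Eb) [Fact p.Prime] [Finite S]
include h

theorem exists_kernel_aut (hM : Mem Z θ Eb P) {d : MulAut P} (hd : d ∈ grpD F Z P)
    (hL : Lift p F Z θ Eb P (apl d)) : d ∈ grpI F Z P := by
  obtain ⟨z, hz, hzx⟩ := h.keyAt P hM _ hL (iso_apl (hM.2.1.trans pre_le) hd.1) hd.2
  exact ⟨⟨⟨z, hz⟩, apl_ext fun x hx => by rw [apl_conj _ hx, hzx x hx]⟩, hd⟩

theorem autGroup_good (hM : Mem Z θ Eb P) (hG : Good F θ T' P) :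
    (liftSys p F Z θ Eb).autGroup P = star p F θ Eb P := by
  have hPS : P ≤ S := hM.2.1.trans pre_le
  have hgen : ∀ σ ∈ star p F θ Eb P, Lift p F Z θ Eb P (apl σ) := fun σ hσ =>
    lift_gen ⟨hM, hG, hσ⟩ (h.star_le_A hM.2.1 hσ).1
  refine le_antisymm (fun α hα => ?_) fun σ hσ =>
    Subgroup.subset_closure ((mor_liftSys.2 (hgen σ hσ)).hom_eq fun x => (apl_coe σ x).symm)
  obtain ⟨hL, hi⟩ := iso_of_liftSys (iso_apl hM.2.1 hα)
  obtain ⟨β, hβ, hβx⟩ := hi.exists_mem_autGroup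
  obtain rfl : β = α := apl_ext hβx
  obtain ⟨σ, hσ, hd⟩ := h.exists_star_D hM hG (h.mem_A_of_lift hL hβ fun _ _ => rfl)
  have hσF := (h.star_le_A hM.2.1 hσ).1
  have hσinv := hgen _ (Subgroup.inv_mem _ hσ)
  have hdI := h.exists_kernel_aut hM hd (subRel_lift.congr
    (subRel_lift.comp hi.1 hL (iso_apl hPS (Subgroup.inv_mem _ hσF)).1 hσinv
      fun x hx => apl_mem β hx) fun x hx => apl_mul _ _ hx)
  have := Subgroup.mul_mem _ hσ (h.I_le_star hM.2.1 hdI)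
  rwa [mul_inv_cancel_left] at this

theorem autT_sylIn_good (hM : Mem Z θ Eb P) (hG : Good F θ T' P) :
    SylIn p (autInducedBy (preimageAlong θ T') P) (star p F θ Eb P) := by
  obtain ⟨Q, β, hβ, hQ, hgi⟩ := hG
  have hMQ := h.mem_of_iso hM hgi
  obtain ⟨hinv, hx⟩ := h.inv_iso_aut hβ hM.2.1 hgi
  have hQP := h.autT_sylIn_star hMQ hQ
  have hm := (iso_apl (F := F) (pre_le (θ := θ)) hβ).1
  have hm' := (iso_apl (F := F) (pre_le (θ := θ)) (Subgroup.inv_mem _ hβ)).1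
  have hy : ∀ y ∈ Q, apl β (apl β⁻¹ y) = y := fun y hy => apl_apl_inv β (hMQ.2.1 hy)
  have e1 : (autInducedBy (preimageAlong θ T') P).map hgi.conjAut.toMonoidHom =
      autInducedBy (preimageAlong θ T') Q :=
    le_antisymm (autT_transport_le h.Tsc hM.2.1 (hm.mono (normalizerIn_le _ _)) hgi) fun α hα =>
      ⟨hinv.conjAut α, autT_transport_le h.Tsc hMQ.2.1 (hm'.mono (normalizerIn_le _ _)) hinv
        ⟨α, hα, rfl⟩, conjAut_conjAut hinv hgi hy α⟩
  have e2 : (star p F θ Eb P).map hgi.conjAut.toMonoidHom = star p F θ Eb Q :=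
    le_antisymm (Subgroup.map_le_iff_le_comap.2 fun α hα => h.star_transport_aut hM hβ hgi hα)
      fun α hα => ⟨hinv.conjAut α, h.star_transport_aut hMQ (Subgroup.inv_mem _ hβ) hinv hα,
        conjAut_conjAut hinv hgi hy α⟩
  refine ⟨autT_le_star, ?_⟩
  have h1 := hQP.2
  rwa [← e1, ← e2, Subgroup.relIndex_map_map_of_injective _ _ hgi.conjAut.injective] at h1

theorem fullyAutomized_good (hM : Mem Z θ Eb P) (hG : Good F θ T' P) :
    (liftSys p F Z θ Eb).IsFullyAutomized p P := by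
  have hPS : P ≤ S := hM.2.1.trans pre_le
  haveI := finite_of_le hPS
  haveI : Finite (MulAut P) := Finite.of_injective _ MulEquiv.toEquiv_injective
  obtain ⟨R, hR⟩ := (sylIn_iff (isPGroup_autInducedBy (h.isP.to_le pre_le))
    (autT_le_star)).1 (h.autT_sylIn_good hM hG)
  refine ⟨hM.2.1, ?_⟩
  rw [h.autGroup_good hM hG]
  exact ⟨R, hR⟩

theorem receptive_good (hM : Mem Z θ Eb P) (hG : Good F θ T' P) :
    (liftSys p F Z θ Eb).IsReceptive P := by
  haveI := h.finite'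
  haveI := h.finite_T'
  have hPS : P ≤ S := hM.2.1.trans pre_le
  refine isReceptive_iff.2 ⟨hM.2.1, fun P₀ f hfi => ?_⟩
  obtain ⟨hL, hi⟩ := iso_of_liftSys hfi
  obtain ⟨hP₀T, -, f', hf', hf'x⟩ := h.lift_over hL
  obtain ⟨r, hr, hrf, -⟩ := hi.symm
  have hrL := subRel_lift.inv hi hL hr hrf
  have hZP₀ : Z ≤ P₀ := fun z hz => by
    rw [← h.fix hr.1 (hM.1 hz) hz]
    exact hr.mem (hM.1 hz)
  have hP₀S : P₀ ≤ S := hP₀T.trans pre_le
  have hf'i : Iso Eb (imageAlong θ P₀) (imageAlong θ P) f' := ⟨hf', fun w => by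
    rw [mem_imageAlong hPS]
    constructor
    · rintro ⟨y, hy, rfl⟩
      obtain ⟨x, hx, rfl⟩ := hi.exists_eq hy
      exact ⟨thFn θ x, th_mem_image hx, hf'x x hx⟩
    · rintro ⟨z, hz, rfl⟩
      obtain ⟨x, hx, rfl⟩ := (mem_imageAlong hP₀S).1 hz
      exact ⟨f x, hi.mem hx, (hf'x x hx).symm⟩⟩
  obtain ⟨e', he', he'x⟩ := (isReceptive_iff.1 (receptive_of_fullyNormalized h.isP_T' h.Esat
    (h.good_fullyNormalized hM hG))).2 _ f' hf'i
  obtain ⟨N, hN⟩ : ∃ N, nPhi (preimageAlong θ T') P₀ f = N := ⟨_, rfl⟩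
  rw [hN]
  have hPN : P₀ ≤ N := hN ▸ hfi.1.le_nPhi
  have hNT : N ≤ preimageAlong θ T' := hN ▸ fun _ hx => hx.1
  have hle : imageAlong θ N ≤ nPhi T' (imageAlong θ P₀) f' := fun w hw => by
    obtain ⟨t, ht, rfl⟩ := (mem_imageAlong (hNT.trans pre_le)).1 hw
    rw [← hN] at ht
    obtain ⟨htT, htn, t', ht', htx⟩ := ht
    have htS : t ∈ S := pre_le htT
    refine ⟨(mem_pre.1 htT).2, (h.th_normalizer hZP₀ hP₀S htS).2 htn, thFn θ t', (mem_pre.1 ht').2,
      fun z hz => ?_⟩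
    obtain ⟨x, hx, rfl⟩ := (mem_imageAlong hP₀S).1 hz
    rw [← thFn_conj htS (hP₀S hx), hf'x _ ((Subgroup.mem_normalizer_iff.1 htn x).1 hx), hf'x x hx,
      ← thFn_conj (pre_le ht') (hPS (hi.mem hx)), htx x hx]
  obtain ⟨e, he, hex⟩ := h.exists_lift_Eb (he'.mono hle)
  rw [h.pre_image (hZP₀.trans hPN) (hNT.trans pre_le)] at he hex
  have hei : Iso F P₀ P e := h.iso_of_image (he.1.mono hPN) hZP₀ hM.1 hPS hf'i fun x hx => by
    rw [← hex x (hPN hx), he'x _ (th_mem_image hx)]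
  have hκL : Lift p F Z θ Eb P (e ∘ r) :=
    subRel_lift.comp hr.1 hrL hei.1 (he.mono hPN) fun x hx => hr.mem hx
  have hκd : ∀ y ∈ P, y⁻¹ * e (r y) ∈ Z := fun y hy => by
    obtain ⟨x, hx, rfl⟩ := hi.exists_eq hy
    rw [hrf x hx]
    refine (h.th_eq (hPS hy) (hPS (hei.mem hx))).1 ?_
    rw [← hf'x x hx, ← hex x (hPN hx), he'x _ (th_mem_image hx)]
  obtain ⟨z, hz, hzx⟩ := h.keyAt P hM _ hκL (hr.comp hei) hκd
  refine ⟨fun x => z⁻¹ * e x * z⁻¹⁻¹, (mor_liftSys.2 he).conjComp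
    (Subgroup.inv_mem _ (hM.2.1 hz)), fun x hx => ?_⟩
  have h1 := hzx _ (hi.mem hx)
  simp only [Function.comp_apply, hrf x hx] at h1
  show z⁻¹ * e x * z⁻¹⁻¹ = f x
  rw [h1]
  group

/-- The lifted system is saturated. -/
theorem liftSys_saturated : (liftSys p F Z θ Eb).IsSaturated p := by
  haveI := h.finite'
  haveI := h.finite_T'
  have hTS : preimageAlong θ T' ≤ S := pre_le
  haveI := finite_of_le hTS
  refine saturated_of_family (h.isP.to_le hTS) (ℋ := {P | Mem Z θ Eb P}) (fun P hP => hP.2.1)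
    (fun P hP Q hQ => h.mem_of_iso hP (iso_of_liftSys (isConj_iff.1 hQ).choose_spec).2)
    (fun P hP => ?_) (fun E hE => ?_) (fun P hc hP => ?_)
  · obtain ⟨R, e, hR, hG, he⟩ := h.exists_good hP
    obtain ⟨μ, hμ, hμx⟩ := h.exists_lift_Eb he.1
    rw [h.pre_image hP.1 (hP.2.1.trans hTS)] at hμ hμx
    have hμi : Iso F P R μ := h.iso_of_image hμ.1 hP.1 hR.1 (hR.2.1.trans hTS) he hμx
    exact ⟨R, Iso.isConj (f := μ) ⟨mor_liftSys.2 hμ, hμi.2⟩, h.fullyAutomized_good hR hG,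
      h.receptive_good hR hG⟩
  · refine le_iff_mor.2 fun Q f hf => ?_
    let M : Subgroup Ω → (Ω → Ω) → Prop := fun Q f => Lift p F Z θ Eb Q f ∧ Mor E Q f
    have hS : SubRel F (preimageAlong θ T') M :=
      { congr := fun h1 he => ⟨subRel_lift.congr h1.1 he, h1.2.congr he⟩
        le := fun h1 => subRel_lift.le h1.1
        conj := fun hQ hs => ⟨mor_conj (hQ.trans hTS) (pre_le hs),
          ((subRel_lift (F := F)).conj hQ hs).2, mor_conj hQ hs⟩
        comp := fun hf h1 hg h2 hfQ => ⟨subRel_lift.comp hf h1.1 hg h2.1 hfQ, h1.2.comp h2.2 hfQ⟩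
        inv := by
          intro P Q f g hf h1 hg hgf
          refine ⟨subRel_lift.inv hf h1.1 hg hgf, ?_⟩
          obtain ⟨k, hk, hkf, -⟩ := (show Iso E P Q f from ⟨h1.2, hf.2⟩).symm
          refine hk.1.congr fun y hy => ?_
          obtain ⟨x, hx, rfl⟩ := hf.exists_eq hy
          rw [hgf x hx, hkf x hx] }
    refine ((mor_liftSys.1 hf).2 M hS fun R α hg => ?_).2
    have hL := lift_gen hg (h.star_le_A hg.1.2.1 hg.2.2).1
    obtain ⟨φ, hφ, hφx⟩ := (mor_liftSys.2 hL : Mor (liftSys p F Z θ Eb) R (apl α))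
    exact ⟨hL, φ, hE R hg.1 hφ, hφx⟩
  · have hPT : P ≤ preimageAlong θ T' := hc.1
    have hPS := hPT.trans hTS
    have hZP : Z ≤ P := fun z hz => centric_self hc ⟨h.Z_le_pre T' hz,
      Subgroup.mem_centralizer_iff.2 fun y hy => h.comm hz (hPS hy)⟩
    have hnc : ¬ Eb.IsCentric (imageAlong θ P) := fun hcc => hP ⟨hZP, hPT, hcc⟩
    obtain ⟨R', hR', hR'c⟩ : ∃ R', Eb.IsConj (imageAlong θ P) R' ∧ ¬ centralizerIn T' R' ≤ R' := by
      by_contra hall
      push Not at hall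
      exact hnc ⟨h.image_le hPT, hall⟩
    obtain ⟨f', hf'⟩ := isConj_iff.1 hR'
    obtain ⟨f, hf, hfx⟩ := h.exists_lift_Eb hf'.1
    rw [h.pre_image hZP hPS] at hf hfx
    have hR'S : R' ≤ S' := hf'.right_le.trans h.T'sc.1
    obtain ⟨Q, hQ⟩ : ∃ Q, preimageAlong θ R' = Q := ⟨_, rfl⟩
    have himQ : imageAlong θ Q = R' := hQ ▸ h.image_pre hR'S
    have hQS : Q ≤ S := hQ ▸ pre_le
    have hZQ : Z ≤ Q := hQ ▸ h.Z_le_pre R'
    rw [← himQ] at hf'
    have hfi : Iso F P Q f := h.iso_of_image hf.1 hZP hZQ hQS hf' hfx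
    have hconj : (liftSys p F Z θ Eb).IsConj P Q := Iso.isConj (f := f) ⟨mor_liftSys.2 hf, hfi.2⟩
    refine ⟨Q, hconj, fun hle => ?_⟩
    obtain ⟨t', ht', ht'R⟩ := SetLike.not_le_iff_exists.1 hR'c
    obtain ⟨t, ht, rfl⟩ := exists_pre (θ := θ) (P' := T') (h.T'sc.1.trans_eq h.range_eq.symm) ht'.1
    have htS : t ∈ S := pre_le ht
    have htn : t ∈ Subgroup.normalizer (Q : Set Ω) := (h.th_normalizer hZQ hQS htS).1
      (himQ.symm ▸ Subgroup.centralizer_le_normalizer (R' : Set Ω') ht'.2)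
    obtain ⟨α, hα, hαx⟩ := exists_mem_autInducedBy (P := Q) ht htn
    have hQT := isConj_le_right hconj
    have hXF : (liftSys p F Z θ Eb).autGroup Q ≤ F.autGroup Q := fun β hβ =>
      Subgroup.subset_closure ((iso_of_liftSys (iso_apl hQT hβ)).1.1.hom_eq
        fun x => (apl_coe β x).symm)
    have hαX : α ∈ (liftSys p F Z θ Eb).autGroup Q := autInducedBy_le_autGroup hQT hα
    have hαD : α ∈ grpD F Z Q := ⟨hXF hαX, fun x hx => by
      rw [hαx x hx]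
      refine (h.th_eq (hQS hx) (S.mul_mem (S.mul_mem htS (hQS hx)) (S.inv_mem htS))).1 ?_
      rw [thFn_conj htS (hQS hx),
        ← Subgroup.mem_centralizer_iff.1 ht'.2 _ (himQ ▸ th_mem_image hx)]
      group⟩
    haveI hn : ((grpD F Z Q).subgroupOf ((liftSys p F Z θ Eb).autGroup Q)).Normal :=
      ⟨fun d hd a => h.conj_mem_D hQS (hXF a.2) hd⟩
    have hcore : α ∈ coreAut (liftSys p F Z θ Eb) p Q := Subgroup.mem_map.2 ⟨⟨α, hαX⟩,
      Cfsg.Agent.Core.le_pCore (p := p) (N := (grpD F Z Q).subgroupOf ((liftSys p F Z θ Eb).autGroup Q))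
        ((h.isPGroup_D hQS).comap_subtype) hαD, rfl⟩
    obtain ⟨⟨q, hq⟩, hqα⟩ := hle ⟨hα, hcore⟩
    have hd : q⁻¹ * t ∈ centralizerIn (preimageAlong θ T') Q :=
      ⟨Subgroup.mul_mem _ (Subgroup.inv_mem _ (hQT hq)) ht, Subgroup.mem_centralizer_iff.2 fun x hx => by
        have h1 := hαx x hx
        rw [← hqα, apl_conj _ hx] at h1
        replace h1 : q * x * q⁻¹ = t * x * t⁻¹ := h1
        calc x * (q⁻¹ * t) = q⁻¹ * (q * x * q⁻¹) * t := by group
          _ = q⁻¹ * t * x := by rw [h1]; group⟩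
    have htQ : t ∈ Q := by
      have := Q.mul_mem hq (hc.2 Q hconj hd)
      rwa [mul_inv_cancel_left] at this
    exact ht'R (himQ ▸ th_mem_image htQ)

end Setting

end Cfsg.Agent.FusSys.CL
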