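import Cfsg.Agent.FusSys.CentralLift.KeyAux

/-!
Lifted automorphisms of larger subgroups restrict to elements of `star`.
-/

set_option autoImplicit false
set_option maxHeartbeats 800000

namespace Cfsg.Agent.FusSys.CL

open Cfsg Cfsg.FusionSystem Cfsg.Agent.FusSys

universe u v

variable {Ω : Type u} [Group Ω] {S Z P Q M : Subgroup Ω} {F : FusionSystem S} {p : ℕ}
variable {Ω' : Type v} [Group Ω'] {S' T' P' Q' : Subgroup Ω'} {θ : S →* Ω'}
variable {Fb : FusionSystem S'} {Eb : FusionSystem T'} {f g : Ω → Ω}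

/-- Powers of automorphisms compatible along a map are compatible. -/
theorem apl_pow_compat {H : Type*} [Group H] {A : Subgroup H} {φ : Ω → H} {α : MulAut P}
    {β : MulAut A} (hA : ∀ x ∈ P, φ x ∈ A) (hx : ∀ x ∈ P, apl β (φ x) = φ (apl α x)) (n : ℕ) :
    ∀ x ∈ P, apl (β ^ n) (φ x) = φ (apl (α ^ n) x) := by
  induction n with
  | zero => exact fun x hxP => by rw [pow_zero, pow_zero, apl_one (hA x hxP), apl_one hxP]
  | succ n ih =>
    intro x hxP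
    rw [pow_succ, pow_succ, apl_mul _ _ (hA x hxP), hx x hxP, ih _ (apl_mem α hxP), apl_mul _ _ hxP]

namespace Setting

variable (h : Setting p F Z θ Fb Eb) [Fact p.Prime] [Finite S]
include h

/-- An automorphism in the lifted system of a larger subgroup restricts to an element of `star`. -/
theorem stab_star (hup : ∀ R, Mem Z θ Eb R → Nat.card P < Nat.card R → KeyAt p F Z θ Eb R)
    (hM : Mem Z θ Eb P) (hP : F.IsFullyNormalized P) (hPM : P < M)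
    (hMT : M ≤ preimageAlong θ T') (hf : Lift p F Z θ Eb M f) (hfM : Iso F M M f)
    (hfP : Iso F P P f) : ∃ σ ∈ star p F θ Eb P, ∀ x ∈ P, f x = apl σ x := by
  classical
  haveI := h.finite'
  haveI := h.finite_T'
  have hMM := h.mem_of_le hM hPM.le hMT
  have hMS : M ≤ S := hMT.trans pre_le
  have hPS := hP.1
  haveI := finite_of_le hMS
  haveI := finite_of_le hPS
  haveI : Finite (MulAut M) := Finite.of_injective _ MulEquiv.toEquiv_injective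
  haveI : Finite (MulAut P) := Finite.of_injective _ MulEquiv.toEquiv_injective
  let L : Subgroup (MulAut M) :=
    { carrier := {a | a ∈ F.autGroup M ∧ Lift p F Z θ Eb M (apl a) ∧ Iso F P P (apl a)}
      one_mem' := ⟨one_mem _, subRel_lift.congr (lift_id hMT) fun x hx => apl_one hx,
        (iso_id hPS).congr fun x hx => apl_one (hPM.le hx)⟩
      mul_mem' := fun {a b} ha hb => ⟨Subgroup.mul_mem _ ha.1 hb.1,
        subRel_lift.congr (subRel_lift.comp (iso_apl hMS hb.1).1 hb.2.1 (iso_apl hMS ha.1).1 ha.2.1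
          fun x hx => apl_mem b hx) fun x hx => apl_mul a b hx,
        (hb.2.2.comp ha.2.2).congr fun x hx => apl_mul a b (hPM.le hx)⟩
      inv_mem' := fun {a} ha => ⟨Subgroup.inv_mem _ ha.1,
        subRel_lift.inv (iso_apl hMS ha.1) ha.2.1 (iso_apl hMS (Subgroup.inv_mem _ ha.1))
          fun x hx => apl_inv_apl a hx, by
        obtain ⟨k, hk, hkx, -⟩ := ha.2.2.symm
        refine hk.congr fun y hy => ?_
        obtain ⟨x, hx, rfl⟩ := ha.2.2.exists_eq hy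
        rw [apl_inv_apl a (hPM.le hx), hkx x hx]⟩ }
  obtain ⟨α, hα, hαx⟩ := hfM.exists_mem_autGroup
  have hαL : α ∈ L := ⟨hα, subRel_lift.congr hf hαx, hfP.congr fun x hx => hαx x (hPM.le hx)⟩
  -- restrictions
  have hres : ∀ a ∈ L, ∃ β ∈ grpA F θ Eb P, (∀ x ∈ P, apl β x = apl a x) ∧
      orderOf β ∣ orderOf a := by
    intro a ha
    obtain ⟨β, hβ, hβx⟩ := ha.2.2.exists_mem_autGroup
    refine ⟨β, h.mem_A_of_lift (ha.2.1.mono hPM.le) hβ hβx, hβx,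
      orderOf_dvd_iff_pow_eq_one.2 (apl_ext fun x hx => ?_)⟩
    have := apl_pow_compat (φ := id) (β := a) (α := β) (fun x hx => hPM.le hx)
      (fun x hx => (hβx x hx).symm) (orderOf a) x hx
    simp only [id, pow_orderOf_eq_one] at this
    rw [← this, apl_one (hPM.le hx), apl_one hx]
  obtain ⟨γ, c, hαγc, -, hγ, hc, ⟨k, hk⟩, hco⟩ :=
    Cfsg.Agent.Fusion.exists_pPart_mul (p := p) α (isOfFinOrder_of_finite α)
  have hzL := Subgroup.zpowers_le.2 hαL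
  obtain ⟨βc, hβc, hβcx, hβco⟩ := hres c (hzL hc)
  obtain ⟨β, hβ, hβx, hβo⟩ := hres γ (hzL hγ)
  suffices hβs : β ∈ star p F θ Eb P by
    refine ⟨β * βc, Subgroup.mul_mem _ hβs (mem_star_of_coprime hβc (hco.coprime_dvd_left hβco)),
      fun x hx => ?_⟩
    rw [← hαx x (hPM.le hx), hαγc, apl_mul _ _ (hPM.le hx), apl_mul _ _ hx, hβcx x hx, hβx]
    rw [← hβcx x hx]
    exact apl_mem βc hx
  obtain ⟨hγF, hγL, hγP⟩ := hzL hγ
  -- move to a good member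
  obtain ⟨M₁, e, hM₁, hG₁, he⟩ := h.exists_good hMM
  obtain ⟨μ, hμ, hμx⟩ := h.exists_lift_Eb he.1
  rw [h.pre_image hMM.1 hMS] at hμ hμx
  have hμi : Iso F M M₁ μ := h.iso_of_image hμ.1 hMM.1 hM₁.1 (hM₁.2.1.trans pre_le) he hμx
  have hM₁S : M₁ ≤ S := hM₁.2.1.trans pre_le
  haveI := finite_of_le hM₁S
  haveI := finite_of_le (h.image_le_S' M₁)
  haveI : Finite (MulAut (imageAlong θ M₁)) := Finite.of_injective _ MulEquiv.toEquiv_injective
  have hγA : γ ∈ grpA F θ Eb M := h.mem_A_of_lift hγL hγF fun _ _ => rfl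
  obtain ⟨-, a, ha, hax⟩ := h.conjAut_mem_A hμi hMM.1 hMT hM₁.2.1 hγA
  have hγ1 : (hμi.conjAut γ) ^ p ^ k = 1 := by
    rw [← map_pow, orderOf_dvd_iff_pow_eq_one.1 hk, map_one]
  have ha1 : a ^ p ^ k = 1 := apl_ext fun z hz => by
    obtain ⟨x, hx, rfl⟩ := (mem_imageAlong hM₁S).1 hz
    rw [apl_pow_compat (φ := thFn θ) (fun x hx => th_mem_image hx) hax (p ^ k) x hx, hγ1,
      apl_one hx, apl_one hz]
  obtain ⟨-, Sy, hSy⟩ := fullyAutomized_of_fullyNormalized h.isP_T' h.Esat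
    (h.good_fullyNormalized hM₁ hG₁)
  obtain ⟨⟨b, hb⟩, hbc⟩ := exists_conj_mem_sylow (R := Subgroup.zpowers
    (⟨a, ha⟩ : Eb.autGroup (imageAlong θ M₁)))
    (isPGroup_zpowers_of_pow_eq_one (e := k) (Subtype.ext ha1)) Sy
  have h1 := hbc _ (Subgroup.mem_zpowers _)
  rw [hSy, Subgroup.mem_subgroupOf, mem_autInducedBy_iff] at h1
  obtain ⟨t', ht', ht'n, ht'x⟩ := h1
  obtain ⟨ν, hν, hνx⟩ := h.exists_lift_Eb (iso_apl (h.image_le hM₁.2.1) hb).1
  rw [h.pre_image hM₁.1 hM₁S] at hν hνx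
  have hνi : Iso F M₁ M₁ ν :=
    h.iso_of_image hν.1 hM₁.1 hM₁.1 hM₁S (iso_apl (h.image_le hM₁.2.1) hb) hνx
  obtain ⟨ρ, hρdef⟩ : ∃ ρ, ρ = ν ∘ μ := ⟨_, rfl⟩
  have hρi : Iso F M M₁ ρ := hρdef ▸ hμi.comp hνi
  have hρ : Lift p F Z θ Eb M ρ :=
    hρdef ▸ subRel_lift.comp hμ.1 hμ hν.1 hν fun x hx => hμi.mem hx
  obtain ⟨r, hr, hrρ, hρr⟩ := hρi.symm
  have hrL : Lift p F Z θ Eb M₁ r := subRel_lift.inv hρi hρ hr hrρ
  obtain ⟨t, ht, rfl⟩ := exists_pre (θ := θ) (P' := T') (h.T'sc.1.trans_eq h.range_eq.symm) ht'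
  have htS : t ∈ S := pre_le ht
  have htn : t ∈ Subgroup.normalizer (M₁ : Set Ω) := (h.th_normalizer hM₁.1 hM₁S htS).1 ht'n
  have hti := iso_conj_self (F := F) hM₁S (S.inv_mem htS) (Subgroup.inv_mem _ htn)
  obtain ⟨κ, hκdef⟩ : ∃ κ : Ω → Ω, κ = fun x => t⁻¹ * ρ (apl γ (r x)) * t⁻¹⁻¹ := ⟨_, rfl⟩
  have hγi := iso_apl hMS hγF
  have hmem : ∀ x ∈ M₁, ρ (apl γ (r x)) ∈ M₁ := fun x hx => hρi.mem (apl_mem γ (hr.mem hx))
  have hκL : Lift p F Z θ Eb M₁ κ := by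
    rw [hκdef]
    exact subRel_lift.comp ((hr.comp hγi).comp hρi).1
      (subRel_lift.comp (hr.comp hγi).1
        (subRel_lift.comp hr.1 hrL hγi.1 hγL fun x hx => hr.mem hx) hρi.1 hρ
        fun x hx => apl_mem γ (hr.mem hx))
      hti.1 ((subRel_lift (F := F)).conj hM₁.2.1 (Subgroup.inv_mem _ ht)).2 hmem
  have hκi : Iso F M₁ M₁ κ := by rw [hκdef]; exact ((hr.comp hγi).comp hρi).comp hti
  have hκd : ∀ x ∈ M₁, x⁻¹ * κ x ∈ Z := fun x hx => by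
    refine (h.th_eq (hM₁S hx) (hM₁S (hκi.mem hx))).1 ?_
    have hy := hr.mem hx
    have hy1 := hμi.mem (apl_mem γ hy)
    have hy2 := hμi.mem hy
    have h2 : thFn θ (ρ (apl γ (r x))) = apl b (apl a (thFn θ (μ (r x)))) := by
      rw [hax _ hy2, hμi.conjAut_apl γ hy, hνx _ hy1, hρdef]
      rfl
    have h3 : thFn θ (μ (r x)) = apl b⁻¹ (thFn θ x) := by
      conv_rhs => rw [← hρr x hx, hρdef, Function.comp_apply, ← hνx _ hy2,
        apl_inv_apl b (th_mem_image hy2)]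
    have h4 := ht'x _ (th_mem_image (θ := θ) hx)
    rw [show (((⟨b, hb⟩ : Eb.autGroup (imageAlong θ M₁)) * ⟨a, ha⟩ * ⟨b, hb⟩⁻¹ :
      Eb.autGroup (imageAlong θ M₁)) : MulAut (imageAlong θ M₁)) = b * a * b⁻¹ from rfl,
      apl_mul _ _ (th_mem_image hx), apl_mul _ _ (apl_mem _ (th_mem_image hx)), ← h3, ← h2] at h4
    rw [hκdef]
    simp only
    rw [thFn_conj (S.inv_mem htS) (hM₁S (hmem x hx)), h4, thFn_inv htS]
    group
  obtain ⟨z, hz, hκz⟩ := hup M₁ hM₁ (by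
    rw [← hμi.card_eq]; exact card_lt_of_lt' hMS hPM) κ hκL hκi hκd
  obtain ⟨s, hsdef⟩ : ∃ s, s = t * z := ⟨_, rfl⟩
  have hsT : s ∈ preimageAlong θ T' := hsdef ▸ Subgroup.mul_mem _ ht (hM₁.2.1 hz)
  have hsx : ∀ y ∈ M, ρ (apl γ y) = s * ρ y * s⁻¹ := fun y hy => by
    have h2 := hκz _ (hρi.mem hy)
    rw [hκdef] at h2
    simp only [hrρ y hy] at h2
    calc ρ (apl γ y) = t * (t⁻¹ * ρ (apl γ y) * t⁻¹⁻¹) * t⁻¹ := by group
      _ = s * ρ y * s⁻¹ := by rw [h2, hsdef]; group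
  obtain ⟨P₁, hP₁, hP₁M⟩ := hρi.restrict hPM.le
  haveI := finite_of_le hP₁.right_le
  have hsn : s ∈ Subgroup.normalizer (P₁ : Set Ω) := mem_normalizer_of_conj_mem fun y hy => by
    obtain ⟨x, hx, rfl⟩ := hP₁.exists_eq hy
    rw [← hsx x (hPM.le hx)]
    exact hP₁.mem (hγP.mem hx)
  have hrP : Iso F P₁ P r := by
    obtain ⟨l, hl, hlx, -⟩ := hP₁.symm
    refine hl.congr fun y hy => ?_
    obtain ⟨x, hx, rfl⟩ := hP₁.exists_eq hy
    rw [hrρ x (hPM.le hx), hlx x hx]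
  -- into the Sylow subgroup
  obtain ⟨Sy', hSy'⟩ := (sylIn_iff ((isPGroup_autInducedBy h.isP).to_le inf_le_left) inf_le_right).1
    (h.sylIn_A hM.1 hM.2.1 hP)
  obtain ⟨⟨a', ha'⟩, ha'c⟩ := exists_conj_mem_sylow (R := Subgroup.zpowers
    (⟨β, hβ⟩ : grpA F θ Eb P)) (isPGroup_zpowers_of_pow_eq_one (e := k)
      (Subtype.ext (orderOf_dvd_iff_pow_eq_one.1 (hβo.trans hk)))) Sy'
  have h2 := ha'c _ (Subgroup.mem_zpowers _)
  rw [hSy', Subgroup.mem_subgroupOf] at h2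
  have h2S : a' * β * a'⁻¹ ∈ autInducedBy S P := h2.1
  obtain ⟨s', hs', -, hs'x⟩ := mem_autInducedBy_iff.1 h2S
  have hfi := hrP.comp (iso_apl hPS ha'.1)
  obtain ⟨t₁, ht₁, ht₁n, ht₁x⟩ := h.strong_conj hP hfi hsT hsn hs' fun y hy => by
    obtain ⟨x, hx, rfl⟩ := hP₁.exists_eq hy
    show apl a' (r (s * ρ x * s⁻¹)) = s' * apl a' (r (ρ x)) * s'⁻¹
    rw [← hsx x (hPM.le hx), hrρ _ (apl_mem γ (hPM.le hx)), hrρ x (hPM.le hx),
      ← hs'x _ (apl_mem a' hx), apl_mul _ _ (apl_mem a' hx), apl_inv_apl a' hx, apl_mul _ _ hx,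
      hβx x hx]
  have h3 : a' * β * a'⁻¹ ∈ star p F θ Eb P := autT_le_star (mem_autInducedBy_iff.2
    ⟨t₁, ht₁, ht₁n, fun x hx => (hs'x x hx).trans (ht₁x x hx).symm⟩)
  have h4 := h.star_normal_fn hM hP (Subgroup.inv_mem _ ha') h3
  convert h4 using 1
  group

end Setting

end Cfsg.Agent.FusSys.CL
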