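import Cfsg.Agent.FusSys.CentralLift.Comm
import Cfsg.Agent.Fusion.TransferTools

/-!
The group `star`: it meets `grpD` in inner automorphisms and covers `grpA` modulo `grpD`.
-/

set_option autoImplicit false
set_option maxHeartbeats 400000

namespace Cfsg.Agent.FusSys.CL

open Cfsg Cfsg.FusionSystem Cfsg.Agent.FusSys

universe u v

variable {Ω : Type u} [Group Ω] {S Z P Q : Subgroup Ω} {F : FusionSystem S} {p : ℕ}
variable {Ω' : Type v} [Group Ω'] {S' T' P' Q' : Subgroup Ω'} {θ : S →* Ω'}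
variable {Fb : FusionSystem S'} {Eb : FusionSystem T'} {f g : Ω → Ω}

/-- `P` is carried by an automorphism of `T` onto a fully normalized subgroup. -/
def Good (F : FusionSystem S) (θ : S →* Ω') (T' : Subgroup Ω') (P : Subgroup Ω) : Prop :=
  ∃ (Q : Subgroup Ω) (β : MulAut ↥(preimageAlong θ T')), β ∈ F.autGroup (preimageAlong θ T') ∧
    F.IsFullyNormalized Q ∧ Iso F P Q (apl β)

/-- The residual part of `star`. -/
def resPart (p : ℕ) (F : FusionSystem S) (θ : S →* Ω') (Eb : FusionSystem T') (P : Subgroup Ω) :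
    Subgroup (MulAut P) := (pResidual p (grpA F θ Eb P)).map (grpA F θ Eb P).subtype

theorem autT_le_star : autInducedBy (preimageAlong θ T') P ≤ star p F θ Eb P := le_sup_left

theorem resPart_le_star : resPart p F θ Eb P ≤ star p F θ Eb P := le_sup_right

theorem resPart_le_A : resPart p F θ Eb P ≤ grpA F θ Eb P := Subgroup.map_subtype_le _

theorem mem_star_of_coprime {α : MulAut P} (hα : α ∈ grpA F θ Eb P)
    (ho : (orderOf α).Coprime p) : α ∈ star p F θ Eb P :=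
  resPart_le_star (Cfsg.Agent.Fusion.mem_pResidual_subgroup hα ho)

theorem resPart_normal {a α : MulAut P} (ha : a ∈ grpA F θ Eb P) (hα : α ∈ resPart p F θ Eb P) :
    a * α * a⁻¹ ∈ resPart p F θ Eb P := by
  obtain ⟨r, hr, rfl⟩ := hα
  haveI := Cfsg.Agent.Fusion.pResidual_characteristic (p := p) (G := grpA F θ Eb P)
  exact ⟨⟨a, ha⟩ * r * ⟨a, ha⟩⁻¹,
    (inferInstance : (pResidual p (grpA F θ Eb P)).Normal).conj_mem r hr _, rfl⟩

namespace Setting

variable (h : Setting p F Z θ Fb Eb) [Finite S]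
include h

theorem star_le_A (hPT : P ≤ preimageAlong θ T') : star p F θ Eb P ≤ grpA F θ Eb P :=
  sup_le (h.autT_le_A hPT) resPart_le_A

theorem inn_le_autT (hPT : P ≤ preimageAlong θ T') :
    Inn P ≤ autInducedBy (preimageAlong θ T') P := by
  have _ := h
  rw [inn_eq_autInducedBy]
  exact autInducedBy_mono hPT

theorem I_le_star (hPT : P ≤ preimageAlong θ T') : grpI F Z P ≤ star p F θ Eb P :=
  (inf_le_left.trans (h.inn_le_autT hPT)).trans autT_le_star

/-- Transport of `star` by an isomorphism defined on `N_T(P)`. -/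
theorem star_transport [Fact p.Prime] (hM : Mem Z θ Eb P)
    (hg : Mor F (normalizerIn (preimageAlong θ T') P) g)
    (hgi : Iso F P Q g) {α : MulAut P} (hα : α ∈ star p F θ Eb P) :
    hgi.conjAut α ∈ star p F θ Eb Q := by
  have hQ := h.mem_of_iso hM hgi
  suffices hle : star p F θ Eb P ≤ (star p F θ Eb Q).comap hgi.conjAut.toMonoidHom from hle hα
  refine sup_le (fun α hα => ?_) ?_
  · obtain ⟨t, ht, htn, htx⟩ := mem_autInducedBy_iff.1 hα
    have htN : t ∈ normalizerIn (preimageAlong θ T') P := ⟨ht, htn⟩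
    refine autT_le_star (mem_autInducedBy_iff.2 ⟨g t, StronglyClosed.mor_mem h.Tsc hg htN ht,
      (hg.mem_normalizerIn (le_normalizerIn hM.2.1) hgi htN htn).2, hgi.conjAut_eq_conj fun x hx => ?_⟩)
    rw [htx x hx, hg.map_conj htN (le_normalizerIn hM.2.1 hx)]
  · rintro _ ⟨r, hr, rfl⟩
    let c : grpA F θ Eb P →* grpA F θ Eb Q :=
      MonoidHom.mk' (fun a => ⟨hgi.conjAut a, h.conjAut_mem_A hgi hM.1 hM.2.1 hQ.2.1 a.2⟩)
        fun a b => Subtype.ext (map_mul hgi.conjAut (a : MulAut P) b)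
    exact resPart_le_star
      ⟨c r, Cfsg.Agent.Fusion.map_pResidual_le c (Subgroup.mem_map_of_mem c hr), rfl⟩

variable [Fact p.Prime]

theorem star_transport_aut (hM : Mem Z θ Eb P) {β : MulAut ↥(preimageAlong θ T')}
    (hβ : β ∈ F.autGroup (preimageAlong θ T')) (hgi : Iso F P Q (apl β)) {α : MulAut P}
    (hα : α ∈ star p F θ Eb P) : hgi.conjAut α ∈ star p F θ Eb Q :=
  h.star_transport hM ((iso_apl pre_le hβ).1.mono (normalizerIn_le _ _)) hgi hα

theorem inv_iso_aut {β : MulAut ↥(preimageAlong θ T')} (hβ : β ∈ F.autGroup (preimageAlong θ T'))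
    (hPT : P ≤ preimageAlong θ T') (hgi : Iso F P Q (apl β)) :
    Iso F Q P (apl β⁻¹) ∧ ∀ x ∈ P, apl β⁻¹ (apl β x) = x := by
  have hx : ∀ x ∈ P, apl β⁻¹ (apl β x) = x := fun x hx => apl_inv_apl β (hPT hx)
  have _ := h
  obtain ⟨k, hk, hkx, -⟩ := hgi.symm
  refine ⟨hk.congr fun y hy => ?_, hx⟩
  obtain ⟨x, hxP, rfl⟩ := hgi.exists_eq hy
  rw [hx x hxP, hkx x hxP]

/-- Facts at a fully normalized member: the trace of `star` on the Sylow subgroup. -/
theorem star_inf_autS (hM : Mem Z θ Eb P) (hP : F.IsFullyNormalized P) {α : MulAut P}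
    (hα : α ∈ star p F θ Eb P) (hαS : α ∈ autInducedBy S P) :
    α ∈ autInducedBy (preimageAlong θ T') P := by
  classical
  obtain ⟨hZ, hPT, hcen⟩ := id hM
  have hPS := hP.1
  haveI := finite_of_le hPS
  haveI : Finite (MulAut P) := Finite.of_injective _ MulEquiv.toEquiv_injective
  obtain ⟨Sy, hSy⟩ := (sylIn_iff ((isPGroup_autInducedBy h.isP).to_le inf_le_left) inf_le_right).1
    (h.sylIn_A hZ hPT hP)
  have hmemSy : ∀ a : grpA F θ Eb P, a ∈ (Sy : Subgroup (grpA F θ Eb P)) ↔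
      (a : MulAut P) ∈ autInducedBy S P := fun a => by
    rw [hSy, Subgroup.mem_subgroupOf]
    exact ⟨fun h1 => h1.1, fun h1 => ⟨h1, a.2⟩⟩
  let N : Subgroup ↥(Sy : Subgroup (grpA F θ Eb P)) :=
    ((autInducedBy (preimageAlong θ T') P).subgroupOf (grpA F θ Eb P)).subgroupOf Sy
  haveI hN : N.Normal := ⟨fun n hn a => by
    obtain ⟨k, hk, hkn, hkx⟩ := mem_autInducedBy_iff.1 ((hmemSy _).1 a.2)
    have hn' : ((n : grpA F θ Eb P) : MulAut P) ∈ autInducedBy (preimageAlong θ T') P := hn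
    show ((a : grpA F θ Eb P) : MulAut P) * ((n : grpA F θ Eb P) : MulAut P) *
      ((a : grpA F θ Eb P) : MulAut P)⁻¹ ∈ autInducedBy (preimageAlong θ T') P
    exact autInducedBy_conj_mem hn' hkn (StronglyClosed.le_normalizer h.Tsc hk) hkx⟩
  -- representatives in `grpD`
  have hrep : ∀ a : ↥(Sy : Subgroup (grpA F θ Eb P)), ∃ d : ↥(Sy : Subgroup (grpA F θ Eb P)),
      ((d : grpA F θ Eb P) : MulAut P) ∈ grpD F Z P ∧ QuotientGroup.mk' N a = QuotientGroup.mk' N d := by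
    intro a
    obtain ⟨τ, hτ, hτa⟩ := h.autS_dec hM hP (a : grpA F θ Eb P).2 ((hmemSy _).1 a.2)
    refine ⟨⟨⟨_, h.D_le_A hPS hτa⟩, (hmemSy _).2 (h.D_le_autS hP hτa)⟩, hτa, ?_⟩
    rw [QuotientGroup.mk'_apply, QuotientGroup.mk'_apply, eq_comm, QuotientGroup.eq]
    show (τ⁻¹ * ((a : grpA F θ Eb P) : MulAut P))⁻¹ * ((a : grpA F θ Eb P) : MulAut P) ∈
      autInducedBy (preimageAlong θ T') P
    obtain ⟨k, hk, hkn, hkx⟩ := mem_autInducedBy_iff.1
      (Subgroup.inv_mem _ ((hmemSy _).1 a.2))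
    have h1 := autInducedBy_conj_mem hτ hkn (StronglyClosed.le_normalizer h.Tsc hk) hkx
    convert h1 using 1
    group
  have hcomm : ∀ a b : ↥(Sy : Subgroup (grpA F θ Eb P)) ⧸ N, a * b = b * a := by
    intro a b
    obtain ⟨a, rfl⟩ := QuotientGroup.mk'_surjective N a
    obtain ⟨b, rfl⟩ := QuotientGroup.mk'_surjective N b
    obtain ⟨d, hd, ha⟩ := hrep a
    obtain ⟨e, he, hb⟩ := hrep b
    rw [ha, hb, ← map_mul, ← map_mul]
    exact congrArg _ (Subtype.ext (Subtype.ext (h.D_comm hPS hd he)))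
  letI : CommGroup (↥(Sy : Subgroup (grpA F θ Eb P)) ⧸ N) :=
    { (inferInstance : Group (↥(Sy : Subgroup (grpA F θ Eb P)) ⧸ N)) with mul_comm := hcomm }
  -- fusion in the Sylow subgroup is trivial modulo `N`
  have hfus : ∀ (a : grpA F θ Eb P) (x y : ↥(Sy : Subgroup (grpA F θ Eb P))),
      a * (x : grpA F θ Eb P) * a⁻¹ = y → QuotientGroup.mk' N y = QuotientGroup.mk' N x := by
    intro a x y hxy
    obtain ⟨τ, hτ, hτx⟩ := h.autS_dec hM hP (x : grpA F θ Eb P).2 ((hmemSy _).1 x.2)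
    obtain ⟨⟨d, hd⟩, hd'⟩ : ∃ d : grpD F Z P, (d : MulAut P) = τ⁻¹ * ((x : grpA F θ Eb P) : MulAut P) :=
      ⟨⟨_, hτx⟩, rfl⟩
    have hi := h.conj_D_mem_I hM a.2 hd
    have had := h.conj_mem_D hPS a.2.1 hd
    obtain ⟨k, hk, hkn, hkx⟩ := mem_autInducedBy_iff.1 (h.D_le_autS hP hd)
    have hy : ((y : grpA F θ Eb P) : MulAut P) =
        (a : MulAut P) * τ * (a : MulAut P)⁻¹ * ((a : MulAut P) * d * (a : MulAut P)⁻¹) := by
      have hd'' : (d : MulAut P) = τ⁻¹ * ((x : grpA F θ Eb P) : MulAut P) := hd'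
      rw [← hxy, hd'']
      simp only [Subgroup.coe_mul, Subgroup.coe_inv]
      group
    have hatau : (a : MulAut P) * τ * (a : MulAut P)⁻¹ ∈ autInducedBy (preimageAlong θ T') P := by
      have hS' : (a : MulAut P) * τ * (a : MulAut P)⁻¹ ∈ autInducedBy S P := by
        have := Subgroup.mul_mem _ ((hmemSy _).1 y.2) (Subgroup.inv_mem _ (h.D_le_autS hP had))
        rw [hy] at this
        rwa [mul_assoc, mul_inv_cancel, mul_one] at this
      obtain ⟨t, ht, htn, htx⟩ := mem_autInducedBy_iff.1 hτ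
      obtain ⟨s, hs, hsn, hsx⟩ := mem_autInducedBy_iff.1 hS'
      obtain ⟨t', ht', htn', ht'x⟩ := h.strong_conj hP (iso_apl hPS a.2.1) ht htn hs fun z hz => by
        rw [← htx z hz, ← hsx _ (apl_mem _ hz), apl_mul _ _ (apl_mem _ hz),
          apl_inv_apl _ hz, apl_mul _ _ hz]
      exact mem_autInducedBy_iff.2 ⟨t', ht', htn', fun z hz => (hsx z hz).trans (ht'x z hz).symm⟩
    have hiT := h.inn_le_autT hPT hi.1
    rw [QuotientGroup.mk'_apply, QuotientGroup.mk'_apply, QuotientGroup.eq]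
    show ((y : grpA F θ Eb P) : MulAut P)⁻¹ * ((x : grpA F θ Eb P) : MulAut P) ∈
      autInducedBy (preimageAlong θ T') P
    obtain ⟨w, hwdef⟩ : ∃ w, w = (a : MulAut P) * τ * (a : MulAut P)⁻¹ := ⟨_, rfl⟩
    obtain ⟨i, hidef⟩ : ∃ i, i = (a : MulAut P) * d * (a : MulAut P)⁻¹ * (d : MulAut P)⁻¹ := ⟨_, rfl⟩
    rw [← hwdef] at hatau hy
    rw [← hidef] at hiT
    have hy' : ((y : grpA F θ Eb P) : MulAut P) = w * (i * d) := by rw [hy, hidef]; group
    have hx' : ((x : grpA F θ Eb P) : MulAut P) = τ * d := by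
      rw [show (d : MulAut P) = _ from hd']; group
    rw [hy', hx']
    have hkinv : ∀ z ∈ P, apl (d : MulAut P)⁻¹ z = k⁻¹ * z * k⁻¹⁻¹ := fun z hz => by
      have h3 := hkx _ (apl_mem (d : MulAut P)⁻¹ hz)
      rw [apl_apl_inv _ hz] at h3
      conv_rhs => rw [h3]
      group
    have h1 := autInducedBy_conj_mem (Subgroup.mul_mem _ (Subgroup.inv_mem _ (Subgroup.mul_mem _
      hatau hiT)) hτ) (Subgroup.inv_mem _ hkn)
      (Subgroup.inv_mem _ (StronglyClosed.le_normalizer h.Tsc hk)) hkinv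
    convert h1 using 1
    group
  -- the residual meets the Sylow subgroup in `N`
  have hres : ∀ r : grpA F θ Eb P, r ∈ pResidual p (grpA F θ Eb P) →
      ∀ hr : r ∈ (Sy : Subgroup (grpA F θ Eb P)),
        (⟨r, hr⟩ : ↥(Sy : Subgroup (grpA F θ Eb P))) ∈ N := by
    intro r hr hrS
    have key := Cfsg.Agent.Fusion.transfer_apply_eq_pow (QuotientGroup.mk' N)
      (⟨r, hrS⟩ : ↥(Sy : Subgroup (grpA F θ Eb P))) (fun k a hk => hfus a (⟨r, hrS⟩ ^ k) _ rfl)
    have hA : IsPGroup p (↥(Sy : Subgroup (grpA F θ Eb P)) ⧸ N) :=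
      Sy.2.of_surjective (QuotientGroup.mk' N) (QuotientGroup.mk'_surjective N)
    have h0 : MonoidHom.transfer (QuotientGroup.mk' N) r = 1 :=
      Cfsg.Agent.Fusion.pResidual_le_ker _ hA hr
    rw [h0] at key
    obtain ⟨k, hk⟩ := IsPGroup.iff_orderOf.1 hA
      (QuotientGroup.mk' N ⟨r, hrS⟩)
    have h2 : orderOf (QuotientGroup.mk' N (⟨r, hrS⟩ : ↥(Sy : Subgroup (grpA F θ Eb P)))) = 1 :=
      Nat.eq_one_of_dvd_coprimes
        (Nat.Coprime.pow_left k (((Fact.out : p.Prime).coprime_iff_not_dvd).2 Sy.not_dvd_index))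
        hk.dvd (orderOf_dvd_iff_pow_eq_one.2 key.symm)
    rwa [orderOf_eq_one_iff, QuotientGroup.mk'_apply, QuotientGroup.eq_one_iff] at h2
  haveI := Cfsg.Agent.Fusion.pResidual_characteristic (p := p) (G := grpA F θ Eb P)
  have hdec : (⟨α, h.star_le_A hPT hα⟩ : grpA F θ Eb P) ∈
      (autInducedBy (preimageAlong θ T') P).subgroupOf (grpA F θ Eb P) ⊔
        pResidual p (grpA F θ Eb P) := by
    have hle : star p F θ Eb P ≤
        ((autInducedBy (preimageAlong θ T') P).subgroupOf (grpA F θ Eb P) ⊔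
          pResidual p (grpA F θ Eb P)).map (grpA F θ Eb P).subtype := by
      rw [Subgroup.map_sup, Subgroup.map_subgroupOf_eq_of_le (h.autT_le_A hPT)]
      exact le_rfl
    obtain ⟨a, ha, hae⟩ := hle hα
    have e : a = (⟨α, h.star_le_A hPT hα⟩ : grpA F θ Eb P) := Subtype.ext hae
    exact e ▸ ha
  obtain ⟨τ, hτ, r, hr, hτr⟩ := Subgroup.mem_sup_of_normal_right.1 hdec
  have hτα : (τ : MulAut P) * (r : MulAut P) = α := congrArg Subtype.val hτr
  replace hτ : (τ : MulAut P) ∈ autInducedBy (preimageAlong θ T') P := hτ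
  have hrS : r ∈ (Sy : Subgroup (grpA F θ Eb P)) := (hmemSy r).2 (by
    have := Subgroup.mul_mem _ (Subgroup.inv_mem _ (autInducedBy_mono pre_le hτ)) hαS
    rwa [← hτα, inv_mul_cancel_left] at this)
  rw [← hτα]
  exact Subgroup.mul_mem _ hτ (hres r hr hrS)

theorem good_mem (hM : Mem Z θ Eb P) {β : MulAut ↥(preimageAlong θ T')}
    (hgi : Iso F P Q (apl β)) : Mem Z θ Eb Q := h.mem_of_iso hM hgi

theorem star_inf_D_fn (hM : Mem Z θ Eb P) (hP : F.IsFullyNormalized P) {α : MulAut P}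
    (hα : α ∈ star p F θ Eb P) (hD : α ∈ grpD F Z P) : α ∈ grpI F Z P :=
  h.autT_inf_D_le hM (h.star_inf_autS hM hP hα (h.D_le_autS hP hD)) hD

theorem A_le_fn (hM : Mem Z θ Eb P) (hP : F.IsFullyNormalized P) :
    grpA F θ Eb P ≤ star p F θ Eb P ⊔ grpD F Z P := by
  haveI := finite_of_le hP.1
  haveI : Finite (MulAut P) := Finite.of_injective _ MulEquiv.toEquiv_injective
  obtain ⟨Sy, hSy⟩ := (sylIn_iff ((isPGroup_autInducedBy h.isP).to_le inf_le_left) inf_le_right).1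
    (h.sylIn_A hM.1 hM.2.1 hP)
  intro α hα
  have hle : (⊤ : Subgroup (grpA F θ Eb P)) ≤
      (star p F θ Eb P ⊔ grpD F Z P).subgroupOf (grpA F θ Eb P) := by
    rw [← Cfsg.Agent.Fusion.sylow_sup_pResidual Sy]
    refine sup_le (fun s hs => ?_) (fun r hr => ?_)
    · rw [hSy, Subgroup.mem_subgroupOf] at hs
      obtain ⟨τ, hτ, hτs⟩ := h.autS_dec hM hP s.2 hs.1
      have := Subgroup.mul_mem (star p F θ Eb P ⊔ grpD F Z P)
        (Subgroup.mem_sup_left (autT_le_star hτ)) (Subgroup.mem_sup_right hτs)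
      rwa [mul_inv_cancel_left] at this
    · exact Subgroup.mem_sup_left (resPart_le_star ⟨r, hr, rfl⟩)
  exact hle (Subgroup.mem_top (⟨α, hα⟩ : grpA F θ Eb P))

theorem star_inf_D (hM : Mem Z θ Eb P) (hG : Good F θ T' P) {α : MulAut P}
    (hα : α ∈ star p F θ Eb P) (hD : α ∈ grpD F Z P) : α ∈ grpI F Z P := by
  obtain ⟨Q, β, hβ, hQ, hgi⟩ := hG
  obtain ⟨hinv, hx⟩ := h.inv_iso_aut hβ hM.2.1 hgi
  have h1 := h.star_inf_D_fn (h.mem_of_iso hM hgi) hQ (h.star_transport_aut hM hβ hgi hα)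
    (h.conjAut_mem_D hgi hD)
  have h2 := h.conjAut_mem_I hinv h1
  rwa [conjAut_conjAut hgi hinv hx] at h2

theorem exists_star_D (hM : Mem Z θ Eb P) (hG : Good F θ T' P) {α : MulAut P}
    (hα : α ∈ grpA F θ Eb P) : ∃ σ ∈ star p F θ Eb P, σ⁻¹ * α ∈ grpD F Z P := by
  obtain ⟨Q, β, hβ, hQ, hgi⟩ := hG
  obtain ⟨hinv, hx⟩ := h.inv_iso_aut hβ hM.2.1 hgi
  have hMQ := h.mem_of_iso hM hgi
  let K : Subgroup (MulAut Q) :=
    { carrier := {a | a ∈ grpA F θ Eb Q ∧ ∃ σ ∈ star p F θ Eb Q, σ⁻¹ * a ∈ grpD F Z Q}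
      one_mem' := ⟨one_mem _, 1, one_mem _, by simp⟩
      mul_mem' := by
        rintro a b ⟨haA, σ, hσ, ha⟩ ⟨hbA, τ, hτ, hb⟩
        refine ⟨Subgroup.mul_mem _ haA hbA, σ * τ, Subgroup.mul_mem _ hσ hτ, ?_⟩
        have hd := h.conj_mem_D hQ.1 (Subgroup.inv_mem _ (h.star_le_A hMQ.2.1 hτ).1) ha
        rw [show (σ * τ)⁻¹ * (a * b) = τ⁻¹ * (σ⁻¹ * a) * τ⁻¹⁻¹ * (τ⁻¹ * b) by group]
        exact Subgroup.mul_mem _ hd hb
      inv_mem' := by
        rintro a ⟨haA, σ, hσ, ha⟩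
        refine ⟨Subgroup.inv_mem _ haA, σ⁻¹, Subgroup.inv_mem _ hσ, ?_⟩
        have hd := h.conj_mem_D hQ.1 (h.star_le_A hMQ.2.1 hσ).1 (Subgroup.inv_mem _ ha)
        convert hd using 1
        group }
  have hle : grpA F θ Eb Q ≤ K := fun a ha => by
    refine (h.A_le_fn hMQ hQ).trans (sup_le (fun σ hσ => ?_) fun d hd => ?_) ha
    · exact ⟨h.star_le_A hMQ.2.1 hσ, σ, hσ, by simp⟩
    · exact ⟨h.D_le_A hQ.1 hd, 1, one_mem _, by simpa using hd⟩
  obtain ⟨-, σ, hσ, hσα⟩ := hle (h.conjAut_mem_A hgi hM.1 hM.2.1 hMQ.2.1 hα)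
  refine ⟨hinv.conjAut σ, h.star_transport_aut hMQ (Subgroup.inv_mem _ hβ) hinv hσ, ?_⟩
  have h2 := h.conjAut_mem_D hinv hσα
  rwa [map_mul, map_inv, conjAut_conjAut hgi hinv hx] at h2

theorem star_normal_fn (hM : Mem Z θ Eb P) (hP : F.IsFullyNormalized P) {a α : MulAut P}
    (ha : a ∈ grpA F θ Eb P) (hα : α ∈ star p F θ Eb P) : a * α * a⁻¹ ∈ star p F θ Eb P := by
  have hGd : Good F θ T' P := ⟨P, 1, one_mem _, hP, (iso_id hP.1).congr fun x hx => apl_one (hM.2.1 hx)⟩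
  obtain ⟨σ, hσ, hd⟩ := h.exists_star_D hM hGd ha
  obtain ⟨d, hddef⟩ : ∃ d, d = σ⁻¹ * a := ⟨_, rfl⟩
  rw [← hddef] at hd
  have key : ∀ τ ∈ star p F θ Eb P, d * τ * d⁻¹ ∈ star p F θ Eb P := by
    suffices hle : star p F θ Eb P ≤ (star p F θ Eb P).comap (MulAut.conj d).toMonoidHom from
      fun τ hτ => hle hτ
    refine sup_le (fun τ hτ => ?_) fun τ hτ => ?_
    · obtain ⟨k, hk, hkn, hkx⟩ := mem_autInducedBy_iff.1 (h.D_le_autS hP hd)
      exact autT_le_star (autInducedBy_conj_mem hτ hkn (StronglyClosed.le_normalizer h.Tsc hk) hkx)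
    · exact resPart_le_star (resPart_normal (h.D_le_A hP.1 hd) hτ)
  rw [show a = σ * d by rw [hddef]; group]
  rw [show σ * d * α * (σ * d)⁻¹ = σ * (d * α * d⁻¹) * σ⁻¹ by group]
  exact Subgroup.mul_mem _ (Subgroup.mul_mem _ hσ (key α hα)) (Subgroup.inv_mem _ hσ)

end Setting

end Cfsg.Agent.FusSys.CL
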